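import Groth.Agent.L10.ShriekLoc.Finite
import Groth.Agent.L29.Dual.SchLocus
import Groth.Agent.L29.BCAdj.HomFlat
import Groth.Prelude.Def_Dual3

/-!
The upper shriek through a compactification, on charts of the original morphism.
-/

set_option autoImplicit false
set_option linter.style.haveILetI false
set_option backward.defeqAttrib.useBackward true
set_option backward.isDefEq.respectTransparency false
set_option backward.isDefEq.respectTransparency.types false

universe u

open CategoryTheory CategoryTheory.Limits AlgebraicGeometry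

attribute [local instance] HasDerivedCategory.standard

noncomputable section

namespace Groth.L10.ShriekLoc

open Groth.L00 Groth.L29 Groth.L29.DC Groth.L29.BCAdj

variable {X Y : Scheme.{u}} {f : X ⟶ Y}

/-- a chart of `f` gives a chart of a morphism through which `f` factors by an open immersion -/
@[reducible] def Chart.comp {Z : Scheme.{u}} {g : X ⟶ Z} [IsOpenImmersion g] {h : Z ⟶ Y} (w : g ≫ h = f)
    (C : Chart f) : Chart h where
  R := C.R
  A := C.A
  jV := C.jV
  jU := C.jU ≫ g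
  w := by rw [Category.assoc, w, C.w]

theorem isNoetherian_of_sepFT {S : Scheme.{u}} [IsNoetherian S] (q : Y ⟶ S) [Dual3.IsSepFT q] :
    IsNoetherian Y := by
  haveI : IsLocallyNoetherian Y := LocallyOfFiniteType.isLocallyNoetherian q
  haveI : CompactSpace Y := QuasiCompact.compactSpace_of_compactSpace q
  exact {}

theorem isGE_O (O : DCoh.DQCoh Y) (hO : Nonempty (O.obj ≅ DCoh.inD Y (Coh.structureModule Y))) :
    O.obj.IsGE 0 := by
  obtain ⟨o⟩ := hO
  exact (DerivedCategory.isGE_iff _ _).2 fun i hi =>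
    (DerivedCategory.isZero_of_isGE _ 0 i hi).of_iso ((DerivedCategory.homologyFunctor _ i).mapIso o)

theorem subsingleton_O (R : Type u) [CommRing R] (i : ℤ) (hi : i < 0) :
    Subsingleton (Dual.HD R (Dual.inD R R) i) :=
  ModuleCat.subsingleton_of_isZero (DerivedCategory.isZero_of_isGE _ 0 i hi)

theorem nonempty_O (C : Chart f) [PreservesFiniteLimits (tilde.functor (CommRingCat.of C.R))]
    [DCoh.HasLpull C.jV] (O : DCoh.DQCoh Y) (hO : Nonempty (O.obj ≅ DCoh.inD Y (Coh.structureModule Y))) :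
    Nonempty ((DCoh.tildeD (CommRingCat.of C.R)).obj (Dual.inD C.R C.R) ≅ (DCoh.Lpull C.jV).obj O.obj) := by
  obtain ⟨o⟩ := hO
  obtain ⟨l⟩ := Groth.L29.BCAdj.nonempty_Lpull_OD C.jV
  haveI : (tilde.functor (CommRingCat.of C.R)).IsLeftAdjoint := tilde.adjunction.isLeftAdjoint
  exact ⟨((tilde.functor (CommRingCat.of C.R)).mapDerivedCategorySingleFunctor 0).app (ModuleCat.of C.R C.R) ≪≫
    (DerivedCategory.singleFunctor (Spec (CommRingCat.of C.R)).Modules 0).mapIso tildeSelf ≪≫ l.symm ≪≫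
    (DCoh.Lpull C.jV).mapIso o.symm⟩

set_option maxHeartbeats 1600000 in
/-- on a chart of `f`, `f^!` is the algebraic upper shriek -/
theorem nonempty_shriekC [IsNoetherian Y] (c : DEt.Compactification f) [DCoh.HasRpush c.fbar]
    {hc : DCoh.RpushPreservesQCoh c.fbar} {a : DCoh.DQCoh Y ⥤ DCoh.DQCoh c.Xbar}
    (adj : DCoh.RpushQ c.fbar hc ⊣ a) [PreservesFiniteLimits (Scheme.Modules.restrictFunctor c.j)]
    (C : Chart f)
    [PreservesFiniteLimits (tilde.functor (CommRingCat.of C.R))]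
    [PreservesFiniteLimits (tilde.functor (CommRingCat.of C.A))]
    [DCoh.HasLpull C.jV] [DCoh.HasLpull C.jU]
    (n : ℕ) (ψ : MvPolynomial (Fin n) C.R →ₐ[C.R] C.A) (hψ : Function.Surjective ψ)
    [DRing.HasLBaseChange (algebraMap C.R (MvPolynomial (Fin n) C.R))]
    (Rψ : Dual.D (MvPolynomial (Fin n) C.R) ⥤ Dual.D C.A) (adjψ : DRing.restrictD ψ.toRingHom ⊣ Rψ)
    (K : DCoh.DQCoh Y) (c₀ : ℤ) (hK : K.obj.IsGE c₀) (M : Dual.D C.R)
    (e : Nonempty ((DCoh.tildeD (CommRingCat.of C.R)).obj M ≅ (DCoh.Lpull C.jV).obj K.obj)) :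
    Nonempty ((DCoh.Lpull C.jU).obj ((Dual3.shriekC c a).obj K) ≅
      (DCoh.tildeD (CommRingCat.of C.A)).obj (Dual2.shriekVia n Rψ M)) := by
  haveI := fun {A B : Scheme.{u}} (k : A ⟶ B) => KFlat.hasLpull k
  let C' : Chart c.fbar := C.comp c.fac
  haveI : DCoh.HasLpull C'.jU := KFlat.hasLpull _
  haveI : PreservesFiniteLimits (tilde.functor (CommRingCat.of C'.R)) := ‹_›
  haveI : PreservesFiniteLimits (tilde.functor (CommRingCat.of C'.A)) := by assumption
  obtain ⟨t⟩ := nonempty_chart C' adj n ψ hψ Rψ adjψ K c₀ hK M e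
  obtain ⟨l⟩ := Groth.L10.FMBC.nonempty_lpull_comp' C.jU c.j (show C.jU ≫ c.j = C'.jU from rfl)
  obtain ⟨r⟩ := nonempty_Lpull_iso_restrictD c.j (a.obj K).obj
  exact ⟨(DCoh.Lpull C.jU).mapIso r.symm ≪≫ l.app _ ≪≫ t⟩

/-- the stalks of the cohomology of `f^!` on a chart -/
theorem nontrivial_stalk {L : DCoh.D X} (C : Chart f) [DCoh.HasLpull C.jU]
    [PreservesFiniteLimits (tilde.functor (CommRingCat.of C.A))] {N : Dual.D C.A}
    (e : Nonempty ((DCoh.Lpull C.jU).obj L ≅ (DCoh.tildeD (CommRingCat.of C.A)).obj N))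
    (q : Spec (CommRingCat.of C.A)) (i : ℤ) :
    Nontrivial ((DCoh.HD L i).presheaf.stalk (C.jU q)) ↔ q ∈ Module.support C.A (Dual.HD C.A N i) := by
  obtain ⟨r⟩ := nonempty_Lpull_iso_restrictD C.jU L
  obtain ⟨e⟩ := e
  exact Groth.L29.SchLocus.nontrivial_stalk_iff C.jU (r.symm ≪≫ e) q i

end Groth.L10.ShriekLoc
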