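import Groth.Agent.L10.ShriekLoc.FieldDual
import Groth.Agent.L22.FibreDim
import Groth.Agent.L16.CohClosedPush
import Groth.Agent.L10.ShriekLoc.Compact

/-!
The support of the lowest cohomology of the dualizing object of a scheme proper over a field.
-/

set_option autoImplicit false
set_option linter.style.haveILetI false
set_option backward.defeqAttrib.useBackward true
set_option backward.isDefEq.respectTransparency false
set_option backward.isDefEq.respectTransparency.types false

universe u

open CategoryTheory CategoryTheory.Limits AlgebraicGeometry L02.FibDepth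

attribute [local instance] HasDerivedCategory.standard

noncomputable section

namespace Groth.L10.ShriekLoc

open Groth.L29 Groth.L29.DC Groth.L29.HomD

variable (k : Type u) [Field k] {X : Scheme.{u}} {f : X ⟶ Spec (CommRingCat.of k)} [IsProper f]
    [DCoh.HasRpush f] {hf : DCoh.RpushPreservesQCoh f}
    {a : DCoh.DQCoh (Spec (CommRingCat.of k)) ⥤ DCoh.DQCoh X} (adj : DCoh.RpushQ f hf ⊣ a)
    (O : DCoh.DQCoh (Spec (CommRingCat.of k)))
    (hO : Nonempty (O.obj ≅ DCoh.inD (Spec (CommRingCat.of k)) (Coh.structureModule (Spec (CommRingCat.of k)))))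

omit [DCoh.HasRpush f] [IsProper f] in
theorem dim_le_of_components (d : ℕ)
    (hd : ∀ Z : Set X, Z ∈ irreducibleComponents X → topologicalKrullDim ↥Z ≤ (d : WithBot ℕ∞)) :
    topologicalKrullDim X ≤ (d : WithBot ℕ∞) := by
  rw [Groth.L22.FibreDim.topologicalKrullDim_eq_iSup_closure]
  exact iSup_le fun x => (Groth.L22.SchemeDim.topologicalKrullDim_mono
    (closure_minimal (Set.singleton_subset_iff.2 mem_irreducibleComponent) isClosed_irreducibleComponent)).trans
    (hd _ (irreducibleComponent_mem_irreducibleComponents x))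

omit [DCoh.HasRpush f] [IsProper f] in
theorem ringKrullDim_le_of_chart {A : Type u} [CommRing A] (jU : Spec (CommRingCat.of A) ⟶ X) [IsOpenImmersion jU] :
    ringKrullDim A ≤ topologicalKrullDim X := by
  rw [← PrimeSpectrum.topologicalKrullDim_eq_ringKrullDim]
  exact jU.isOpenEmbedding.isInducing.topologicalKrullDim_le

include adj hO in
theorem isCoh_field (i : ℤ) : Coh.IsCoh (DCoh.HD (a.obj O).obj i) := by
  refine isCoh_HD adj O 0 (isGE_O O hO) (fun j => ?_) i
  obtain ⟨o⟩ := hO
  by_cases h : j = 0
  · subst h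
    exact Groth.L16.CohSupport.isCoh_of_iso
      ((DerivedCategory.homologyFunctor _ 0).mapIso o ≪≫
        (DerivedCategory.singleFunctorCompHomologyFunctorIso _ 0).app (Coh.structureModule _)).symm
      Groth.L16.CohClosedPush.isCoh_structure
  · refine Groth.L29.DC.RHomC.isCoh_of_isZero (IsZero.of_iso ?_ ((DerivedCategory.homologyFunctor _ j).mapIso o))
    rcases lt_or_gt_of_ne h with h | h
    · exact DerivedCategory.isZero_of_isGE _ 0 j h
    · exact DerivedCategory.isZero_of_isLE _ 0 j h

include adj hO in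
theorem isClosed_supp (i : ℤ) : IsClosed {x : X | Nontrivial ((DCoh.HD (a.obj O).obj i).presheaf.stalk x)} := by
  haveI : IsLocallyNoetherian X := LocallyOfFiniteType.isLocallyNoetherian f
  have hcoh := isCoh_field k adj O hO i
  haveI := hcoh.1
  convert Groth.L16.CohSupport.isClosed_support _ hcoh.2 using 1
  exact Set.ext fun x => not_subsingleton_iff_nontrivial.symm

include adj hO in
/-- components of top dimension lie in the support of the lowest cohomology -/
theorem component_subset (d : ℕ) (hd : topologicalKrullDim X ≤ (d : WithBot ℕ∞)) (Z : Set X)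
    (hZ : Z ∈ irreducibleComponents X) (hZd : (d : WithBot ℕ∞) ≤ topologicalKrullDim ↥Z) :
    Z ⊆ {x : X | Nontrivial ((DCoh.HD (a.obj O).obj (-(d : ℤ))).presheaf.stalk x)} := by
  haveI := fun (R : CommRingCat.{u}) => Groth.L18.TildeF.tilde_preservesFiniteLimits (R := R)
  obtain ⟨η, hη⟩ := QuasiSober.sober hZ.1 (isClosed_of_mem_irreducibleComponents _ hZ)
  obtain ⟨A, _, _, _, jU, _, ω, ⟨q, hq⟩, hω, -, ⟨e⟩⟩ := exists_chart_field k adj O hO η
  obtain ⟨hamp, hsup⟩ := amplitude_and_support k adj O hO d hd
  obtain ⟨i, hi⟩ := Groth.L29.SchLocus.exists_mem_support hω q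
  rw [(HomD.evalShiftEquiv (W := ω) i).support_eq] at hi
  have hnt : Nontrivial ((DCoh.HD (a.obj O).obj i).presheaf.stalk η) :=
    hq ▸ (Groth.L29.SchLocus.nontrivial_stalk_iff jU e q i).2 hi
  have hrange : -(d : ℤ) ≤ i ∧ i ≤ 0 := by
    by_contra h
    have hz := hamp i (by omega)
    exact not_subsingleton_iff_nontrivial.2 hnt ((Groth.L21.Mod.isZero_iff_stalk_subsingleton _).1 hz η)
  obtain ⟨m, hm⟩ := Int.eq_ofNat_of_zero_le (show (0 : ℤ) ≤ -i by omega)
  have hsub : Z ⊆ {x : X | Nontrivial ((DCoh.HD (a.obj O).obj i).presheaf.stalk x)} :=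
    hη.def ▸ closure_minimal (Set.singleton_subset_iff.2 hnt) (isClosed_supp k adj O hO i)
  have h1 := hZd.trans ((Groth.L22.SchemeDim.topologicalKrullDim_mono hsub).trans (hsup i m hm.symm))
  have h2 : d ≤ m := by exact_mod_cast h1
  obtain rfl : i = -(d : ℤ) := by omega
  exact hsub

end Groth.L10.ShriekLoc
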