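import Groth.Agent.L10.ShriekLoc.Global
import Groth.Agent.L02.CMMor.AffineChart

/-!
Affine charts of a Cohen–Macaulay morphism: flat quasi-finite over affine space.
-/

set_option autoImplicit false
set_option linter.style.haveILetI false
set_option backward.defeqAttrib.useBackward true
set_option backward.isDefEq.respectTransparency false
set_option backward.isDefEq.respectTransparency.types false

universe u

open CategoryTheory CategoryTheory.Limits AlgebraicGeometry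

noncomputable section

namespace Groth.L10.ShriekLoc

variable {X Y : Scheme.{u}}

set_option maxHeartbeats 1600000 in
theorem exists_chart_cm (f : X ⟶ Y) [LocallyOfFinitePresentation f] (x : X) (h : MoreMor.IsCMAt f x) :
    ∃ (c : ℕ) (C : Chart f) (φ : MvPolynomial (Fin c) C.R →ₐ[C.R] C.A),
      x ∈ Set.range C.jU ∧ φ.toRingHom.Flat ∧ φ.toRingHom.QuasiFinite := by
  obtain ⟨c, U, hxU, g, hg, _, hflat⟩ := L02.CMMor.exists_chart f x h
  let π := AffineSpace (ULift.{u} (Fin c)) Y ↘ Y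
  haveI : Smooth π := L02.CMMor.smooth_affineSpace _ Y
  haveI : LocallyOfFinitePresentation (g ≫ π) := by rw [hg]; infer_instance
  haveI : LocallyOfFinitePresentation g := Groth.L20.locallyOfFinitePresentation_of_comp g π
  let O : (U : Scheme.{u}).Opens := ⟨{y | (g.stalkMap y).hom.Flat}, Groth.L20.isOpen_flat_stalkMap g⟩
  obtain ⟨_, ⟨V, hV, rfl⟩, hxV, -⟩ :=
    Y.isBasis_affineOpens.exists_subset_of_mem_open (Set.mem_univ (f x)) isOpen_univ
  obtain ⟨_, ⟨W, hW, rfl⟩, hxW, hWle⟩ :=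
    X.isBasis_affineOpens.exists_subset_of_mem_open (show x ∈ (U.ι ''ᵁ O ⊓ f ⁻¹ᵁ V : X.Opens) from
      ⟨⟨⟨x, hxU⟩, hflat, rfl⟩, hxV⟩) (U.ι ''ᵁ O ⊓ f ⁻¹ᵁ V).2
  have hle : W ≤ f ⁻¹ᵁ V := fun y hy => (hWle hy).2
  letI : Algebra Γ(Y, V) Γ(X, W) := (f.appLE V W hle).hom.toAlgebra
  let C : Chart f :=
    { R := Γ(Y, V), A := Γ(X, W), jV := hV.fromSpec, jU := hW.fromSpec,
      w := (IsAffineOpen.SpecMap_appLE_fromSpec f hV hW hle).symm }
  let k : Spec Γ(X, W) ⟶ (U : Scheme.{u}) := IsOpenImmersion.lift U.ι hW.fromSpec (by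
    rw [hW.range_fromSpec, Scheme.Opens.range_ι]
    intro y hy
    obtain ⟨z, -, rfl⟩ := (hWle hy).1
    exact z.2)
  have hk : k ≫ U.ι = hW.fromSpec := IsOpenImmersion.lift_fac _ _ _
  haveI : IsOpenImmersion (k ≫ U.ι) := by rw [hk]; infer_instance
  haveI : IsOpenImmersion k := IsOpenImmersion.of_comp k U.ι
  have hkO : ∀ z, (g.stalkMap (k z)).hom.Flat := fun z => by
    obtain ⟨y, hy, hyz⟩ := (hWle (show hW.fromSpec z ∈ (W : Set X) from hW.range_fromSpec.le ⟨z, rfl⟩)).1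
    have : k z = y := U.ι.isOpenEmbedding.injective (((Scheme.Hom.comp_apply k U.ι z).symm.trans
      (by rw [hk])).trans hyz.symm)
    rw [this]
    exact hy
  haveI : Flat (k ≫ g) := by
    refine (Flat.iff_flat_stalkMap _).mpr fun z => ?_
    rw [Scheme.Hom.stalkMap_comp]
    exact RingHom.Flat.comp (hkO z) (RingHom.Flat.of_bijective
      (ConcreteCategory.bijective_of_isIso (k.stalkMap z)))
  have hp := AffineSpace.isPullback_map (n := ULift.{u} (Fin c)) hV.fromSpec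
  have hw : (k ≫ g) ≫ π =
      Spec.map (CommRingCat.ofHom (algebraMap Γ(Y, V) Γ(X, W))) ≫ hV.fromSpec := by
    rw [Category.assoc, hg, ← Category.assoc, hk]
    exact C.w
  let l := hp.lift (k ≫ g) _ hw
  have hl₁ : l ≫ AffineSpace.map (ULift.{u} (Fin c)) hV.fromSpec = k ≫ g := hp.lift_fst _ _ _
  have hl₂ := hp.lift_snd _ _ hw
  haveI : IsOpenImmersion (AffineSpace.map (ULift.{u} (Fin c)) hV.fromSpec) :=
    MorphismProperty.of_isPullback hp.flip inferInstance
  haveI : Flat (l ≫ AffineSpace.map (ULift.{u} (Fin c)) hV.fromSpec) := by rw [hl₁]; infer_instance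
  haveI : LocallyQuasiFinite (l ≫ AffineSpace.map (ULift.{u} (Fin c)) hV.fromSpec) := by rw [hl₁]; infer_instance
  haveI : Flat l := MorphismProperty.of_postcomp (W := @Flat) (W' := @IsOpenImmersion) _
    (AffineSpace.map (ULift.{u} (Fin c)) hV.fromSpec) inferInstance inferInstance
  haveI : LocallyQuasiFinite l := LocallyQuasiFinite.of_comp l (AffineSpace.map (ULift.{u} (Fin c)) hV.fromSpec)
  let h' : Spec Γ(X, W) ⟶ Spec (CommRingCat.of (MvPolynomial (ULift.{u} (Fin c)) Γ(Y, V))) :=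
    l ≫ (AffineSpace.SpecIso (ULift.{u} (Fin c)) Γ(Y, V)).hom
  obtain ⟨φ0, hφ0⟩ : ∃ φ0, Spec.map φ0 = h' := ⟨Spec.preimage h', Spec.map_preimage h'⟩
  haveI : Flat h' := inferInstanceAs (Flat (l ≫ _))
  haveI : LocallyQuasiFinite h' := inferInstanceAs (LocallyQuasiFinite (l ≫ _))
  have hC : CommRingCat.ofHom (MvPolynomial.C : Γ(Y, V) →+* MvPolynomial (ULift.{u} (Fin c)) Γ(Y, V)) ≫ φ0 =
      CommRingCat.ofHom (algebraMap Γ(Y, V) Γ(X, W)) := by
    refine Spec.map_injective ?_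
    rw [Spec.map_comp, hφ0]
    show (l ≫ (AffineSpace.SpecIso (ULift.{u} (Fin c)) Γ(Y, V)).hom) ≫ _ = _
    rw [Category.assoc, ← AffineSpace.SpecIso_inv_over, Iso.hom_inv_id_assoc]
    exact hl₂
  let re := MvPolynomial.renameEquiv Γ(Y, V) (Equiv.ulift : ULift.{u} (Fin c) ≃ Fin c)
  let φ1 : MvPolynomial (ULift.{u} (Fin c)) Γ(Y, V) →ₐ[Γ(Y, V)] Γ(X, W) :=
    { φ0.hom with commutes' := fun r => congrArg (fun m : Γ(Y, V) ⟶ Γ(X, W) => m.hom r) hC }
  have hfl : φ0.hom.Flat := Flat.SpecMap_iff.1 (by rw [hφ0]; infer_instance)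
  have hqf : φ0.hom.QuasiFinite := (HasRingHomProperty.Spec_iff (P := @LocallyQuasiFinite)).1 (by rw [hφ0]; infer_instance)
  refine ⟨c, C, φ1.comp re.symm.toAlgHom, hW.range_fromSpec.ge hxW, ?_, ?_⟩
  · exact RingHom.Flat.comp (RingHom.Flat.of_bijective re.symm.bijective) hfl
  · exact RingHom.QuasiFinite.comp hqf
      (RingHom.QuasiFinite.of_finite (RingHom.Finite.of_surjective _ re.symm.surjective))

end Groth.L10.ShriekLoc
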