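import Groth.Agent.L10.ShriekLoc.CMTop
import Groth.Agent.L10.Shriek.GorFibres
import Groth.Agent.L10.DRing.Nilpotent
import Groth.Agent.L07.FibreDimAlg
import Mathlib.RingTheory.LocalRing.Module

/-!
A relative dualizing complex in one degree: full support, and Cohen–Macaulay fibres.
-/

set_option autoImplicit false
set_option linter.style.haveILetI false
set_option backward.defeqAttrib.useBackward true
set_option backward.isDefEq.respectTransparency false
set_option backward.isDefEq.respectTransparency.types false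

universe u

open CategoryTheory CategoryTheory.Limits TensorProduct

attribute [local instance] HasDerivedCategory.standard

noncomputable section

namespace Groth.L10.ShriekLoc

open Groth.L29 Groth.L10.DR Groth.L02.PC

theorem nontrivial_tensor_field (k K V : Type u) [Field k] [AddCommGroup K] [Module k K] [Nontrivial K]
    [AddCommGroup V] [Module k V] [Nontrivial V] : Nontrivial (K ⊗[k] V) := inferInstance

theorem mem_support_baseChange {A B : Type u} [CommRing A] [CommRing B] [Algebra A B] (H : Type u)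
    [AddCommGroup H] [Module A H] [Module.Finite A H] (Q : PrimeSpectrum B)
    (h : PrimeSpectrum.comap (algebraMap A B) Q ∈ Module.support A H) :
    Q ∈ Module.support B (B ⊗[A] H) := by
  rw [Module.mem_support_iff_nontrivial_residueField_tensorProduct] at h ⊢
  haveI := h
  let q := Q.asIdeal.under A
  let K := Q.asIdeal.ResidueField
  haveI : Nontrivial (q.ResidueField ⊗[A] H) := h
  letI : Algebra q.ResidueField K := (Ideal.ResidueField.map q Q.asIdeal (algebraMap A B) rfl).toAlgebra
  haveI : IsScalarTower A q.ResidueField K := IsScalarTower.of_algebraMap_eq fun x => by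
    show algebraMap A K x = Ideal.ResidueField.map q Q.asIdeal (algebraMap A B) rfl (algebraMap A q.ResidueField x)
    rw [Ideal.ResidueField.map_algebraMap, ← IsScalarTower.algebraMap_apply]
  rw [(AlgebraTensorModule.cancelBaseChange A B K K H).nontrivial_congr,
    ← (AlgebraTensorModule.cancelBaseChange A q.ResidueField K K H).nontrivial_congr]
  exact nontrivial_tensor_field q.ResidueField K (q.ResidueField ⊗[A] H)

/-- right exactness of base change at the top degree -/
theorem lbc_top {A B : Type u} [CommRing A] [CommRing B] (φ : A →+* B) [DRing.HasLBaseChange φ]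
    (K : Dual.D A) (n : ℤ) (h : ∀ i, n < i → Subsingleton (Dual.HD A K i)) :
    (∀ i, n < i → Subsingleton (Dual.HD B ((DRing.LBaseChange φ).obj K) i)) ∧
      letI := φ.toAlgebra
      Nonempty (Dual.HD B ((DRing.LBaseChange φ).obj K) n ≃ₗ[B] B ⊗[A] Dual.HD A K n) := by
  obtain ⟨Q, hQb, hQf, hQk, ⟨e⟩⟩ := exists_free_rep (K := K) (n := n)
    (fun i hi => haveI := h i hi; @ModuleCat.isZero_of_subsingleton _ _ _ (h i hi))
  haveI := hQk
  have hb : DRing.VanishesAbove ((bcCx φ).obj Q) n := fun i hi =>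
    (ModuleCat.extendScalars.{u, u, u} φ).map_isZero (hQb i hi)
  let e' := (lbcIso φ Q).symm ≪≫ (DRing.LBaseChange φ).mapIso e
  refine ⟨fun i hi => ModuleCat.subsingleton_of_isZero ((HH_iso_zero e' i).2
    (((bcCx φ).obj Q).exactAt_iff_isZero_homology i |>.1 (HomologicalComplex.ExactAt.of_isZero (hb i hi)))), ?_⟩
  letI := φ.toAlgebra
  haveI := HomologicalComplex.isIso_homologyι Q n (n + 1) (by simp) ((hQb (n + 1) (by omega)).eq_of_tgt _ _)
  haveI := HomologicalComplex.isIso_homologyι ((bcCx φ).obj Q) n (n + 1) (by simp)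
    ((hb (n + 1) (by omega)).eq_of_tgt _ _)
  let c₁ : Q.homology n ≅ cokernel (Q.d (n - 1) n) := asIso (Q.homologyι n) ≪≫
    IsColimit.coconePointUniqueUpToIso (Q.opcyclesIsCokernel (n - 1) n (by simp)) (colimit.isColimit _)
  let c₂ : ((bcCx φ).obj Q).homology n ≅ cokernel (((bcCx φ).obj Q).d (n - 1) n) :=
    asIso (((bcCx φ).obj Q).homologyι n) ≪≫
      IsColimit.coconePointUniqueUpToIso (((bcCx φ).obj Q).opcyclesIsCokernel (n - 1) n (by simp))
        (colimit.isColimit _)
  haveI : (ModuleCat.extendScalars.{u, u, u} φ).IsLeftAdjoint :=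
    (ModuleCat.extendRestrictScalarsAdj φ).isLeftAdjoint
  let i1 : (HH n).obj ((DRing.LBaseChange φ).obj K) ≅
      (ModuleCat.extendScalars.{u, u, u} φ).obj ((HH n).obj K) :=
    (DerivedCategory.homologyFunctor (ModuleCat.{u} B) n).mapIso e'.symm ≪≫
      (DerivedCategory.homologyFunctorFactors _ n).app _ ≪≫ c₂ ≪≫
      (PreservesCokernel.iso (ModuleCat.extendScalars.{u, u, u} φ) (Q.d (n - 1) n)).symm ≪≫
      (ModuleCat.extendScalars.{u, u, u} φ).mapIso (c₁.symm ≪≫
        ((DerivedCategory.homologyFunctorFactors _ n).app Q).symm ≪≫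
        (DerivedCategory.homologyFunctor (ModuleCat.{u} A) n).mapIso e)
  exact ⟨i1.toLinearEquiv.trans (Groth.L29.FlatBC.extEquiv A B ((HH n).obj K))⟩

variable {R A : Type u} [CommRing R] [CommRing A] [IsNoetherianRing R] [IsNoetherianRing A] [Algebra R A]
  [Module.Flat R A] (n : ℕ)
  (ψ : MvPolynomial (Fin n) R →ₐ[R] A) (hψ : Function.Surjective ψ)
  [DRing.HasLBaseChange (algebraMap R (MvPolynomial (Fin n) R))]
  {Rψ : Dual.D (MvPolynomial (Fin n) R) ⥤ Dual.D A} (adj : DRing.restrictD ψ.toRingHom ⊣ Rψ)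

include hψ adj in
/-- `ω` in one degree has full support -/
theorem mem_support_of_single (m : ℤ)
    (h : ∀ i, i ≠ m → Subsingleton (Dual.HD A (Dual2.shriekVia n Rψ (Dual.inD R R)) i)) (q : PrimeSpectrum A) :
    q ∈ Module.support A (Dual.HD A (Dual2.shriekVia n Rψ (Dual.inD R R)) m) := by
  let ω := Dual2.shriekVia n Rψ (Dual.inD R R)
  obtain ⟨-, hfin, -, ⟨hbij, -⟩, -⟩ := Groth.Agent.S1801.result R A n ψ hψ Rψ adj
  haveI := hfin m
  have hzero : ∀ i, i ≠ m → IsZero ((HH i).obj ω) := fun i hi => @ModuleCat.isZero_of_subsingleton _ _ _ (h i hi)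
  haveI : ω.IsGE m := (DerivedCategory.isGE_iff _ _).2 fun i hi => hzero i (ne_of_lt hi)
  haveI : ω.IsLE m := (DerivedCategory.isLE_iff _ _).2 fun i hi => hzero i (ne_of_gt hi)
  obtain ⟨e⟩ := Groth.L10.exists_iso_single_H (A := ModuleCat.{u} A) ω m
  let H : ModuleCat.{u} A := (DerivedCategory.homologyFunctor (ModuleCat.{u} A) m).obj ω
  have hann : Module.annihilator A H = ⊥ := by
    refine (Submodule.eq_bot_iff _).2 fun a ha => hbij.1 ?_
    have h0 : a • 𝟙 H = 0 := ModuleCat.hom_ext (LinearMap.ext fun x => Module.mem_annihilator.1 ha x)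
    show a • 𝟙 ω = (0 : A) • 𝟙 ω
    have h1 : a • 𝟙 ((DerivedCategory.singleFunctor (ModuleCat.{u} A) m).obj H) = 0 := by
      rw [← CategoryTheory.Functor.map_id, ← Functor.map_smul, h0, Functor.map_zero]
    have h2 : a • 𝟙 ω = e.hom ≫ (a • 𝟙 ((DerivedCategory.singleFunctor (ModuleCat.{u} A) m).obj H)) ≫ e.inv := by
      simp [H]
    rw [zero_smul, h2, h1]
    simp
  show q ∈ Module.support A H
  rw [Module.support_eq_zeroLocus, hann, PrimeSpectrum.mem_zeroLocus]
  exact (bot_le : (⊥ : Ideal A) ≤ q.asIdeal)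

include hψ adj in
/-- `ω` in one degree: the fibres are Cohen–Macaulay -/
theorem cm_fibre_of_single (m : ℤ)
    (h : ∀ i, i ≠ m → Subsingleton (Dual.HD A (Dual2.shriekVia n Rψ (Dual.inD R R)) i))
    (k : Type u) [Field k] [Algebra R k] (Q : PrimeSpectrum (k ⊗[R] A)) :
    LocCoh.IsCohenMacaulayLocalRing (Localization.AtPrime Q.asIdeal) := by
  let ω := Dual2.shriekVia n Rψ (Dual.inD R R)
  let ι := (Algebra.TensorProduct.includeRight : A →ₐ[R] k ⊗[R] A).toRingHom
  haveI := Groth.L10.KFlatLBC.hasLBaseChange ι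
  obtain ⟨-, hfin, -, -, hdual⟩ := Groth.Agent.S1801.result R A n ψ hψ Rψ adj
  haveI := hfin m
  have hF := hdual k
  haveI := hF.isNoetherianRing
  obtain ⟨h1, h2⟩ := lbc_top ι ω m fun i hi => h i (ne_of_gt hi)
  refine cm_at_of_top _ hF m Q (fun i hi => ?_) fun P _ => ?_
  · haveI := h1 i hi
    exact fun hm => (Set.notMem_empty Q) (Module.support_eq_empty (R := k ⊗[R] A)
      (M := Dual.HD (k ⊗[R] A) ((DRing.LBaseChange ι).obj ω) i) ▸ hm)
  · letI := ι.toAlgebra
    obtain ⟨E⟩ := h2
    rw [E.support_eq]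
    exact mem_support_baseChange _ P (mem_support_of_single n ψ hψ adj m h _)

end Groth.L10.ShriekLoc
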