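import Groth.Agent.L10.Shriek.FlatRange
import Groth.Agent.L10.Shriek.Adjoint
import Groth.Agent.L10.Shriek.BC
import Groth.Agent.L29.Shriek.Epi
import Groth.Agent.L10.DRing.TorRestrict
import Groth.Agent.L22.FibreCodim
import Groth.Agent.S1799
import Groth.Agent.L29.DCoh.LBC

/-!
Flat quasi-finite over affine space: the relative dualizing complex lives in one degree.
-/

set_option autoImplicit false
set_option linter.style.haveILetI false
set_option backward.defeqAttrib.useBackward true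
set_option backward.isDefEq.respectTransparency false
set_option backward.isDefEq.respectTransparency.types false

universe u

open CategoryTheory CategoryTheory.Limits AlgebraicGeometry

attribute [local instance] HasDerivedCategory.standard

noncomputable section

namespace Groth.L10.ShriekLoc

open Groth.L29 Groth.L10.DR

theorem fibreDimAt_le_zero {P A : Type u} [CommRing P] [CommRing A] [Algebra P A] [Algebra.FiniteType P A]
    (h : Algebra.QuasiFinite P A) (q : Spec (CommRingCat.of A)) :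
    FlatMor.fibreDimAt (Spec.map (CommRingCat.ofHom (algebraMap P A))) q ≤ ((0 : ℕ) : WithBot ℕ∞) := by
  haveI : LocallyQuasiFinite (Spec.map (CommRingCat.ofHom (algebraMap P A))) :=
    HasRingHomProperty.Spec_iff.2 (RingHom.quasiFinite_algebraMap.2 h)
  haveI : LocallyOfFiniteType (Spec.map (CommRingCat.ofHom (algebraMap P A))) :=
    HasRingHomProperty.Spec_iff.2 (RingHom.finiteType_algebraMap.2 inferInstance)
  exact Groth.L22.FibreCodim.fibreDimAt_le_zero_of_quasiFiniteAt _ q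
    (Scheme.Hom.quasiFiniteAt (Spec.map (CommRingCat.ofHom (algebraMap P A))) q)

theorem nonempty_shift_out {C D : Type*} [Category C] [Category D] [HasShift C ℤ] [HasShift D ℤ] (F : C ⥤ D)
    [F.CommShift ℤ] {K L : C} (c m : ℤ) (e : K ≅ L⟦c⟧) : Nonempty ((F.obj K)⟦m⟧ ≅ ((F.obj L)⟦m⟧)⟦c⟧) :=
  ⟨(shiftFunctor D m).mapIso (F.mapIso e ≪≫ (F.commShiftIso c).app L) ≪≫ shiftComm (F.obj L) c m⟩

set_option maxHeartbeats 1600000 in
theorem amp_of_qf_flat {R A : Type u} [CommRing R] [CommRing A] [IsNoetherianRing R] [IsNoetherianRing A]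
    [Algebra R A] (n : ℕ) (ψ : MvPolynomial (Fin n) R →ₐ[R] A) (hψ : Function.Surjective ψ)
    [DRing.HasLBaseChange (algebraMap R (MvPolynomial (Fin n) R))]
    (Rψ : Dual.D (MvPolynomial (Fin n) R) ⥤ Dual.D A) (adj : DRing.restrictD ψ.toRingHom ⊣ Rψ)
    (c : ℕ) (φ : MvPolynomial (Fin c) R →ₐ[R] A) (hfl : φ.toRingHom.Flat) (hqf : φ.toRingHom.QuasiFinite) :
    DRing.HasTorAmplitudeIn R (-(c : ℤ)) (-(c : ℤ))
      ((DRing.restrictD (algebraMap R A)).obj (Dual2.shriekVia n Rψ (Dual.inD R R))) := by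
  let P := MvPolynomial (Fin c) R
  letI : Algebra P A := φ.toRingHom.toAlgebra
  haveI : IsScalarTower R P A := IsScalarTower.of_algebraMap_eq fun r => (φ.commutes r).symm
  haveI : Module.Flat P A := hfl
  haveI hqf' : Algebra.QuasiFinite P A := hqf
  haveI : Algebra.FiniteType R A := Algebra.FiniteType.iff_quotient_mvPolynomial''.2 ⟨n, ψ, hψ⟩
  haveI : Algebra.FiniteType P A := Algebra.FiniteType.of_restrictScalars_finiteType R _ _
  obtain ⟨m, χ, hχ⟩ := Algebra.FiniteType.iff_quotient_mvPolynomial''.1 ‹Algebra.FiniteType P A›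
  haveI : DRing.HasLBaseChange (algebraMap P (MvPolynomial (Fin m) P)) :=
    DC.LBC.hasLBaseChange (CommRingCat.ofHom (algebraMap P (MvPolynomial (Fin m) P)))
  haveI : DRing.HasLBaseChange (algebraMap R (MvPolynomial (Fin c) R)) :=
    DC.LBC.hasLBaseChange (CommRingCat.ofHom (algebraMap R (MvPolynomial (Fin c) R)))
  obtain ⟨Rχ, ⟨adjχ⟩⟩ := Groth.L10.Shriek.exists_rightAdjoint χ.toRingHom
  let adj0 : DRing.restrictD (AlgHom.id R P).toRingHom ⊣ 𝟭 (Dual.D P) :=
    Adjunction.id.ofNatIsoLeft (Groth.L29.ShriekEpi.restrictDId P).symm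
  obtain ⟨e⟩ := Groth.Agent.S1799.result R P A c (AlgHom.id R P) Function.surjective_id (𝟭 _) adj0 m χ hχ Rχ adjχ
    n ψ hψ Rψ adj (Dual.inD R R) 0 fun i hi => ModuleCat.subsingleton_of_isZero (DerivedCategory.isZero_of_isGE _ 0 i hi)
  haveI : Module.Flat R P := Module.Flat.of_free
  let eK : (DRing.LBaseChange (algebraMap R P)).obj (Dual.inD R R) ≅ Dual.inD P P :=
    (FlatBC.lbcIso (A := R) (B := P)).app _ ≪≫ FlatBC.singleL P R ≪≫
      (DerivedCategory.singleFunctor (ModuleCat.{u} P) 0).mapIso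
        (TensorProduct.AlgebraTensorModule.rid R P P).toModuleIso
  obtain ⟨adjB⟩ := Groth.L10.Shriek.exists_adjLBC (algebraMap P (MvPolynomial (Fin m) P))
  letI := adjB.leftAdjointCommShift ℤ
  letI := adjχ.rightAdjointCommShift ℤ
  let F : Dual.D P ⥤ Dual.D A := DRing.LBaseChange (algebraMap P (MvPolynomial (Fin m) P)) ⋙ Rχ
  let ω' := Dual2.shriekVia m Rχ (Dual.inD P P)
  obtain ⟨e₂⟩ := nonempty_shift_out F (K := Dual2.shriekVia c (𝟭 (Dual.D P)) (Dual.inD R R)) (c : ℤ) (m : ℤ)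
    ((shiftFunctor (Dual.D P) (c : ℤ)).mapIso eK)
  obtain ⟨e'⟩ : Nonempty (Dual2.shriekVia n Rψ (Dual.inD R R) ≅ ω'⟦(c : ℤ)⟧) := ⟨e ≪≫ e₂⟩
  have h0 : DRing.HasTorAmplitudeIn P 0 0 ((DRing.restrictD (algebraMap P A)).obj ω') := by
    have h := Groth.L10.Shriek.FlatRange.amp m χ hχ adjχ 0 (fun q => fibreDimAt_le_zero hqf' q)
    simpa using h
  have h1 : DRing.HasTorAmplitudeIn P (-(c : ℤ)) (-(c : ℤ))
      ((DRing.restrictD (algebraMap P A)).obj (Dual2.shriekVia n Rψ (Dual.inD R R))) := by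
    have h := amp_of_iso (((DRing.restrictD (algebraMap P A)).commShiftIso (c : ℤ)).app ω').symm (amp_shift h0 (c : ℤ))
    exact amp_mono (amp_of_iso ((DRing.restrictD _).mapIso e'.symm) h) (by omega) (by omega)
  refine amp_of_iso ((Groth.L10.Shriek.restrictDCompIso (algebraMap R P) (algebraMap P A) (algebraMap R A)
    (IsScalarTower.algebraMap_eq R P A)).symm.app _) ?_
  exact amp_mono (Groth.L10.TorRestrict.amp_restrict 0
    ((hasTorDimLE_iff_amp 0).1 (hasTorDimLE_zero_iff.2 ‹Module.Flat R P›)) _ _ _ h1) (by omega) le_rfl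

end Groth.L10.ShriekLoc
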