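import Groth.Agent.L10.ShriekLoc.Global
import Groth.Agent.L02.CMMor.Groupoid
import Groth.Agent.Lead.TildeAmp
import Mathlib.RingTheory.LocalRing.ResidueField.Fiber

/-!
The Cohen–Macaulay condition at a point, read on the fibre ring of a chart.
-/

set_option autoImplicit false
set_option linter.style.haveILetI false
set_option backward.defeqAttrib.useBackward true
set_option backward.isDefEq.respectTransparency false
set_option backward.isDefEq.respectTransparency.types false

universe u

open CategoryTheory CategoryTheory.Limits AlgebraicGeometry TensorProduct IsLocalRing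

noncomputable section

namespace Groth.L10.ShriekLoc

theorem isCMAt_comp_open {X Y Z : Scheme.{u}} (f : X ⟶ Y) (e : Y ⟶ Z) [IsOpenImmersion e] (x : X) :
    MoreMor.IsCMAt (f ≫ e) x ↔ MoreMor.IsCMAt f x := by
  rw [← L02.CMMor.grpd_isCMAt_iff, ← L02.CMMor.grpd_isCMAt_iff]
  have h := L02.CMMor.flat_cm_congr_right (f.stalkMap x).hom (asIso (e.stalkMap (f x))).commRingCatIsoToRingEquiv
  rw [show (f.stalkMap x).hom.comp (asIso (e.stalkMap (f x))).commRingCatIsoToRingEquiv.toRingHom =
    ((f ≫ e).stalkMap x).hom from (congrArg CommRingCat.Hom.hom (Scheme.Hom.stalkMap_comp f e x)).symm] at h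
  exact h

set_option maxHeartbeats 1600000 in
theorem isCMAt_spec_of_fibre {R A : Type u} [CommRing R] [CommRing A] [Algebra R A] [Module.Flat R A]
    (z : Spec (CommRingCat.of A))
    (h : ∀ Q : PrimeSpectrum ((z.asIdeal.under R).ResidueField ⊗[R] A),
      LocCoh.IsCohenMacaulayLocalRing (Localization.AtPrime Q.asIdeal)) :
    MoreMor.IsCMAt (Spec.map (CommRingCat.ofHom (algebraMap R A))) z := by
  let π := Spec.map (CommRingCat.ofHom (algebraMap R A))
  haveI : Flat π := (HasRingHomProperty.Spec_iff (P := @Flat)).2 (RingHom.flat_algebraMap_iff.2 ‹_›)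
  rw [← L02.CMMor.grpd_isCMAt_iff]
  refine ⟨Flat.stalkMap π z, ?_⟩
  let p := z.asIdeal.under R
  let T := (Spec (CommRingCat.of R)).presheaf.stalk (π z)
  let S := (Spec (CommRingCat.of A)).presheaf.stalk z
  letI : Algebra R T := (StructureSheaf.toStalk R (π z)).hom.toAlgebra
  haveI : IsLocalization.AtPrime T (π z).asIdeal := StructureSheaf.IsLocalization.to_stalk _ (π z)
  letI : Algebra A S := (StructureSheaf.toStalk A z).hom.toAlgebra
  haveI : IsLocalization.AtPrime S z.asIdeal := StructureSheaf.IsLocalization.to_stalk _ z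
  have hp : (π z).asIdeal = p := rfl
  have hm : (IsLocalRing.maximalIdeal T).map (π.stalkMap z).hom =
      p.map ((algebraMap A S).comp (algebraMap R A)) := by
    rw [← IsLocalization.AtPrime.map_eq_maximalIdeal (π z).asIdeal, Ideal.map_map, hp]
    congr 1
    exact RingHom.ext fun r => Groth.Lead.TildeAmp.stalk_spec (algebraMap R A) z r
  let e : Localization.AtPrime z.asIdeal ≃+* S :=
    (IsLocalization.algEquiv z.asIdeal.primeCompl (Localization.AtPrime z.asIdeal) S).toRingEquiv
  have he : e.toRingHom.comp (algebraMap R (Localization.AtPrime z.asIdeal)) =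
      (algebraMap A S).comp (algebraMap R A) := by
    refine RingHom.ext fun r => ?_
    show e (algebraMap R _ r) = _
    rw [IsScalarTower.algebraMap_apply R A (Localization.AtPrime z.asIdeal)]
    exact (IsLocalization.algEquiv z.asIdeal.primeCompl (Localization.AtPrime z.asIdeal) S).commutes _
  let eq : (Localization.AtPrime z.asIdeal ⧸ p.map (algebraMap R (Localization.AtPrime z.asIdeal))) ≃+*
      (S ⧸ (IsLocalRing.maximalIdeal T).map (π.stalkMap z).hom) :=
    Ideal.quotientEquiv _ _ e (by rw [Ideal.map_map, hm]; exact congrArg (fun g => p.map g) he.symm)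
  refine L02.CMMor.cm_of_ringEquiv eq ?_
  obtain ⟨Q, hQ⟩ : ∃ Q : PrimeSpectrum (p.Fiber A),
      Q.asIdeal.comap Algebra.TensorProduct.includeRight = z.asIdeal := by
    refine ⟨PrimeSpectrum.preimageEquivFiber R A ⟨p, inferInstance⟩ ⟨z, rfl⟩, ?_⟩
    have := (PrimeSpectrum.preimageEquivFiber R A ⟨p, inferInstance⟩).symm_apply_apply ⟨z, rfl⟩
    exact congrArg (fun w => w.1.asIdeal) this
  let z' := Q.asIdeal.comap (Algebra.TensorProduct.includeRight (R := R) (A := p.ResidueField) (B := A))
  haveI : z'.LiesOver p := ⟨by rw [show z' = z.asIdeal from hQ]⟩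
  letI := Localization.AtPrime.algebraOfLiesOver p z'
  have e2 : Localization.AtPrime Q.asIdeal ≃+*
      Localization.AtPrime z' ⧸ p.map (algebraMap R (Localization.AtPrime z')) :=
    (Ideal.Fiber.localizationAlgEquivQuotient p Q.asIdeal).toRingEquiv
  have key := L02.CMMor.cm_of_ringEquiv e2 (h Q)
  have gen : ∀ (J : Ideal A) [J.IsPrime], J = z.asIdeal →
      LocCoh.IsCohenMacaulayLocalRing (Localization.AtPrime J ⧸ p.map (algebraMap R (Localization.AtPrime J))) →
      LocCoh.IsCohenMacaulayLocalRing
        (Localization.AtPrime z.asIdeal ⧸ p.map (algebraMap R (Localization.AtPrime z.asIdeal))) := by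
    rintro J _ rfl hJ
    exact hJ
  exact gen z' hQ key

theorem isCMAt_chart {X Y : Scheme.{u}} {f : X ⟶ Y} (C : Chart f) [Module.Flat C.R C.A]
    (z : Spec (CommRingCat.of C.A))
    (h : ∀ Q : PrimeSpectrum ((z.asIdeal.under C.R).ResidueField ⊗[C.R] C.A),
      LocCoh.IsCohenMacaulayLocalRing (Localization.AtPrime Q.asIdeal)) :
    MoreMor.IsCMAt f (C.jU z) := by
  rw [← L02.CMMor.isCMAt_openImmersion_comp C.jU f z]
  have h1 := (isCMAt_comp_open (Spec.map (CommRingCat.ofHom (algebraMap C.R C.A))) C.jV z).2 (isCMAt_spec_of_fibre z h)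
  rwa [← C.w] at h1

end Groth.L10.ShriekLoc
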