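import Groth.Agent.L10.ShriekLoc.OmegaAmp
import Groth.Agent.L10.ShriekLoc.CMQF
import Groth.Agent.L10.ShriekLoc.CMChartAff
import Groth.Agent.L10.ShriekLoc.CMFibre
import Groth.Agent.L10.ShriekLoc.CMSpec
import Groth.Agent.L03.FibreLocalDim
import Groth.Agent.L07.UnivOpenFibre
import Groth.Agent.L22.FibreSemicont

/-!
Cohen–Macaulay points and the cohomology of `f^! O`.
-/

set_option autoImplicit false
set_option linter.style.haveILetI false
set_option backward.defeqAttrib.useBackward true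
set_option backward.isDefEq.respectTransparency false
set_option backward.isDefEq.respectTransparency.types false

universe u

open CategoryTheory CategoryTheory.Limits AlgebraicGeometry TensorProduct

attribute [local instance] HasDerivedCategory.standard

noncomputable section

namespace Groth.L10.ShriekLoc

open Groth.L00 Groth.L29 Groth.L29.DC Groth.L29.BCAdj

variable {X Y : Scheme.{u}} {f : X ⟶ Y}

theorem fibreDimAt_le_of_qf {R A : Type u} [CommRing R] [CommRing A] [Algebra R A] (c : ℕ)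
    (φ : MvPolynomial (Fin c) R →ₐ[R] A) (hφ : φ.toRingHom.QuasiFinite) (z : Spec (CommRingCat.of A)) :
    FlatMor.fibreDimAt (Spec.map (CommRingCat.ofHom (algebraMap R A))) z ≤ (c : WithBot ℕ∞) := by
  letI : Algebra (MvPolynomial (Fin c) R) A := φ.toRingHom.toAlgebra
  haveI : IsScalarTower R (MvPolynomial (Fin c) R) A := IsScalarTower.of_algebraMap_eq fun r => (φ.commutes r).symm
  haveI : Algebra.QuasiFinite (MvPolynomial (Fin c) R) A := hφ
  let p : PrimeSpectrum R := PrimeSpectrum.comap (algebraMap R A) z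
  let Q := PrimeSpectrum.preimageHomeomorphFiber R A p ⟨z, rfl⟩
  have h := Groth.L03.FibreLocalDim.localDim_fiber_eq (R := R) (S := A) p Q
  rw [Homeomorph.symm_apply_apply] at h
  refine (le_of_eq h.symm).trans ?_
  refine (iInf_le _ ⟨⊤, trivial⟩).trans ?_
  refine ((topologicalKrullDim_subspace_le _ _).trans (PrimeSpectrum.topologicalKrullDim_eq_ringKrullDim _).le).trans ?_
  exact (Groth.L07.FibreDim.krullDim_fibre_le (S := MvPolynomial (Fin c) R) p).trans
    (Groth.L07.FibreDim.ringKrullDim_fibre_mvPolynomial p c).le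

variable [IsNoetherian Y] [LocallyOfFiniteType f] (c : DEt.Compactification f) [DCoh.HasRpush c.fbar]
    {hc : DCoh.RpushPreservesQCoh c.fbar} {a : DCoh.DQCoh Y ⥤ DCoh.DQCoh c.Xbar}
    (adj : DCoh.RpushQ c.fbar hc ⊣ a) [PreservesFiniteLimits (Scheme.Modules.restrictFunctor c.j)]
    (O : DCoh.DQCoh Y) (hO : Nonempty (O.obj ≅ DCoh.inD Y (Coh.structureModule Y)))

include adj hO in
/-- near a Cohen–Macaulay point: one degree, the fibre dimension, flat over the base -/
theorem exists_chart_single (x : X) (h : MoreMor.IsCMAt f x) [Flat f] :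
    ∃ (d : ℕ) (C : Chart f), x ∈ Set.range C.jU ∧
      (∀ (z : Spec (CommRingCat.of C.A)),
        Dual3.localFibreDim f (C.jU z) = (d : WithBot ℕ∞) ∧
        (∀ i : ℤ, i ≠ -(d : ℤ) → ¬ Nontrivial ((DCoh.HD ((Dual3.shriekC c a).obj O) i).presheaf.stalk (C.jU z))) ∧
        Nontrivial ((DCoh.HD ((Dual3.shriekC c a).obj O) (-(d : ℤ))).presheaf.stalk (C.jU z)) ∧
        ∀ (G : CochainComplex X.Modules ℤ), Nonempty (DCoh.toD X G ≅ (Dual3.shriekC c a).obj O) →
          DerSch.HasTorAmplitudeAt f (-(d : ℤ)) (-(d : ℤ)) G (C.jU z)) := by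
  haveI := fun {A B : Scheme.{u}} (k : A ⟶ B) => KFlat.hasLpull k
  haveI := fun (R : CommRingCat.{u}) => Groth.L18.TildeF.tilde_preservesFiniteLimits (R := R)
  haveI : IsLocallyNoetherian X := LocallyOfFiniteType.isLocallyNoetherian f
  haveI : LocallyOfFinitePresentation f := LocallyOfFinitePresentation.iff_locallyOfFiniteType.mpr inferInstance
  obtain ⟨m, C, φ, hx, hfl, hqf⟩ := exists_chart_cm f x h
  haveI := isNoetherian_R C
  haveI := isNoetherian_A C
  haveI := module_flat C
  obtain ⟨n, ψ, hψ, _, Rψ, adjψ, he⟩ := exists_omega c adj O hO C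
  let N := Dual2.shriekVia n Rψ (Dual.inD C.R C.R)
  have hamp := amp_of_qf_flat n ψ hψ Rψ adjψ m φ hfl hqf
  have hz : ∀ i : ℤ, i ≠ -(m : ℤ) → Subsingleton (Dual.HD C.A N i) := fun i hi => by
    obtain ⟨E, hEv, -, ⟨eE⟩⟩ := hamp
    have h0 : IsZero ((Groth.L02.PC.HH i).obj ((DRing.restrictD (algebraMap C.R C.A)).obj N)) :=
      (Groth.L10.DR.HH_iso_zero eE i).2 ((E.exactAt_iff_isZero_homology i).1
        (HomologicalComplex.ExactAt.of_isZero (hEv i (by omega))))
    haveI := ModuleCat.subsingleton_of_isZero (h0.of_iso (Groth.L10.RelPC.HHResIso (algebraMap C.R C.A) N i).symm)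
    exact ‹Subsingleton _›
  have hsupp := mem_support_of_single n ψ hψ adjψ (-(m : ℤ)) hz
  refine ⟨m, C, hx, fun z => ⟨?_, fun i hi hnt => ?_, (nontrivial_stalk C he z _).2 (hsupp z),
    fun G ⟨eG⟩ => ampAt_chart C he G eG _ _ hamp z⟩⟩
  · rw [fibreDimAt_chart]
    refine le_antisymm (fibreDimAt_le_of_qf m φ hqf z) ?_
    haveI : LocallyOfFiniteType (Spec.map (CommRingCat.ofHom (algebraMap C.R C.A))) :=
      HasRingHomProperty.Spec_iff.2 (RingHom.finiteType_algebraMap.2
        (Algebra.FiniteType.iff_quotient_mvPolynomial''.2 ⟨n, ψ, hψ⟩))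
    obtain ⟨d, hd⟩ := Groth.L07.OpenEquiv.exists_nat_fibreDimAt
      (Spec.map (CommRingCat.ofHom (algebraMap C.R C.A))) z
    have hle := Groth.L10.Shriek.FibreVanish.neg_fibreDim_le n ψ hψ adjψ z d hd.le (-(m : ℤ))
      (Module.mem_support_iff.1 (hsupp z))
    rw [hd]
    exact_mod_cast (show m ≤ d by omega)
  · have hs := (nontrivial_stalk C he z i).1 hnt
    haveI := hz i hi
    exact (Set.notMem_empty z) (Module.support_eq_empty (R := C.A) (M := Dual.HD C.A N i) ▸ hs)

include adj hO in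
/-- one degree near `x` gives Cohen–Macaulay -/
theorem isCMAt_of_single [Flat f] (U : X.Opens) (m : ℤ) (x : X) (hx : x ∈ U)
    (hz : ∀ i : ℤ, i ≠ m → ∀ y ∈ U, ¬ Nontrivial ((DCoh.HD ((Dual3.shriekC c a).obj O) i).presheaf.stalk y)) :
    MoreMor.IsCMAt f x := by
  haveI := fun {A B : Scheme.{u}} (k : A ⟶ B) => KFlat.hasLpull k
  haveI := fun (R : CommRingCat.{u}) => Groth.L18.TildeF.tilde_preservesFiniteLimits (R := R)
  haveI : IsLocallyNoetherian X := LocallyOfFiniteType.isLocallyNoetherian f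
  obtain ⟨C₀, hx₀⟩ := exists_chart' (U.ι ≫ f) ⟨x, hx⟩
  let C : Chart f := C₀.comp rfl
  haveI := isNoetherian_R C
  haveI := isNoetherian_A C
  haveI := module_flat C
  obtain ⟨n, ψ, hψ, _, Rψ, adjψ, he⟩ := exists_omega c adj O hO C
  have hA : ∀ i : ℤ, i ≠ m → Subsingleton (Dual.HD C.A (Dual2.shriekVia n Rψ (Dual.inD C.R C.R)) i) := fun i hi => by
    rw [← Module.support_eq_empty_iff (R := C.A), Set.eq_empty_iff_forall_notMem]
    intro w hw
    exact hz i hi _ (C₀.jU w).2 ((nontrivial_stalk C he w i).2 hw)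
  obtain ⟨z, hz'⟩ := hx₀
  have hxz : C.jU z = x := by
    show (C₀.jU ≫ U.ι) z = x
    rw [Scheme.Hom.comp_apply, hz']
    rfl
  rw [← hxz]
  exact isCMAt_chart C z (cm_fibre_of_single n ψ hψ adjψ m hA _)

omit [AlgebraicGeometry.IsNoetherian Y] in
/-- components of the fibres of dimension `d`: the fibre dimension is at least `d` -/
theorem le_localFibreDim {d : ℕ}
    (hd : ∀ (y : Y) (Z : Set ↥(f.fiber y)), Z ∈ irreducibleComponents ↥(f.fiber y) →
      topologicalKrullDim ↥Z = (d : WithBot ℕ∞)) (x : X) :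
    (d : WithBot ℕ∞) ≤ Dual3.localFibreDim f x := by
  rw [localFibreDim_eq]
  letI : (f.fiber (f x)).Over (Spec (CommRingCat.of (Y.residueField (f x)))) :=
    ⟨f.fiberToSpecResidueField (f x)⟩
  haveI : LocallyOfFiniteType (f.fiber (f x) ↘ Spec (CommRingCat.of (Y.residueField (f x)))) :=
    MorphismProperty.pullback_snd _ _ inferInstance
  unfold FlatMor.fibreDimAt
  rw [Groth.L22.FibreSemicont.localDim_eq_iSup (Y.residueField (f x)) (f.asFiber x)]
  have hC := irreducibleComponent_mem_irreducibleComponents (f.asFiber x)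
  obtain ⟨η, hη⟩ := QuasiSober.sober hC.1 (isClosed_of_mem_irreducibleComponents _ hC)
  refine le_iSup_of_le ⟨η, hη.specializes mem_irreducibleComponent⟩ ?_
  rw [hη.def]
  exact (hd _ _ hC).ge

end Groth.L10.ShriekLoc

namespace Groth.L10.ShriekLoc

variable {X Y : Scheme.{u}}

/-- stalks of a restriction -/
def stalkEquiv (j : Y ⟶ X) [IsOpenImmersion j] (M : X.Modules) (y : Y) :
    (M.restrict j).presheaf.stalk y ≃+ M.presheaf.stalk (j y) :=
  ((Scheme.Modules.restrictStalkNatIso j y).app M).addCommGroupIsoToAddEquiv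

theorem localFibreDim_le_of_components {f : X ⟶ Y} [LocallyOfFiniteType f] {d : ℕ}
    (hd : ∀ (y : Y) (Z : Set ↥(f.fiber y)), Z ∈ irreducibleComponents ↥(f.fiber y) →
      topologicalKrullDim ↥Z = (d : WithBot ℕ∞)) (x : X) :
    Dual3.localFibreDim f x ≤ (d : WithBot ℕ∞) := by
  rw [localFibreDim_eq]
  letI : (f.fiber (f x)).Over (Spec (CommRingCat.of (Y.residueField (f x)))) :=
    ⟨f.fiberToSpecResidueField (f x)⟩
  haveI : LocallyOfFiniteType (f.fiber (f x) ↘ Spec (CommRingCat.of (Y.residueField (f x)))) :=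
    MorphismProperty.pullback_snd _ _ inferInstance
  unfold FlatMor.fibreDimAt
  rw [Groth.L22.FibreSemicont.localDim_eq_iSup (Y.residueField (f x)) (f.asFiber x)]
  refine iSup_le fun η => ?_
  rw [← hd _ _ (irreducibleComponent_mem_irreducibleComponents η.1)]
  exact Groth.L22.SchemeDim.topologicalKrullDim_mono
    (closure_minimal (Set.singleton_subset_iff.2 mem_irreducibleComponent) isClosed_irreducibleComponent)

end Groth.L10.ShriekLoc
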