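import Groth.Agent.L10.ShriekLoc.Affine
import Groth.Agent.L29.BCAdj.HomFinite
import Groth.Agent.L29.BC.PFShift

/-!
A map from the structure sheaf to the derived endomorphisms on an affine scheme is an isomorphism.
-/

set_option autoImplicit false
set_option linter.style.haveILetI false
set_option backward.defeqAttrib.useBackward true
set_option backward.isDefEq.respectTransparency false
set_option backward.isDefEq.respectTransparency.types false

universe u

open CategoryTheory CategoryTheory.Limits AlgebraicGeometry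

attribute [local instance] HasDerivedCategory.standard

noncomputable section

namespace Groth.L10.ShriekLoc

open Groth.L29 Groth.L29.DC Groth.L29.BCAdj

variable {X : Scheme.{u}}

/-- `O⟦n⟧ ⊗^L E ≅ E⟦n⟧` -/
theorem nonempty_LTensor_OD_shift (E : CochainComplex X.Modules ℤ) [DCoh.HasLTensorCx E] (n : ℤ) :
    Nonempty ((DCoh.LTensorCx E).obj ((OD X)⟦n⟧) ≅ (DCoh.toD X E)⟦n⟧) := by
  let oQ : DerivedCategory.Q.obj (RHom.O0 X) ≅ OD X :=
    (((SingleFunctors.evaluation _ _ 0).mapIso
      (DerivedCategory.singleFunctorsPostcompQIso X.Modules)).app (Coh.structureModule X)).symm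
  let eS : DerivedCategory.Q.obj ((RHom.O0 X)⟦n⟧) ≅ (OD X)⟦n⟧ :=
    ((DerivedCategory.Q (C := X.Modules)).commShiftIso n).app _ ≪≫ (shiftFunctor (DCoh.D X) n).mapIso oQ
  haveI := BC.LTExact.isIso_cnt E (Groth.L00.KFlat.shift (RHom.O0 X) n
    (isKFlat_of_isStrictlyPerfect (RHom.isStrictlyPerfect_O0 (X := X))))
  exact ⟨(DCoh.LTensorCx E).mapIso eS.symm ≪≫ asIso (BC.LTExact.cnt E ((RHom.O0 X)⟦n⟧)) ≪≫
    DerivedCategory.Q.mapIso (BC.PFShift.σ E (RHom.O0 X) n ≪≫
      (shiftFunctor (CochainComplex X.Modules ℤ) n).mapIso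
        (Groth.L00.KFlat.commIso (RHom.O0 X) E ≪≫ BC.PFNat.unitL E)) ≪≫
    ((DerivedCategory.Q (C := X.Modules)).commShiftIso n).app _⟩

theorem subsingleton_shiftLeft {C : Type*} [Category C] [HasShift C ℤ] (K L : C) (i : ℤ)
    (h : Subsingleton (K⟦-i⟧ ⟶ L)) : Subsingleton (K ⟶ L⟦i⟧) :=
  @Equiv.subsingleton _ _ ((shiftEquiv C i).symm.toAdjunction.homEquiv K L).symm h

theorem subsingleton_shiftRight {C : Type*} [Category C] [HasShift C ℤ] (K L : C) (i : ℤ)
    (h : Subsingleton (K ⟶ L⟦i⟧)) : Subsingleton (K⟦-i⟧ ⟶ L) :=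
  @Equiv.subsingleton _ _ ((shiftEquiv C i).symm.toAdjunction.homEquiv K L) h

variable {A : Type u} [CommRing A]

set_option maxHeartbeats 1600000 in
/-- a map from `O` to derived endomorphisms which is adjoint to an isomorphism is an isomorphism -/
theorem isIso_affine (E : CochainComplex (Spec (CommRingCat.of A)).Modules ℤ)
    [DCoh.HasLTensorCx E] [DCoh.HasRSheafHom E]
    [PreservesFiniteLimits (tilde.functor (CommRingCat.of A))]
    (hqc : DCoh.IsQCohD ((DCoh.RSheafHom E).obj (DCoh.toD _ E)))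
    (W : Dual.D A) (eW : Nonempty ((DCoh.tildeD (CommRingCat.of A)).obj W ≅ DCoh.toD _ E))
    (hbij : Function.Bijective (fun c : A => c • 𝟙 W)) (hvan : ∀ i : ℤ, i ≠ 0 → Subsingleton (W ⟶ W⟦i⟧))
    (η : OD (Spec (CommRingCat.of A)) ⟶ (DCoh.RSheafHom E).obj (DCoh.toD _ E))
    (θ : (DCoh.LTensorCx E).obj (OD (Spec (CommRingCat.of A))) ≅ DCoh.toD _ E)
    (e' : (DCoh.LTensorCx E).obj ((DCoh.RSheafHom E).obj (DCoh.toD _ E)) ⟶ DCoh.toD _ E)
    (h : θ.hom = (DCoh.LTensorCx E).map η ≫ e') : IsIso η := by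
  letI iS : (Spec (CommRingCat.of A)).Over (Spec (CommRingCat.of A)) := ⟨𝟙 _⟩
  let R : CommRingCat.{u} := CommRingCat.of A
  have hlin : ∀ (a : A) (N : ModuleCat.{u} R),
      (tilde.functor R).map (a • 𝟙 N) = a • 𝟙 ((tilde.functor R).obj N) := fun a N => by
    rw [KLin.smul_id]
    exact Groth.L17.BC.TensorA.tilde_smul (R := R) a N
  haveI : (tilde.functor R).Additive :=
    haveI : PreservesColimitsOfSize.{0, 0} (tilde.functor R) := tilde.adjunction.leftAdjoint_preservesColimits
    haveI := preservesBinaryBiproducts_of_preservesBinaryCoproducts (tilde.functor R)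
    Functor.additive_of_preservesBinaryBiproducts _
  haveI : PreservesFiniteColimits (tilde.functor R) :=
    haveI : PreservesColimitsOfSize.{0, 0} (tilde.functor R) := tilde.adjunction.leftAdjoint_preservesColimits
    inferInstance
  haveI : (tilde.functor R).Linear A := ⟨fun {N N'} φ a => by
    rw [show a • φ = (a • 𝟙 N) ≫ φ by rw [Linear.smul_comp, Category.id_comp], Functor.map_comp, hlin,
      Linear.smul_comp]
    exact congrArg (a • ·) (Category.id_comp _)⟩
  obtain ⟨hF, hF'⟩ := TildeD.fullyFaithful (R := R)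
  obtain ⟨eW⟩ := eW
  let T := DCoh.LTensorCx E
  let V := DCoh.toD (Spec R) E
  let G := (DCoh.RSheafHom E).obj V
  let O := OD (Spec R)
  let adj := DCoh.RSheafHomAdj E
  have hsl := sl_LTensorCx (A := A) E
  -- endomorphisms of `V`
  have hV : Function.Bijective (fun c : A => c • 𝟙 V) := by
    have h2 := (Iso.homCongr eW eW).bijective.comp
      ((show Function.Bijective (fun v : W ⟶ W => (DCoh.tildeD R).map v) from
        ⟨(DCoh.tildeD R).map_injective, (DCoh.tildeD R).map_surjective⟩).comp hbij)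
    convert h2 using 2 with c
    simp [Iso.homCongr, Linear.smul_comp, Linear.comp_smul]
    erw [Category.id_comp, eW.inv_hom_id]
  have hθ : ∀ v : T.obj O ⟶ V, ∃ c : A, v = c • θ.hom := fun v => by
    obtain ⟨c, hc⟩ := hV.2 (θ.inv ≫ v)
    refine ⟨c, ?_⟩
    rw [← cancel_epi θ.inv, ← hc, Linear.comp_smul, θ.inv_hom_id]
  let g : O ⟶ G := adj.homEquiv O V θ.hom
  have hTg : ∀ c : A, (adj.homEquiv O V).symm (c • g) = c • θ.hom := fun c => by
    have h1 : T.map g ≫ adj.counit.app V = θ.hom := by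
      have h0 := (adj.homEquiv O V).symm_apply_apply θ.hom
      rw [Adjunction.homEquiv_counit] at h0
      exact h0
    rw [Adjunction.homEquiv_counit, hsl.map_smul, RingHom.id_apply, Linear.smul_comp]
    exact congrArg (c • ·) h1
  have hg : ∀ v : O ⟶ G, ∃ c : A, v = c • g := fun v => by
    obtain ⟨c, hc⟩ := hθ ((adj.homEquiv O V).symm v)
    exact ⟨c, (adj.homEquiv O V).symm.injective (hc.trans (hTg c).symm)⟩
  have hinj : Function.Injective (fun c : A => c • g) := fun c d hcd => by
    apply hV.1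
    have h1 := congrArg (adj.homEquiv O V).symm hcd
    rw [hTg, hTg] at h1
    have h2 := congrArg (θ.inv ≫ ·) h1
    simpa [Linear.comp_smul] using h2
  -- the map is a unit times the generator
  obtain ⟨a, ha⟩ := hg η
  obtain ⟨b, hb⟩ := hθ (T.map g ≫ e')
  have hab : a * b = 1 := by
    apply hV.1
    have h1 : θ.hom = (a * b) • θ.hom := by
      rw [mul_smul, ← hb]
      exact h.trans (by rw [ha, hsl.map_smul, RingHom.id_apply, Linear.smul_comp])
    have h2 := congrArg (θ.inv ≫ ·) h1
    simpa [Linear.comp_smul] using h2.symm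
  -- transport to modules
  let eO : (DCoh.tildeD R).obj (Dual.inD A A) ≅ O :=
    ((tilde.functor R).mapDerivedCategorySingleFunctor 0).app (ModuleCat.of A A) ≪≫
      (DerivedCategory.singleFunctor (Spec R).Modules 0).mapIso tildeSelf
  obtain ⟨N, ⟨eN⟩⟩ := (TildeD.isQCohD_iff (R := R) G).1 hqc
  obtain ⟨w, hw⟩ := (DCoh.tildeD R).map_surjective (eO.hom ≫ g ≫ eN.inv)
  have hw' : Function.Bijective (fun c : A => c • w) := by
    refine ⟨fun c d hcd => hinj ?_, fun v => ?_⟩
    · have h1 := congrArg (fun z => eO.inv ≫ (DCoh.tildeD R).map z ≫ eN.hom) hcd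
      simpa [hw, Linear.comp_smul, Linear.smul_comp] using h1
    · obtain ⟨c, hc⟩ := hg (eO.inv ≫ (DCoh.tildeD R).map v ≫ eN.hom)
      refine ⟨c, (DCoh.tildeD R).map_injective ?_⟩
      rw [← cancel_epi eO.inv, ← cancel_mono eN.hom, Category.assoc, Category.assoc, hc]
      simp [hw, Linear.comp_smul, Linear.smul_comp]
  have hN : ∀ i : ℤ, i ≠ 0 → Subsingleton (Dual.inD A A ⟶ N⟦i⟧) := fun i hi => by
    haveI := subsingleton_shiftRight _ _ i (hvan i hi)
    haveI : Subsingleton ((DCoh.tildeD R).obj (W⟦-i⟧) ⟶ (DCoh.tildeD R).obj W) :=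
      (Equiv.ofBijective (fun v : W⟦-i⟧ ⟶ W => (DCoh.tildeD R).map v)
        ⟨(DCoh.tildeD R).map_injective, (DCoh.tildeD R).map_surjective⟩).symm.subsingleton
    obtain ⟨t⟩ := nonempty_LTensor_OD_shift E (-i)
    haveI : Subsingleton (T.obj (O⟦-i⟧) ⟶ V) :=
      @Equiv.subsingleton _ _ (Iso.homCongr ((((DCoh.tildeD R).commShiftIso (-i)).app W ≪≫
        (shiftFunctor _ (-i)).mapIso eW) ≪≫ t.symm) eW).symm (by assumption)
    haveI : Subsingleton (O⟦-i⟧ ⟶ G) := (adj.homEquiv (O⟦-i⟧) V).symm.subsingleton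
    haveI := subsingleton_shiftLeft O G i inferInstance
    haveI : Subsingleton ((DCoh.tildeD R).obj (Dual.inD A A) ⟶ (DCoh.tildeD R).obj (N⟦i⟧)) :=
      (Iso.homCongr eO.symm ((shiftFunctor _ i).mapIso eN.symm ≪≫
        (((DCoh.tildeD R).commShiftIso i).app N).symm)).symm.subsingleton
    exact ⟨fun p q => (DCoh.tildeD R).map_injective (Subsingleton.elim _ _)⟩
  haveI : IsIso w := by
    refine (DerivedCategory.isIso_iff (C := ModuleCat.{u} A) w).2 fun i => ?_
    by_cases hi : i = 0
    · subst hi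
      let e := (DerivedCategory.singleFunctorCompHomologyFunctorIso (ModuleCat.{u} A) 0).app (ModuleCat.of A A)
      suffices IsIso (e.inv ≫ (DerivedCategory.homologyFunctor (ModuleCat.{u} A) 0).map w) from
        IsIso.of_isIso_comp_left e.inv _
      rw [ConcreteCategory.isIso_iff_bijective]
      have h2 := (HomD.evalOne_bijective N).comp hw'
      have h3 : ∀ c : A, (e.inv ≫ (DerivedCategory.homologyFunctor (ModuleCat.{u} A) 0).map w) c =
          HomD.evalOne N (c • w) := fun c => by
        rw [map_smul]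
        change ((DerivedCategory.homologyFunctor (ModuleCat.{u} A) 0).map w) (e.inv c) = _
        rw [show c = c • (1 : A) from (mul_one c).symm]
        erw [map_smul, map_smul]
        simp only [smul_eq_mul, mul_one]
        rfl
      exact (show (⇑(ConcreteCategory.hom (e.inv ≫ (DerivedCategory.homologyFunctor (ModuleCat.{u} A) 0).map w)) :
        A → _) = (HomD.evalOne N) ∘ fun c : A => c • w from funext h3) ▸ h2
    · have hz : IsZero ((DerivedCategory.homologyFunctor (ModuleCat.{u} A) i).obj (Dual.inD A A)) :=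
        Groth.L10.DR.isZero_HH_single 0 i (ModuleCat.of A A) hi
      haveI := hN i hi
      have hz' : IsZero ((DerivedCategory.homologyFunctor (ModuleCat.{u} A) i).obj N) :=
        haveI := (HomD.evalShiftEquiv (W := N) i).symm.toEquiv.subsingleton
        ModuleCat.isZero_of_subsingleton _
      exact ⟨0, hz.eq_of_src _ _, hz'.eq_of_src _ _⟩
  haveI : IsIso g := by
    have hg' : g = eO.inv ≫ (DCoh.tildeD R).map w ≫ eN.hom := by simp [hw]
    rw [hg']
    infer_instance
  refine ⟨b • inv g, ?_, ?_⟩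
  · rw [ha, Linear.smul_comp, Linear.comp_smul, smul_smul, IsIso.hom_inv_id, hab, one_smul]
  · rw [ha, Linear.smul_comp, Linear.comp_smul, smul_smul, IsIso.inv_hom_id, mul_comm, hab, one_smul]

end Groth.L10.ShriekLoc
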