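import Groth.Agent.L29.BCAdj.AdjOpen
import Groth.Agent.L29.BC.Global
import Groth.Agent.L29.BC.SupportPush
import Groth.Agent.L10.FMDiag.Basic
import Groth.Agent.L10.FMBC.Comp
import Groth.Agent.L29.BCAdj.HomFlatPC

/-!
Right adjoints of derived direct images of proper morphisms commute with restriction to opens of the base, on
bounded below objects (objectwise).
-/

set_option autoImplicit false
set_option linter.style.haveILetI false
set_option backward.defeqAttrib.useBackward true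
set_option backward.isDefEq.respectTransparency false
set_option backward.isDefEq.respectTransparency.types false

universe u

open CategoryTheory CategoryTheory.Limits CategoryTheory.Pretriangulated AlgebraicGeometry

attribute [local instance] HasDerivedCategory.standard

noncomputable section

namespace Groth.L10.ShriekLoc

open Groth.L00 Groth.L29 Groth.L29.DC Groth.L29.BCAdj

variable {X Y U V : Scheme.{u}}

/-- a quasi-compact open immersion: `Lj^* Rj_* ≅ 1` on quasi-coherent objects -/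
theorem nonempty_open_counit (j : U ⟶ X) [IsOpenImmersion j] [QuasiCompact j] [DCoh.HasLpull j] [DCoh.HasRpush j]
    (E : DCoh.D U) (hE : DCoh.IsQCohD E) : Nonempty ((DCoh.Lpull j).obj ((DCoh.Rpush j).obj E) ≅ E) := by
  haveI := fun {A B : Scheme.{u}} (k : A ⟶ B) => KFlat.hasLpull k
  haveI := fun {A B : Scheme.{u}} (k : A ⟶ B) => RpushQC.hasRpush k
  have hsq : IsPullback (𝟙 U) (𝟙 U) j j := IsKernelPair.id_of_mono j
  haveI := BC.BC_flat hsq E hE
  obtain ⟨l⟩ := Groth.L10.FMDiag.nonempty_Lpull_id (X := U)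
  obtain ⟨r⟩ := Groth.L10.FMDiag.nonempty_Rpush_id (X := U)
  exact ⟨asIso (BC.β hsq.w E) ≪≫ r.app _ ≪≫ l.app E⟩

theorem nonempty_open_counitQ (j : U ⟶ X) [IsOpenImmersion j] [QuasiCompact j] [DCoh.HasLpull j]
    [DCoh.HasRpush j] (hg : DCoh.RpushPreservesQCoh j) (hLg : Dual3.LpullPreservesQCoh j) :
    Nonempty (DCoh.RpushQ j hg ⋙ Dual3.LpullQ j hLg ≅ 𝟭 (DCoh.DQCoh U)) := by
  haveI := fun {A B : Scheme.{u}} (k : A ⟶ B) => KFlat.hasLpull k
  haveI := fun {A B : Scheme.{u}} (k : A ⟶ B) => RpushQC.hasRpush k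
  have hsq : IsPullback (𝟙 U) (𝟙 U) j j := IsKernelPair.id_of_mono j
  haveI : ∀ E : DCoh.DQCoh U, IsIso ((BC.βNat hsq.w).app E.obj) := fun E => BC.BC_flat hsq E.obj E.property
  obtain ⟨l⟩ := Groth.L10.FMDiag.nonempty_Lpull_id (X := U)
  obtain ⟨r⟩ := Groth.L10.FMDiag.nonempty_Rpush_id (X := U)
  refine ⟨NatIso.ofComponents (fun E => ObjectProperty.isoMk _
    (asIso ((BC.βNat hsq.w).app E.obj) ≪≫ r.app _ ≪≫ l.app E.obj)) fun {E E'} g => ?_⟩
  apply ObjectProperty.hom_ext
  simp only [ObjectProperty.isoMk_hom, ObjectProperty.homMk_hom, Iso.trans_hom, asIso_hom, Iso.app_hom,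
    ObjectProperty.FullSubcategory.comp_hom, Functor.id_map]
  refine Eq.trans ((BC.βNat hsq.w).naturality_assoc g.hom _) ?_
  simp only [Category.assoc]
  congr 1
  erw [r.hom.naturality_assoc, l.hom.naturality]
  rfl

theorem isQCohD_push (f : X ⟶ Y) [QuasiCompact f] [QuasiSeparated f] [DCoh.HasRpush f] :
    DCoh.RpushPreservesQCoh f :=
  fun K hK => RpushQC.isQCohD_Rpush f K hK

theorem isQCohD_pull (f : X ⟶ Y) [DCoh.HasLpull f] : Dual3.LpullPreservesQCoh f :=
  fun _ hK => isQCohD_Lpull f hK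

set_option maxHeartbeats 1600000 in
/-- `Lj'^* a(K) ≅ a'(Lj^* K)` -/
theorem nonempty_openBC [IsNoetherian Y] {f : X ⟶ Y} [IsProper f] {f' : U ⟶ V} {j' : U ⟶ X} {j : V ⟶ Y}
    [IsOpenImmersion j] (hsq : IsPullback j' f' f j)
    [DCoh.HasRpush f] [DCoh.HasRpush f'] [DCoh.HasLpull j'] [DCoh.HasLpull j]
    {hf : DCoh.RpushPreservesQCoh f} {hf' : DCoh.RpushPreservesQCoh f'}
    {a : DCoh.DQCoh Y ⥤ DCoh.DQCoh X} {a' : DCoh.DQCoh V ⥤ DCoh.DQCoh U}
    (adj : DCoh.RpushQ f hf ⊣ a) (adj' : DCoh.RpushQ f' hf' ⊣ a')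
    (K : DCoh.DQCoh Y) (c : ℤ) (hK : K.obj.IsGE c) :
    Nonempty ((DCoh.Lpull j').obj (a.obj K).obj ≅
      (a'.obj ⟨(DCoh.Lpull j).obj K.obj, isQCohD_Lpull j K.property⟩).obj) := by
  haveI := fun {A B : Scheme.{u}} (k : A ⟶ B) => RpushQC.hasRpush k
  haveI := fun {A B : Scheme.{u}} (k : A ⟶ B) => KFlat.hasLpull k
  haveI : IsLocallyNoetherian X := LocallyOfFiniteType.isLocallyNoetherian f
  haveI : CompactSpace X := QuasiCompact.compactSpace_of_compactSpace f
  haveI : IsNoetherian X := {}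
  haveI : IsOpenImmersion j' := MorphismProperty.of_isPullback hsq.flip inferInstance
  haveI : QuasiCompact j := inferInstance
  haveI : CompactSpace V := QuasiCompact.compactSpace_of_compactSpace j
  haveI : QuasiCompact j' := inferInstance
  let hg := isQCohD_push j
  let hg' := isQCohD_push j'
  let hLg := isQCohD_pull j
  let hLg' := isQCohD_pull j'
  let adjg := adjQ j hg hLg
  let adjg' := adjQ j' hg' hLg'
  have hBC := BC.BC_flat hsq
  have hθ := isIso_bcQ (hf := hf) (hf' := hf') adjg adjg' hBC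
  let e := eQ hf hf' hg hg' hsq.w
  let KV : DCoh.DQCoh V := (Dual3.LpullQ j hLg).obj K
  haveI hxi : IsIso (Dual3.xi adj adj' e KV) := Mate.isIso_xi adj adj' e adjg adjg' hθ KV
  -- the cone of the unit vanishes on `V`
  let η := adjg.unit.app K
  letI := Gen.commShiftRpush f
  haveI := Gen.isTriangulated_Rpush f
  haveI : (DCoh.RpushQ f hf).IsTriangulated := by
    refine ⟨fun T hT => ?_⟩
    exact isomorphic_distinguished _ ((ObjectProperty.ι DCoh.IsQCohD ⋙ DCoh.Rpush f).map_distinguished _ hT) _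
      ((Functor.mapTriangleCompIso (DCoh.RpushQ f hf) (ObjectProperty.ι DCoh.IsQCohD)).symm.app T ≪≫
        (Functor.mapTriangleIso (ObjectProperty.liftCompιIso DCoh.IsQCohD _ _)).app T)
  letI := adj.rightAdjointCommShift ℤ
  haveI := adj.commShift_of_leftAdjoint ℤ
  haveI := adj.isTriangulated_rightAdjoint
  obtain ⟨C, q, d, hT⟩ := distinguished_cocone_triangle η
  have hTY := (DCoh.IsQCohD (X := Y)).ι.map_distinguished _ hT
  have hTX := (DCoh.IsQCohD (X := X)).ι.map_distinguished _ (a.map_distinguished _ hT)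
  letI := BC.commShiftLpull j
  haveI := BC.isTriangulated_Lpull j
  letI := BC.commShiftLpull j'
  haveI := BC.isTriangulated_Lpull j'
  have hη : IsIso ((DCoh.Lpull j).map η.hom) := by
    haveI : IsIso adjg.counit := by
      obtain ⟨i⟩ := nonempty_open_counitQ j hg hLg
      exact adjg.isIso_counit_of_iso i
    haveI : IsIso ((Dual3.LpullQ j hLg).map η) :=
      IsIso.of_isIso_fac_right (hh := IsIso.id _) (adjg.left_triangle_components K)
    exact inferInstanceAs (IsIso ((DCoh.IsQCohD (X := V)).ι.map ((Dual3.LpullQ j hLg).map η)))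
  -- bounded below
  haveI := hK
  haveI : KV.obj.IsGE c := BCAdj.isGE_Lpull_flat j K.obj c hK
  have hCge : C.obj.IsGE (c - 1) := by
    let t := DerivedCategory.TStructure.t (C := Y.Modules)
    have h1 : t.IsGE ((DCoh.Rpush j).obj KV.obj) (c - 1) :=
      haveI : t.IsGE ((DCoh.Rpush j).obj KV.obj) c := RpushQC.isGE_Rpush j KV.obj c
      t.isGE_of_ge _ (c - 1) c (by omega)
    have h2 : t.IsGE (K.obj⟦(1 : ℤ)⟧) (c - 1) :=
      haveI : t.IsGE K.obj c := hK
      t.isGE_shift K.obj c 1 (c - 1) (by omega)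
    exact t.isGE₂ _ (rot_of_distTriang _ hTY) (c - 1) h1 h2
  haveI : ∀ {A B : Scheme.{u}} (k : A ⟶ B), (DCoh.Lpull k).Additive := fun {A B} k =>
    haveI := RpushColim.additive_Rpush k
    (BC.adj k).left_adjoint_additive
  let VV := j.opensRange
  let iV := j.isoOpensRange
  have hC0 : IsZero ((DCoh.Lpull j).obj C.obj) :=
    (Triangle.isZero₃_iff_isIso₁ _ ((DCoh.Lpull j).map_distinguished _ hTY)).2 hη
  have hCV : IsZero ((resD VV).obj C.obj) := by
    obtain ⟨r⟩ := nonempty_Lpull_iso_restrictD VV.ι C.obj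
    obtain ⟨c₁⟩ := Groth.L10.FMBC.nonempty_lpull_comp' iV.inv j (j.isoOpensRange_inv_comp)
    exact ((DCoh.Lpull iV.inv).map_isZero hC0).of_iso (r.symm ≪≫ (c₁.app C.obj).symm)
  have haC : IsZero ((resD (f ⁻¹ᵁ VV)).obj (a.obj C).obj) :=
    BC.SupportAdj.isZero_res_adjoint f VV (by rw [Scheme.Hom.coe_opensRange]; exact isCompact_range j.continuous) hf a adj C
      (fun P hP E _ _ hE => by
        obtain ⟨i⟩ := hE
        exact BC.SupportAdj.qcoh_RHom_of_pc
          (fun m => isPseudoCoherentD_of_iso i.symm (BC.SupportAdj.pc_Rpush_perfect f hP m)) C.property (c - 1) hCge) hCV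
  have haC' : IsZero ((DCoh.Lpull j').obj (a.obj C).obj) := by
    obtain ⟨r⟩ := nonempty_Lpull_iso_restrictD (f ⁻¹ᵁ VV).ι (a.obj C).obj
    let k : U ⟶ (f ⁻¹ᵁ VV : X.Opens) := IsOpenImmersion.lift (f ⁻¹ᵁ VV).ι j' (by
      rw [Scheme.Opens.range_ι]
      rintro _ ⟨z, rfl⟩
      exact ⟨f' z, by rw [← Scheme.Hom.comp_apply, ← hsq.w]; rfl⟩)
    obtain ⟨c₂⟩ := Groth.L10.FMBC.nonempty_lpull_comp' k (f ⁻¹ᵁ VV).ι (IsOpenImmersion.lift_fac _ _ _)
    exact ((DCoh.Lpull k).map_isZero (haC.of_iso r)).of_iso (c₂.app _).symm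
  haveI : IsIso ((DCoh.Lpull j').map (a.map η).hom) :=
    (Triangle.isZero₃_iff_isIso₁ _ ((DCoh.Lpull j').map_distinguished _ hTX)).1 haC'
  obtain ⟨u⟩ := nonempty_open_counit j' (a'.obj KV).obj (a'.obj KV).property
  haveI : IsIso (Dual3.xi adj adj' e KV).hom := (DCoh.IsQCohD (X := X)).ι.map_isIso (Dual3.xi adj adj' e KV)
  let v : (a.obj ((DCoh.RpushQ j hg).obj KV)).obj ≅ (DCoh.Rpush j').obj (a'.obj KV).obj :=
    (asIso (Dual3.xi adj adj' e KV).hom).symm
  exact ⟨asIso ((DCoh.Lpull j').map (a.map η).hom) ≪≫ (DCoh.Lpull j').mapIso v ≪≫ u⟩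

end Groth.L10.ShriekLoc
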