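import Groth.Agent.L10.ShriekLoc.Dualizing
import Groth.Agent.L29.Dual.SchLocus
import Groth.Agent.L29.Dual.RegularDual
import Groth.Agent.L04.SupportLoc
import Groth.Agent.S1790
import Groth.Agent.S1789
import Groth.Agent.S0366

/-!
The dualizing complex of a proper scheme over a field: degrees and dimensions of supports.
-/

set_option autoImplicit false
set_option linter.style.haveILetI false
set_option backward.defeqAttrib.useBackward true
set_option backward.isDefEq.respectTransparency false
set_option backward.isDefEq.respectTransparency.types false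

universe u

open CategoryTheory CategoryTheory.Limits AlgebraicGeometry TopologicalSpace

attribute [local instance] HasDerivedCategory.standard

noncomputable section

namespace Groth.L10.ShriekLoc

open Groth.L00 Groth.L29 Groth.L29.DC Groth.L29.HomD

theorem isDualizing_field (k : Type u) [Field k] :
    Dual.IsDualizing k (Dual.inD k k) ∧ Dual.IsNormalized k (Dual.inD k k) := by
  obtain ⟨d, hd, h1, h2⟩ := Groth.L29.HomD.isDualizing_shift_self_of_regularLocal k
  obtain rfl : d = 0 := by rw [ringKrullDim_eq_zero_of_field] at hd; exact_mod_cast hd.symm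
  let e : (Dual.inD k k)⟦((0 : ℕ) : ℤ)⟧ ≅ Dual.inD k k :=
    (shiftFunctorZero' (Dual.D k) ((0 : ℕ) : ℤ) (by simp)).app _
  refine ⟨Groth.L29.HomD.isDualizing_of_iso e h1, fun i hi => ?_⟩
  haveI := h2 i hi
  exact (Iso.homCongr (Iso.refl _) ((shiftFunctor (Dual.D k) i).mapIso e)).subsingleton_congr.1 inferInstance

/-- chains of primes in the support of `Hⁱ` of the shriek of a field are short -/
theorem length_le {k A : Type u} [Field k] [CommRing A] [IsNoetherianRing A] [Algebra k A] (n : ℕ)
    (ψ : MvPolynomial (Fin n) k →ₐ[k] A) (hψ : Function.Surjective ψ)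
    [DRing.HasLBaseChange (algebraMap k (MvPolynomial (Fin n) k))]
    (Rψ : Dual.D (MvPolynomial (Fin n) k) ⥤ Dual.D A) (adj : DRing.restrictD ψ.toRingHom ⊣ Rψ) (i : ℤ)
    (l : LTSeries (PrimeSpectrum A))
    (hl : ∀ p, l p ∈ Module.support A (Dual.HD A (Dual2.shriekVia n Rψ (Dual.inD k k)) i)) :
    l.length ≤ (-i).toNat := by
  obtain ⟨M, hM, hle⟩ := Ideal.exists_le_maximal l.last.asIdeal l.last.2.ne_top
  let B := Localization.AtPrime M
  haveI : Module.Flat A B := IsLocalization.flat _ M.primeCompl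
  haveI : DRing.HasLBaseChange (algebraMap A B) := LBC.hasLBaseChange (CommRingCat.ofHom (algebraMap A B))
  have hcomap : M.comap (algebraMap k A) = IsLocalRing.maximalIdeal k := by
    rw [IsLocalRing.maximalIdeal_eq_bot]
    refine le_bot_iff.1 fun x hx => ?_
    by_contra hne
    exact hM.ne_top (Ideal.eq_top_of_isUnit_mem _ hx ((IsUnit.mk0 x (by simpa using hne)).map _))
  obtain ⟨hω, hn⟩ := Groth.Agent.S1789.result k A n ψ hψ Rψ adj M hcomap (Dual.inD k k)
    (isDualizing_field k).1 (isDualizing_field k).2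
  haveI := hω.isNoetherianRing
  let W := (DRing.LBaseChange (algebraMap A B)).obj (Dual2.shriekVia n Rψ (Dual.inD k k))
  let H := Dual.HD A (Dual2.shriekVia n Rψ (Dual.inD k k)) i
  let eH : Dual.HD B W i ≃ₗ[B] LocalizedModule M.primeCompl H :=
    (((DerivedCategory.homologyFunctor (ModuleCat.{u} B) i).mapIso
      ((FlatBC.lbcIso (A := A) (B := B)).app _)).toLinearEquiv).trans
      ((FlatBC.hEquiv A B _ i).trans (LocalizedModule.equivTensorProduct M.primeCompl H).symm)
  obtain ⟨d, hd⟩ : ∃ d : ℕ, Module.supportDim B B = d := by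
    rw [Module.supportDim_self_eq_ringKrullDim, ← IsLocalRing.maximalIdeal_height_eq_ringKrullDim]
    obtain ⟨d, hd⟩ := ENat.ne_top_iff_exists.1
      (Ideal.height_ne_top (IsLocalRing.maximalIdeal.isMaximal B).ne_top)
    exact ⟨d, by rw [← hd]; rfl⟩
  have hdim := (Groth.Agent.S0366.result B W hω hn B d hd i).2
  have hdisj : ∀ p, Disjoint (M.primeCompl : Set A) ((l p).asIdeal : Set A) := fun p =>
    Set.disjoint_left.2 fun x hx hx' => hx (hle ((show (l p) ≤ l.last from l.monotone (Fin.le_last p)) hx'))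
  let P : Fin (l.length + 1) → PrimeSpectrum B := fun p =>
    ⟨(l p).asIdeal.map (algebraMap A B),
      IsLocalization.isPrime_of_isPrime_disjoint M.primeCompl B _ (l p).2 (hdisj p)⟩
  have hP : ∀ p, PrimeSpectrum.comap (algebraMap A B) (P p) = l p := fun p =>
    PrimeSpectrum.ext (IsLocalization.under_map_of_isPrime_disjoint M.primeCompl B (l p).2 (hdisj p))
  have hsupp : ∀ p, P p ∈ Module.support B (Dual.inD B B ⟶ W⟦i⟧) := fun p => by
    rw [(evalShiftEquiv W i).support_eq, eH.support_eq, Groth.L04.support_localization, hP]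
    exact hl p
  let l' : LTSeries (Module.support B (Dual.inD B B ⟶ W⟦i⟧)) :=
    { length := l.length
      toFun := fun p => ⟨P p, hsupp p⟩
      step := fun p => by
        have hlt : l p.castSucc < l p.succ := l.step p
        refine lt_of_le_of_ne (show P p.castSucc ≤ P p.succ from Ideal.map_mono hlt.le) fun h => hlt.ne ?_
        rw [← hP p.castSucc, ← hP p.succ]
        exact congrArg (PrimeSpectrum.comap (algebraMap A B)) h }
  have h := le_trans (Order.LTSeries.length_le_krullDim l') hdim
  exact_mod_cast h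

variable {X : Scheme.{u}}

theorem fibreDimAt_le {k A : Type u} [Field k] [CommRing A] [Algebra k A]
    (jU : Spec (CommRingCat.of A) ⟶ X) [IsOpenImmersion jU] (q : Spec (CommRingCat.of A)) {d : ℕ}
    (hd : topologicalKrullDim X ≤ d) :
    FlatMor.fibreDimAt (Spec.map (CommRingCat.ofHom (algebraMap k A))) q ≤ (d : WithBot ℕ∞) := by
  let g := Spec.map (CommRingCat.ofHom (algebraMap k A))
  let F := g.fiber (g.base q)
  refine le_trans (iInf_le _ (⟨⊤, trivial⟩ : {U : TopologicalSpace.Opens F // g.asFiber q ∈ U})) ?_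
  refine le_trans (Topology.IsInducing.subtypeVal.topologicalKrullDim_le) ?_
  refine le_trans (g.fiberι (g.base q)).isEmbedding.isInducing.topologicalKrullDim_le ?_
  exact le_trans jU.isOpenEmbedding.isInducing.topologicalKrullDim_le hd

/-- degrees and supports on a chart, and hence globally -/
theorem amplitude_and_support (k : Type u) [Field k] {f : X ⟶ Spec (CommRingCat.of k)} [IsProper f]
    [DCoh.HasRpush f] {hf : DCoh.RpushPreservesQCoh f}
    {a : DCoh.DQCoh (Spec (CommRingCat.of k)) ⥤ DCoh.DQCoh X} (adj : DCoh.RpushQ f hf ⊣ a)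
    (O : DCoh.DQCoh (Spec (CommRingCat.of k)))
    (hO : Nonempty (O.obj ≅ DCoh.inD (Spec (CommRingCat.of k)) (Coh.structureModule (Spec (CommRingCat.of k)))))
    (d : ℕ) (hd : topologicalKrullDim X ≤ d) :
    (∀ i : ℤ, (i < -(d : ℤ) ∨ 0 < i) → IsZero (DCoh.HD (a.obj O).obj i)) ∧
      ∀ (i : ℤ) (n : ℕ), (n : ℤ) = -i →
        topologicalKrullDim {x : X | Nontrivial ((DCoh.HD (a.obj O).obj i).presheaf.stalk x)} ≤ (n : WithBot ℕ∞) := by
  haveI := fun {A B : Scheme.{u}} (g : A ⟶ B) => KFlat.hasLpull g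
  haveI := fun (R : CommRingCat.{u}) => Groth.L18.TildeF.tilde_preservesFiniteLimits (R := R)
  haveI : IsLocallyNoetherian X := LocallyOfFiniteType.isLocallyNoetherian f
  -- the chart over `k`
  have hchart : ∀ x : X, ∃ (A : Type u) (_ : CommRing A) (_ : Algebra k A) (_ : IsNoetherianRing A)
      (jU : Spec (CommRingCat.of A) ⟶ X) (_ : IsOpenImmersion jU) (n : ℕ)
      (ψ : MvPolynomial (Fin n) k →ₐ[k] A) (_ : Function.Surjective ψ)
      (_ : DRing.HasLBaseChange (algebraMap k (MvPolynomial (Fin n) k)))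
      (Rψ : Dual.D (MvPolynomial (Fin n) k) ⥤ Dual.D A) (_ : DRing.restrictD ψ.toRingHom ⊣ Rψ),
      x ∈ Set.range jU ∧ Nonempty ((DCoh.restrictD jU).obj (a.obj O).obj ≅
        (DCoh.tildeD (CommRingCat.of A)).obj (Dual2.shriekVia n Rψ (Dual.inD k k))) := by
    intro x
    obtain ⟨_, ⟨U, hU, rfl⟩, hxU, -⟩ :=
      X.isBasis_affineOpens.exists_subset_of_mem_open (Set.mem_univ x) isOpen_univ
    obtain ⟨φ, hφ⟩ := Spec.map_surjective (hU.fromSpec ≫ f)
    letI : Algebra k Γ(X, U) := φ.hom.toAlgebra
    let C : Chart f :=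
      { R := k, A := Γ(X, U), jV := 𝟙 _, jU := hU.fromSpec,
        w := by rw [Category.comp_id]; exact hφ.symm }
    obtain ⟨n, ψ, hψ⟩ := exists_presentation C
    haveI : DRing.HasLBaseChange (algebraMap k (MvPolynomial (Fin n) k)) :=
      LBC.hasLBaseChange (CommRingCat.ofHom (algebraMap k (MvPolynomial (Fin n) k)))
    obtain ⟨Rψ, ⟨adjψ⟩⟩ := Groth.L10.Shriek.exists_rightAdjoint ψ.toRingHom
    obtain ⟨o⟩ := hO
    obtain ⟨l⟩ := Groth.L10.FMDiag.nonempty_Lpull_id (X := Spec (CommRingCat.of k))
    haveI : (tilde.functor (CommRingCat.of k)).IsLeftAdjoint := tilde.adjunction.isLeftAdjoint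
    obtain ⟨t⟩ : Nonempty ((DCoh.tildeD (CommRingCat.of k)).obj (Dual.inD k k) ≅
        DCoh.inD (Spec (CommRingCat.of k)) (Coh.structureModule (Spec (CommRingCat.of k)))) :=
      ⟨((tilde.functor (CommRingCat.of k)).mapDerivedCategorySingleFunctor 0).app (ModuleCat.of k k) ≪≫
        (DerivedCategory.singleFunctor (Spec (CommRingCat.of k)).Modules 0).mapIso tildeSelf⟩
    have hge : O.obj.IsGE 0 := (DerivedCategory.isGE_iff _ _).2 fun i hi =>
      (DerivedCategory.isZero_of_isGE _ 0 i hi).of_iso ((DerivedCategory.homologyFunctor _ i).mapIso o)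
    obtain ⟨e⟩ := nonempty_chart C adj n ψ hψ Rψ adjψ O 0 hge (Dual.inD k k)
      ⟨t ≪≫ o.symm ≪≫ (l.app _).symm⟩
    obtain ⟨r⟩ := nonempty_Lpull_iso_restrictD hU.fromSpec (a.obj O).obj
    exact ⟨Γ(X, U), inferInstance, inferInstance, IsLocallyNoetherian.component_noetherian ⟨U, hU⟩, hU.fromSpec,
      inferInstance, n, ψ, hψ, inferInstance, Rψ, adjψ, (IsAffineOpen.range_fromSpec hU).ge hxU, ⟨r.symm ≪≫ e⟩⟩
  refine ⟨fun i hi => ?_, fun i m hm => ?_⟩
  · refine Groth.L21.Mod.isZero_iff_stalk_subsingleton _ |>.2 fun x => ?_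
    obtain ⟨A, _, _, _, jU, _, n, ψ, hψ, _, Rψ, adjψ, ⟨q, rfl⟩, ⟨e⟩⟩ := hchart x
    by_contra hns
    have hnt := (Groth.L29.SchLocus.nontrivial_stalk_iff jU e q i).1 (not_subsingleton_iff_nontrivial.1 hns)
    rw [Module.mem_support_iff] at hnt
    have hdim : FlatMor.fibreDimAt (Spec.map (CommRingCat.ofHom (algebraMap k A))) q ≤ (d : WithBot ℕ∞) :=
      fibreDimAt_le jU q hd
    have := Groth.L10.Shriek.FlatRange.range n ψ hψ adjψ q d hdim i hnt
    omega
  · let S := {x : X | Nontrivial ((DCoh.HD (a.obj O).obj i).presheaf.stalk x)}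
    have hcoh : Coh.IsCoh (DCoh.HD (a.obj O).obj i) := by
      refine Groth.L16.CohKernel.isCoh_of_tilde_charts _ fun x => ?_
      obtain ⟨A, _, _, _, jU, _, n, ψ, hψ, _, Rψ, adjψ, hx, ⟨e⟩⟩ := hchart x
      exact ⟨CommRingCat.of A, jU, inferInstance, _, hx,
        (Groth.Agent.S1783.result k A n ψ hψ Rψ adjψ (Dual.inD k k) 0 (fun j hj =>
          ModuleCat.subsingleton_of_isZero (DerivedCategory.isZero_of_isGE _ 0 j hj))).2
          (fun j => Groth.L29.HomD.finite_HD_single k j) i,
        ⟨(HDResIso jU _ i).symm ≪≫ (DerivedCategory.homologyFunctor _ i).mapIso e ≪≫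
          TildeAlg.hdIso (R := CommRingCat.of A) (Dual2.shriekVia n Rψ (Dual.inD k k)) i⟩⟩
    have hclosed : IsClosed S := by
      haveI := hcoh.1
      convert Groth.L16.CohSupport.isClosed_support _ hcoh.2 using 1
      exact Set.ext fun x => not_subsingleton_iff_nontrivial.symm
    haveI : QuasiSober S := hclosed.isClosedEmbedding_subtypeVal.quasiSober
    change topologicalKrullDim S ≤ _
    refine iSup_le fun l => ?_
    have hgp : ∀ p, ∃ c : S, IsGenericPoint c (l p : Set S) := fun p =>
      QuasiSober.sober (l p).isIrreducible (l p).isClosed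
    choose c hc using hgp
    have hspecle : ∀ p p', p ≤ p' → (c p').1 ⤳ (c p).1 := fun p p' h =>
      (IsGenericPoint.specializes (hc p') (l.monotone h (hc p).mem)).map continuous_subtype_val
    obtain ⟨A, _, _, _, jU, _, n, ψ, hψ, _, Rψ, adjψ, hx, ⟨e⟩⟩ := hchart (c 0).1
    have hspec : ∀ p, (c p).1 ⤳ (c 0).1 := fun p => hspecle 0 p (Fin.zero_le p)
    have hmem : ∀ p, ∃ q : PrimeSpectrum A, jU q = (c p).1 := fun p =>
      (hspec p).mem_open jU.isOpenEmbedding.isOpen_range hx
    choose q hq using hmem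
    have hlt : ∀ p : Fin l.length, q p.succ < q p.castSucc := fun p => by
      have h : l p.castSucc < l p.succ := l.step p
      refine lt_of_le_of_ne ?_ fun hh => h.ne ?_
      swap
      · have hcc : c p.castSucc = c p.succ := Subtype.ext ((hq _).symm.trans ((congrArg _ hh.symm).trans (hq _)))
        refine TopologicalSpace.IrreducibleCloseds.ext ?_
        rw [← (hc p.castSucc).def, ← (hc p.succ).def, hcc]
      rw [PrimeSpectrum.le_iff_specializes]
      refine jU.isOpenEmbedding.isInducing.specializes_iff.1 ?_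
      rw [hq, hq]
      exact hspecle _ _ (Fin.castSucc_le_succ p)
    let lr : LTSeries (PrimeSpectrum A) :=
      { length := l.length
        toFun := fun p => q p.rev
        step := fun p => by
          have := hlt p.rev
          rwa [← Fin.rev_castSucc, ← Fin.rev_succ] at this }
    have hb := length_le n ψ hψ Rψ adjψ i lr fun p => by
      refine (Groth.L29.SchLocus.nontrivial_stalk_iff jU e _ i).1 ?_
      change Nontrivial ((DCoh.HD (a.obj O).obj i).presheaf.stalk (jU (q p.rev)))
      rw [hq]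
      exact (c p.rev).2
    have : l.length ≤ m := le_trans hb (by omega)
    exact_mod_cast this

end Groth.L10.ShriekLoc
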