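import Groth.Agent.L10.ShriekLoc.FieldSupp
import Groth.Agent.L06.SkTensor
import Groth.Agent.S0365

/-!
The dualizing object of a scheme proper over a local ring with a normalized dualizing complex.
-/

set_option autoImplicit false
set_option linter.style.haveILetI false
set_option backward.defeqAttrib.useBackward true
set_option backward.isDefEq.respectTransparency false
set_option backward.isDefEq.respectTransparency.types false

universe u

open CategoryTheory CategoryTheory.Limits AlgebraicGeometry L02.FibDepth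

attribute [local instance] HasDerivedCategory.standard

noncomputable section

namespace Groth.L10.ShriekLoc

open Groth.L29 Groth.L29.DC Groth.L29.HomD

/-- degree bounds of a normalized dualizing complex at a given degree -/
theorem range_of_nontrivial {B : Type u} [CommRing B] [IsLocalRing B] [IsNoetherianRing B] (ω : Dual.D B)
    (hω : Dual.IsDualizing B ω) (hn : Dual.IsNormalized B ω) (i : ℤ) (h : Nontrivial (Dual.HD B ω i)) :
    ∃ e : ℕ, ringKrullDim B = e ∧ -(e : ℤ) ≤ i ∧ i ≤ 0 ∧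
      Module.supportDim B (Dual.HD B ω i) ≤ ((-i).toNat : WithBot ℕ∞) := by
  obtain ⟨e, he⟩ := Groth.L01.exists_dim_eq_nat (R := B)
  obtain ⟨h1, h2⟩ := Groth.Agent.S0366.result B ω hω hn B e
    ((Module.supportDim_self_eq_ringKrullDim (R := B)).trans he) i
  obtain ⟨h3, h4⟩ := h1 ((HomD.evalShiftEquiv (W := ω) i).toEquiv.nontrivial_congr.2 h)
  exact ⟨e, he, h3, h4, (Module.supportDim_eq_of_equiv (HomD.evalShiftEquiv (W := ω) i)).symm.le.trans h2⟩

/-- `S₂` and the support of the lowest possible cohomology, locally -/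
theorem hasSk_two_of_dim_le {B : Type u} [CommRing B] [IsLocalRing B] [IsNoetherianRing B] (ω : Dual.D B)
    (hω : Dual.IsDualizing B ω) (hn : Dual.IsNormalized B ω) (d : ℕ) (hd : ringKrullDim B ≤ (d : WithBot ℕ∞)) :
    LocCoh.HasSk 2 B (Dual.HD B ω (-(d : ℤ))) ∧
      (Nontrivial (Dual.HD B ω (-(d : ℤ))) → ringKrullDim B = (d : WithBot ℕ∞)) := by
  have key : Nontrivial (Dual.HD B ω (-(d : ℤ))) → ringKrullDim B = (d : WithBot ℕ∞) := fun h => by
    obtain ⟨e, he, h1, -, -⟩ := range_of_nontrivial ω hω hn _ h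
    rw [he] at hd ⊢
    have h2 : e ≤ d := by exact_mod_cast hd
    obtain rfl : e = d := by omega
    rfl
  refine ⟨?_, key⟩
  rcases subsingleton_or_nontrivial (Dual.HD B ω (-(d : ℤ))) with h | h
  · intro p _
    rw [(Module.supportDim_eq_bot_iff_subsingleton _ _).2 inferInstance]
    exact le_trans (min_le_right _ _) bot_le
  · exact (Groth.Agent.S0369.result B ω hω hn d (key h)).2

variable {X : Scheme.{u}} {A : Type u} [CommRing A] [IsLocalRing A] [IsNoetherianRing A] (ω : Dual.D A)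
    (hω : Dual.IsDualizing A ω) (hn : Dual.IsNormalized A ω)
    {f : X ⟶ Spec (CommRingCat.of A)} [IsProper f]
    [DCoh.HasRpush f] {hf : DCoh.RpushPreservesQCoh f}
    {a : DCoh.DQCoh (Spec (CommRingCat.of A)) ⥤ DCoh.DQCoh X} (adj : DCoh.RpushQ f hf ⊣ a)
    [PreservesFiniteLimits (tilde.functor (CommRingCat.of A))]
    (W : DCoh.DQCoh (Spec (CommRingCat.of A)))
    (hW : Nonempty (W.obj ≅ (DCoh.tildeD (CommRingCat.of A)).obj ω))

omit [IsLocalRing A] [IsNoetherianRing A] in
include hω hW in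
theorem exists_isGE_W : ∃ c : ℤ, W.obj.IsGE c := by
  obtain ⟨c, b, hb⟩ := hω.finite_injective_dimension
  obtain ⟨e⟩ := hW
  refine ⟨c, (DerivedCategory.isGE_iff _ _).2 fun i hi => ?_⟩
  haveI := hb A i (Or.inl hi)
  haveI : Subsingleton (Dual.HD A ω i) := (HomD.evalShiftEquiv (W := ω) i).symm.toEquiv.subsingleton
  exact ((tilde.functor (CommRingCat.of A)).map_isZero (ModuleCat.isZero_of_subsingleton _)).of_iso
    ((DerivedCategory.homologyFunctor _ i).mapIso e ≪≫ TildeAlg.hdIso (R := CommRingCat.of A) ω i)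

include hω hW adj in
theorem isCoh_local (i : ℤ) : Coh.IsCoh (DCoh.HD (a.obj W).obj i) := by
  obtain ⟨c, hc⟩ := exists_isGE_W ω hω W hW
  refine isCoh_HD adj W c hc (fun j => ?_) i
  obtain ⟨e⟩ := hW
  haveI := hω.finite_cohomology j
  exact Groth.L16.CohKernel.isCoh_of_tilde_charts _ fun y =>
    ⟨CommRingCat.of A, 𝟙 _, inferInstance, _, ⟨y, rfl⟩, inferInstanceAs (Module.Finite A (Dual.HD A ω j)),
      ⟨Scheme.Modules.restrictFunctorId.app _ ≪≫ (DerivedCategory.homologyFunctor _ j).mapIso e ≪≫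
        TildeAlg.hdIso (R := CommRingCat.of A) ω j⟩⟩

include hω hW adj in
theorem isClosed_supp_local (i : ℤ) :
    IsClosed {x : X | Nontrivial ((DCoh.HD (a.obj W).obj i).presheaf.stalk x)} := by
  haveI : IsLocallyNoetherian X := LocallyOfFiniteType.isLocallyNoetherian f
  have hcoh := isCoh_local ω hω adj W hW i
  haveI := hcoh.1
  convert Groth.L16.CohSupport.isClosed_support _ hcoh.2 using 1
  exact Set.ext fun x => not_subsingleton_iff_nontrivial.symm

include hω hn hW adj in
/-- every point lies in a chart below a closed point, with a normalized dualizing complex there -/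
theorem exists_chart_closed [∀ R : CommRingCat.{u}, PreservesFiniteLimits (tilde.functor R)] (x : X) :
    ∃ (B : Type u) (_ : CommRing B) (_ : IsNoetherianRing B)
      (jU : Spec (CommRingCat.of B) ⟶ X) (_ : IsOpenImmersion jU) (η : Dual.D B)
      (q m : Spec (CommRingCat.of B)), jU q = x ∧ q.asIdeal ≤ m.asIdeal ∧ IsClosed ({jU m} : Set X) ∧
      Dual.IsDualizing B η ∧
      Dual.IsNormalized (Localization.AtPrime m.asIdeal) ((FlatBC.L B (Localization.AtPrime m.asIdeal)).obj η) ∧
      Nonempty ((DCoh.restrictD jU).obj (a.obj W).obj ≅ (DCoh.tildeD (CommRingCat.of B)).obj η) := by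
  haveI := fun {A B : Scheme.{u}} (g : A ⟶ B) => Groth.L00.KFlat.hasLpull g
  haveI : IsLocallyNoetherian X := LocallyOfFiniteType.isLocallyNoetherian f
  haveI : CompactSpace X := QuasiCompact.compactSpace_of_compactSpace f
  obtain ⟨x₀, hx₀, hclosed⟩ := (isClosed_closure (s := ({x} : Set X))).exists_closed_singleton
    ⟨x, subset_closure rfl⟩
  have hsp : x ⤳ x₀ := specializes_iff_mem_closure.2 hx₀
  obtain ⟨_, ⟨U, hU, rfl⟩, hxU, -⟩ :=
    X.isBasis_affineOpens.exists_subset_of_mem_open (Set.mem_univ x₀) isOpen_univ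
  obtain ⟨φ, hφ⟩ := Spec.map_surjective (hU.fromSpec ≫ f)
  letI : Algebra A Γ(X, U) := φ.hom.toAlgebra
  let C : Chart f :=
    { R := A, A := Γ(X, U), jV := 𝟙 _, jU := hU.fromSpec,
      w := by rw [Category.comp_id]; exact hφ.symm }
  haveI : IsNoetherianRing Γ(X, U) := IsLocallyNoetherian.component_noetherian ⟨U, hU⟩
  obtain ⟨n, ψ, hψ⟩ := exists_presentation C
  haveI : DRing.HasLBaseChange (algebraMap A (MvPolynomial (Fin n) A)) :=
    LBC.hasLBaseChange (CommRingCat.ofHom (algebraMap A (MvPolynomial (Fin n) A)))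
  obtain ⟨Rψ, ⟨adjψ⟩⟩ := Groth.L10.Shriek.exists_rightAdjoint ψ.toRingHom
  obtain ⟨o⟩ := hW
  obtain ⟨l⟩ := Groth.L10.FMDiag.nonempty_Lpull_id (X := Spec (CommRingCat.of A))
  obtain ⟨c, hc⟩ := exists_isGE_W ω hω W ⟨o⟩
  obtain ⟨e⟩ := nonempty_chart C adj n ψ hψ Rψ adjψ W c hc ω ⟨o.symm ≪≫ (l.app _).symm⟩
  obtain ⟨r⟩ := nonempty_Lpull_iso_restrictD hU.fromSpec (a.obj W).obj
  obtain ⟨m, hm⟩ : x₀ ∈ Set.range hU.fromSpec := hU.range_fromSpec.ge hxU
  obtain ⟨q, hq⟩ : x ∈ Set.range hU.fromSpec := hU.range_fromSpec.ge (hsp.mem_open U.2 hxU)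
  have hqm : q.asIdeal ≤ m.asIdeal :=
    (PrimeSpectrum.le_iff_specializes q m).2
      (hU.fromSpec.isOpenEmbedding.isInducing.specializes_iff.1 (by rw [hq, hm]; exact hsp))
  refine ⟨Γ(X, U), inferInstance, inferInstance, hU.fromSpec, inferInstance, Dual2.shriekVia n Rψ ω, q, m, hq, hqm,
    hm ▸ hclosed, Groth.Agent.S1782.result A Γ(X, U) n ψ hψ Rψ adjψ _ hω, ?_, ⟨r.symm ≪≫ e⟩⟩
  have hmax : m.asIdeal.IsMaximal := by
    refine (PrimeSpectrum.isClosed_singleton_iff_isMaximal m).1 ?_
    have h := (hm ▸ hclosed : IsClosed ({hU.fromSpec m} : Set X)).preimage hU.fromSpec.continuous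
    rwa [← Set.image_singleton (f := hU.fromSpec), hU.fromSpec.isOpenEmbedding.injective.preimage_image] at h
  haveI := hmax
  haveI : Module.Flat Γ(X, U) (Localization.AtPrime m.asIdeal) := IsLocalization.flat _ m.asIdeal.primeCompl
  haveI : DRing.HasLBaseChange (algebraMap Γ(X, U) (Localization.AtPrime m.asIdeal)) :=
    LBC.hasLBaseChange (CommRingCat.ofHom (algebraMap Γ(X, U) (Localization.AtPrime m.asIdeal)))
  have hfm : m.asIdeal.comap (algebraMap A Γ(X, U)) = IsLocalRing.maximalIdeal A := by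
    have himg : f '' {hU.fromSpec m} = {f (hU.fromSpec m)} := Set.image_singleton
    have hcl : IsClosed ({f (hU.fromSpec m)} : Set (Spec (CommRingCat.of A))) := by
      rw [← himg]
      exact f.isClosedMap _ (hm ▸ hclosed)
    have hpt : f (hU.fromSpec m) = PrimeSpectrum.comap (algebraMap A Γ(X, U)) m := by
      rw [← Scheme.Hom.comp_apply, ← hφ]
      rfl
    rw [hpt] at hcl
    exact IsLocalRing.eq_maximalIdeal ((PrimeSpectrum.isClosed_singleton_iff_isMaximal _).1 hcl)
  have h := (Groth.Agent.S1789.result A Γ(X, U) n ψ hψ Rψ adjψ m.asIdeal hfm _ hω hn).2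
  intro i hi
  haveI := h i hi
  exact (Iso.homCongr (Iso.refl _) ((shiftFunctor _ i).mapIso
    ((FlatBC.lbcIso (A := Γ(X, U)) (B := Localization.AtPrime m.asIdeal)).app _))).subsingleton_congr.1 inferInstance

end Groth.L10.ShriekLoc
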