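import Groth.Agent.L10.ShriekLoc.FieldSupp
import Groth.Agent.L06.SkTensor

/-!
Components and Serre conditions from a localization of a chart.
-/

set_option autoImplicit false
set_option linter.style.haveILetI false
set_option backward.defeqAttrib.useBackward true
set_option backward.isDefEq.respectTransparency false
set_option backward.isDefEq.respectTransparency.types false

universe u

open CategoryTheory CategoryTheory.Limits AlgebraicGeometry L02.FibDepth

attribute [local instance] HasDerivedCategory.standard

noncomputable section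

namespace Groth.L10.ShriekLoc

open Groth.L29 Groth.L29.DC Groth.L29.HomD

variable {X : Scheme.{u}} {A : Type u} [CommRing A]
  (jU : Spec (CommRingCat.of A) ⟶ X) [IsOpenImmersion jU]

/-- a large prime quotient of a localization gives a component of top dimension -/
theorem exists_component (n : ℕ) (hdim : topologicalKrullDim X ≤ (n : WithBot ℕ∞)) (m : Spec (CommRingCat.of A))
    (Q : Ideal (Localization.AtPrime m.asIdeal)) [Q.IsPrime] (q : Spec (CommRingCat.of A))
    (hq : Q.comap (algebraMap A (Localization.AtPrime m.asIdeal)) ≤ q.asIdeal)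
    (hQ : (n : WithBot ℕ∞) ≤ ringKrullDim (Localization.AtPrime m.asIdeal ⧸ Q)) :
    ∃ Z : Set X, Z ∈ irreducibleComponents X ∧ topologicalKrullDim ↥Z = (n : WithBot ℕ∞) ∧ jU q ∈ Z := by
  let q₀ : Ideal A := Q.comap (algebraMap A (Localization.AtPrime m.asIdeal))
  have hA : (n : WithBot ℕ∞) ≤ ringKrullDim (A ⧸ q₀) := by
    refine hQ.trans ?_
    let g := Ideal.quotientMap Q (algebraMap A (Localization.AtPrime m.asIdeal)) (le_refl q₀)
    have hinj : Function.Injective (PrimeSpectrum.comap g) := by
      intro p p' h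
      refine PrimeSpectrum.comap_injective_of_surjective _ Ideal.Quotient.mk_surjective
        (PrimeSpectrum.localization_comap_injective (Localization.AtPrime m.asIdeal) m.asIdeal.primeCompl ?_)
      have := congrArg (PrimeSpectrum.comap (Ideal.Quotient.mk q₀)) h
      simpa [g, ← PrimeSpectrum.comap_comp_apply, Ideal.quotientMap_comp_mk] using this
    exact Order.krullDim_le_of_strictMono (fun p => PrimeSpectrum.comap g p)
      (Monotone.strictMono_of_injective (fun p p' h => Ideal.comap_mono h) hinj)
  let η : Spec (CommRingCat.of A) := ⟨q₀, Ideal.IsPrime.comap _⟩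
  let Z := irreducibleComponent (jU η)
  have hcl : IsClosed Z := isClosed_irreducibleComponent
  have hη : jU η ∈ Z := mem_irreducibleComponent
  have hmem : ∀ p : Spec (CommRingCat.of A), q₀ ≤ p.asIdeal → jU p ∈ Z := fun p hp =>
    (((PrimeSpectrum.le_iff_specializes η p).1 hp).map jU.continuous).mem_closed hcl hη
  refine ⟨Z, irreducibleComponent_mem_irreducibleComponents _, ?_, hmem q hq⟩
  refine le_antisymm ((Topology.IsInducing.subtypeVal.topologicalKrullDim_le).trans hdim) ?_
  refine hA.trans ?_
  rw [← PrimeSpectrum.topologicalKrullDim_eq_ringKrullDim]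
  have hemb := jU.isOpenEmbedding.isEmbedding.isInducing.comp
    (PrimeSpectrum.isClosedEmbedding_comap_of_surjective (R := A) (A ⧸ q₀) (Ideal.Quotient.mk q₀)
      Ideal.Quotient.mk_surjective).isInducing
  refine (hemb.codRestrict (s := Z) fun p => hmem _ ?_).topologicalKrullDim_le
  intro r hr
  change Ideal.Quotient.mk q₀ r ∈ p.asIdeal
  rw [Ideal.Quotient.eq_zero_iff_mem.2 hr]
  exact p.asIdeal.zero_mem

variable [IsNoetherianRing A] [∀ R : CommRingCat.{u}, PreservesFiniteLimits (tilde.functor R)] {L : DCoh.D X}
  {ω : Dual.D A}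

/-- Serre's condition passes from a localization to a generalization -/
theorem hasSk_stalk (e : (DCoh.restrictD jU).obj L ≅ (DCoh.tildeD (CommRingCat.of A)).obj ω)
    (q m : Spec (CommRingCat.of A)) (hqm : q.asIdeal ≤ m.asIdeal) (hω : Dual.IsDualizing A ω) {k : ℕ} {i : ℤ}
    (h : haveI : Module.Flat A (Localization.AtPrime m.asIdeal) := IsLocalization.flat _ m.asIdeal.primeCompl
      LocCoh.HasSk k (Localization.AtPrime m.asIdeal)
        (Dual.HD (Localization.AtPrime m.asIdeal) ((FlatBC.L A (Localization.AtPrime m.asIdeal)).obj ω) i)) :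
    LocCoh.HasSk k (X.presheaf.stalk (jU q)) ((DCoh.HD L i).presheaf.stalk (jU q)) := by
  haveI := hω.finite_cohomology i
  haveI : Module.Flat A (Localization.AtPrime m.asIdeal) := IsLocalization.flat _ m.asIdeal.primeCompl
  have hB := FlatBC.isDualizing_L_localization (B := Localization.AtPrime m.asIdeal) m.asIdeal.primeCompl hω
  haveI := hB.finite_cohomology i
  obtain ⟨E⟩ := nonempty_semi_chart jU (DCoh.HD L i)
    (show ModuleCat.{u} (CommRingCat.of A) from (Groth.L02.PC.HH i).obj ω)
    ((HDResIso jU _ _).symm ≪≫ (DerivedCategory.homologyFunctor _ _).mapIso e ≪≫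
      TildeAlg.hdIso (R := CommRingCat.of A) ω _) q
  haveI : Module.Finite (Localization.AtPrime q.asIdeal)
      (LocalizedModule q.asIdeal.primeCompl (Dual.HD A ω i)) :=
    Module.Finite.of_isLocalizedModule q.asIdeal.primeCompl (LocalizedModule.mkLinearMap q.asIdeal.primeCompl _)
  refine (E.hasSk_iff k).1 ?_
  change EGA4.HasSkAt k A (Dual.HD A ω i) q.asIdeal
  rw [Groth.L06.SkTensor.hasSkAt_iff]
  intro P _ hP
  suffices hm : EGA4.HasSkAt k A (Dual.HD A ω i) m.asIdeal from
    (Groth.L06.SkTensor.hasSkAt_iff _ k m.asIdeal).1 hm P (hP.trans hqm)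
  let t : Dual.HD (Localization.AtPrime m.asIdeal) ((FlatBC.L A (Localization.AtPrime m.asIdeal)).obj ω) i ≃ₗ[
      Localization.AtPrime m.asIdeal] LocalizedModule m.asIdeal.primeCompl (Dual.HD A ω i) :=
    (FlatBC.hEquiv A (Localization.AtPrime m.asIdeal) _ _).trans
      (LocalizedModule.equivTensorProduct m.asIdeal.primeCompl _).symm
  let T : Semi (Localization.AtPrime m.asIdeal)
      (Dual.HD (Localization.AtPrime m.asIdeal) ((FlatBC.L A (Localization.AtPrime m.asIdeal)).obj ω) i)
      (Localization.AtPrime m.asIdeal) (LocalizedModule m.asIdeal.primeCompl (Dual.HD A ω i)) :=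
    ⟨RingHom.id _, Function.surjective_id, t.toAddEquiv, fun r y => t.map_smul r y⟩
  exact (T.hasSk_iff k).1 h

end Groth.L10.ShriekLoc
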