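import Groth.Agent.L10.ShriekLoc.Compact
import Groth.Agent.L07.SyntDim
import Groth.Agent.L10.Shriek.FlatRange

/-!
`f^! O` on charts: degrees and fibre dimension.
-/

set_option autoImplicit false
set_option linter.style.haveILetI false
set_option backward.defeqAttrib.useBackward true
set_option backward.isDefEq.respectTransparency false
set_option backward.isDefEq.respectTransparency.types false

universe u

open CategoryTheory CategoryTheory.Limits AlgebraicGeometry

attribute [local instance] HasDerivedCategory.standard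

noncomputable section

namespace Groth.L10.ShriekLoc

open Groth.L00 Groth.L29 Groth.L29.DC Groth.L29.BCAdj

variable {X Y S : Scheme.{u}} {f : X ⟶ Y}

theorem locallyOfFiniteType_of_sepFT {p : X ⟶ S} {q : Y ⟶ S} [Dual3.IsSepFT p] (w : f ≫ q = p) :
    LocallyOfFiniteType f := by
  haveI : LocallyOfFiniteType (f ≫ q) := by rw [w]; infer_instance
  exact locallyOfFiniteType_of_comp f q

theorem module_flat [Flat f] (C : Chart f) : Module.Flat C.R C.A := by
  haveI : Flat (Spec.map (CommRingCat.ofHom (algebraMap C.R C.A)) ≫ C.jV) := by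
    rw [← C.w]; infer_instance
  have h : Flat (Spec.map (CommRingCat.ofHom (algebraMap C.R C.A))) :=
    MorphismProperty.of_postcomp (W := @Flat) (W' := @IsOpenImmersion) _ C.jV inferInstance inferInstance
  exact RingHom.flat_algebraMap_iff.1 ((HasRingHomProperty.Spec_iff (P := @Flat)).1 h)

theorem fibreDimAt_chart (C : Chart f) (z : Spec (CommRingCat.of C.A)) :
    Dual3.localFibreDim f (C.jU z) =
      FlatMor.fibreDimAt (Spec.map (CommRingCat.ofHom (algebraMap C.R C.A))) z := by
  rw [← Groth.L07.SyntDim.fibreDimAt_congr f (Spec.map (CommRingCat.ofHom (algebraMap C.R C.A))) C.jU C.jV C.w z]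
  unfold Dual3.localFibreDim FlatMor.fibreDimAt FlatMor.localDim
  exact iInf_subtype'

variable [IsNoetherian Y] [LocallyOfFiniteType f] (c : DEt.Compactification f) [DCoh.HasRpush c.fbar]
    {hc : DCoh.RpushPreservesQCoh c.fbar} {a : DCoh.DQCoh Y ⥤ DCoh.DQCoh c.Xbar}
    (adj : DCoh.RpushQ c.fbar hc ⊣ a) [PreservesFiniteLimits (Scheme.Modules.restrictFunctor c.j)]
    (O : DCoh.DQCoh Y) (hO : Nonempty (O.obj ≅ DCoh.inD Y (Coh.structureModule Y)))

include adj hO in
/-- `f^! O` on a chart -/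
theorem exists_omega (C : Chart f)
    [PreservesFiniteLimits (tilde.functor (CommRingCat.of C.R))]
    [PreservesFiniteLimits (tilde.functor (CommRingCat.of C.A))] [DCoh.HasLpull C.jU] :
    ∃ (n : ℕ) (ψ : MvPolynomial (Fin n) C.R →ₐ[C.R] C.A) (_ : Function.Surjective ψ)
      (_ : DRing.HasLBaseChange (algebraMap C.R (MvPolynomial (Fin n) C.R)))
      (Rψ : Dual.D (MvPolynomial (Fin n) C.R) ⥤ Dual.D C.A) (_ : DRing.restrictD ψ.toRingHom ⊣ Rψ),
      Nonempty ((DCoh.Lpull C.jU).obj ((Dual3.shriekC c a).obj O) ≅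
        (DCoh.tildeD (CommRingCat.of C.A)).obj (Dual2.shriekVia n Rψ (Dual.inD C.R C.R))) := by
  haveI := KFlat.hasLpull C.jV
  obtain ⟨n, ψ, hψ⟩ := exists_presentation C
  haveI : DRing.HasLBaseChange (algebraMap C.R (MvPolynomial (Fin n) C.R)) :=
    LBC.hasLBaseChange (CommRingCat.ofHom (algebraMap C.R (MvPolynomial (Fin n) C.R)))
  obtain ⟨Rψ, ⟨adjψ⟩⟩ := Groth.L10.Shriek.exists_rightAdjoint ψ.toRingHom
  exact ⟨n, ψ, hψ, inferInstance, Rψ, adjψ,
    nonempty_shriekC c adj C n ψ hψ Rψ adjψ O 0 (isGE_O O hO) _ (nonempty_O C O hO)⟩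

include adj hO in
theorem neg_le (x : X) (d : ℕ) (hd : Dual3.localFibreDim f x ≤ (d : WithBot ℕ∞)) (i : ℤ)
    (hi : Nontrivial ((DCoh.HD ((Dual3.shriekC c a).obj O) i).presheaf.stalk x)) :
    -(d : ℤ) ≤ i ∧ (Flat f → i ≤ 0) := by
  haveI := fun {A B : Scheme.{u}} (k : A ⟶ B) => KFlat.hasLpull k
  haveI := fun (R : CommRingCat.{u}) => Groth.L18.TildeF.tilde_preservesFiniteLimits (R := R)
  haveI : IsLocallyNoetherian X := LocallyOfFiniteType.isLocallyNoetherian f
  obtain ⟨C, hx⟩ := exists_chart' f x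
  haveI := isNoetherian_R C
  haveI := isNoetherian_A C
  obtain ⟨n, ψ, hψ, _, Rψ, adjψ, he⟩ := exists_omega c adj O hO C
  obtain ⟨z, rfl⟩ := hx
  have hs := (nontrivial_stalk C he z i).1 hi
  rw [Module.mem_support_iff] at hs
  rw [fibreDimAt_chart] at hd
  refine ⟨Groth.L10.Shriek.FibreVanish.neg_fibreDim_le n ψ hψ adjψ z d hd i hs, fun hf => ?_⟩
  haveI := module_flat C
  exact (Groth.L10.Shriek.FlatRange.range n ψ hψ adjψ z d hd i hs).2

end Groth.L10.ShriekLoc
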