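import Groth.Agent.L10.ShriekLoc.Compact
import Groth.Agent.L29.BC.Closure
import Groth.Agent.L29.DCoh.Gen.Loc
import Groth.Agent.L10.DTen.PerfectInd
import Groth.Agent.L10.DTen.PerfRes
import Groth.Agent.S1828
import Groth.Agent.L29.K.Perfect
import Groth.Agent.L10.Shriek.BC

/-!
Invertible and perfect objects from charts; the shriek of a local complete intersection.
-/

set_option autoImplicit false
set_option linter.style.haveILetI false
set_option backward.defeqAttrib.useBackward true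
set_option backward.isDefEq.respectTransparency false
set_option backward.isDefEq.respectTransparency.types false

universe u

open CategoryTheory CategoryTheory.Limits AlgebraicGeometry CategoryTheory.Pretriangulated

attribute [local instance] HasDerivedCategory.standard

noncomputable section

namespace Groth.L10.ShriekLoc

open Groth.L00 Groth.L29 Groth.L29.DC Groth.L29.BCAdj

variable {X T : Scheme.{u}}

theorem nonempty_restrict_range (j : T ⟶ X) [IsOpenImmersion j] [DCoh.HasLpull j]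
    [PreservesFiniteLimits (Scheme.Modules.restrictFunctor j.opensRange.ι)]
    [DCoh.HasLpull j.isoOpensRange.inv] (K : DCoh.D X) :
    Nonempty ((DCoh.restrictD j.opensRange.ι).obj K ≅
      (DCoh.Lpull j.isoOpensRange.inv).obj ((DCoh.Lpull j).obj K)) := by
  haveI := KFlat.hasLpull j.opensRange.ι
  obtain ⟨r⟩ := nonempty_Lpull_iso_restrictD j.opensRange.ι K
  obtain ⟨l⟩ := Groth.L10.FMBC.nonempty_lpull_comp' j.isoOpensRange.inv j j.isoOpensRange_inv_comp
  exact ⟨r.symm ≪≫ (l.app K).symm⟩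

theorem isPerfect_of_charts {K : DCoh.D X}
    (h : ∀ x : X, ∃ (T : Scheme.{u}) (j : T ⟶ X) (_ : IsOpenImmersion j) (_ : DCoh.HasLpull j),
      x ∈ Set.range j ∧ DCoh.IsPerfect ((DCoh.Lpull j).obj K)) : DCoh.IsPerfect K := by
  refine Gen.isPerfect_of_cover fun x => ?_
  obtain ⟨T, j, _, _, hx, hp⟩ := h x
  haveI := KFlat.hasLpull j.isoOpensRange.inv
  obtain ⟨e⟩ := nonempty_restrict_range j K
  exact ⟨j.opensRange, hx, isPerfect_of_iso e.symm (isPerfect_Lpull j.isoOpensRange.inv hp)⟩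

theorem nonempty_Lpull_OD_shift {Z' Z : Scheme.{u}} (k : Z' ⟶ Z) [DCoh.HasLpull k] (m : ℤ) :
    Nonempty ((DCoh.Lpull k).obj ((DCoh.inD Z (Coh.structureModule Z))⟦m⟧) ≅
      (DCoh.inD Z' (Coh.structureModule Z'))⟦m⟧) := by
  letI := BC.commShiftLpull k
  obtain ⟨o⟩ := Groth.L29.BCAdj.nonempty_Lpull_OD k
  exact ⟨((DCoh.Lpull k).commShiftIso m).app _ ≪≫ (shiftFunctor _ m).mapIso o⟩

theorem isInvertibleD_of_charts
    [∀ (U : Scheme.{u}) (j : U ⟶ X) [IsOpenImmersion j], PreservesFiniteLimits (Scheme.Modules.restrictFunctor j)]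
    {K : DCoh.D X}
    (h : ∀ x : X, ∃ (T : Scheme.{u}) (j : T ⟶ X) (_ : IsOpenImmersion j) (_ : DCoh.HasLpull j) (m : ℤ),
      x ∈ Set.range j ∧
        Nonempty ((DCoh.Lpull j).obj K ≅ (DCoh.inD T (Coh.structureModule T))⟦m⟧)) :
    Dual3.IsInvertibleD K := fun x => by
  obtain ⟨T, j, _, _, m, hx, ⟨t⟩⟩ := h x
  haveI := KFlat.hasLpull j.isoOpensRange.inv
  obtain ⟨e⟩ := nonempty_restrict_range j K
  obtain ⟨o⟩ := nonempty_Lpull_OD_shift j.isoOpensRange.inv m
  exact ⟨j.opensRange, m, hx, ⟨e ≪≫ (DCoh.Lpull _).mapIso t ≪≫ o⟩⟩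

theorem nonempty_tilde_self (B : Type u) [CommRing B] [PreservesFiniteLimits (tilde.functor (CommRingCat.of B))] :
    Nonempty ((DCoh.tildeD (CommRingCat.of B)).obj (Dual.inD B B) ≅
      DCoh.inD (Spec (CommRingCat.of B)) (Coh.structureModule (Spec (CommRingCat.of B)))) := by
  haveI : (tilde.functor (CommRingCat.of B)).IsLeftAdjoint := tilde.adjunction.isLeftAdjoint
  exact ⟨((tilde.functor (CommRingCat.of B)).mapDerivedCategorySingleFunctor 0).app (ModuleCat.of B B) ≪≫
    (DerivedCategory.singleFunctor (Spec (CommRingCat.of B)).Modules 0).mapIso tildeSelf⟩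

theorem nonempty_tilde_self_shift (B : Type u) [CommRing B]
    [PreservesFiniteLimits (tilde.functor (CommRingCat.of B))] (m : ℤ) :
    Nonempty ((DCoh.tildeD (CommRingCat.of B)).obj ((Dual.inD B B)⟦m⟧) ≅
      (DCoh.inD (Spec (CommRingCat.of B)) (Coh.structureModule (Spec (CommRingCat.of B))))⟦m⟧) := by
  obtain ⟨t⟩ := nonempty_tilde_self B
  exact ⟨((DCoh.tildeD (CommRingCat.of B)).commShiftIso m).app _ ≪≫ (shiftFunctor _ m).mapIso t⟩

/-- passing to a smaller affine chart is derived base change -/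
theorem nonempty_lbc_chart {A B : Type u} [CommRing A] [CommRing B] (g : A →+* B)
    [PreservesFiniteLimits (tilde.functor (CommRingCat.of A))]
    [PreservesFiniteLimits (tilde.functor (CommRingCat.of B))]
    [DRing.HasLBaseChange g]
    (j : Spec (CommRingCat.of A) ⟶ X) [DCoh.HasLpull j]
    [DCoh.HasLpull (Spec.map (CommRingCat.ofHom g) ≫ j)] {K : DCoh.D X} {N : Dual.D A}
    (e : Nonempty ((DCoh.Lpull j).obj K ≅ (DCoh.tildeD (CommRingCat.of A)).obj N)) :
    Nonempty ((DCoh.Lpull (Spec.map (CommRingCat.ofHom g) ≫ j)).obj K ≅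
      (DCoh.tildeD (CommRingCat.of B)).obj ((DRing.LBaseChange g).obj N)) := by
  haveI := KFlat.hasLpull (Spec.map (CommRingCat.ofHom g))
  haveI : DRing.HasLBaseChange (CommRingCat.ofHom g).hom := ‹_›
  obtain ⟨e⟩ := e
  obtain ⟨l⟩ := Groth.L10.FMBC.nonempty_lpull_comp' (Spec.map (CommRingCat.ofHom g)) j rfl
  obtain ⟨t⟩ := LBC.nonempty_tildeDIso (CommRingCat.ofHom g)
  exact ⟨(l.app K).symm ≪≫ (DCoh.Lpull _).mapIso e ≪≫ (t.app N).symm⟩

section Algebra

variable {R A : Type u} [CommRing R] [CommRing A] [IsNoetherianRing R] [IsNoetherianRing A] [Algebra R A]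
  (n : ℕ) (ψ : MvPolynomial (Fin n) R →ₐ[R] A) (hψ : Function.Surjective ψ)
  [DRing.HasLBaseChange (algebraMap R (MvPolynomial (Fin n) R))]
  (Rψ : Dual.D (MvPolynomial (Fin n) R) ⥤ Dual.D A) (adj : DRing.restrictD ψ.toRingHom ⊣ Rψ)

include hψ adj in
theorem exists_away (hl : LCI.IsLCI R A) (q : Spec (CommRingCat.of A)) :
    ∃ (g : A) (_ : q ∈ Set.range (Spec.map (CommRingCat.ofHom (algebraMap A (Localization.Away g)))))
      (_ : IsOpenImmersion (Spec.map (CommRingCat.ofHom (algebraMap A (Localization.Away g)))))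
      (_ : DRing.HasLBaseChange (algebraMap A (Localization.Away g))) (m : ℤ),
      Nonempty ((DRing.LBaseChange (algebraMap A (Localization.Away g))).obj
        (Dual2.shriekVia n Rψ (Dual.inD R R)) ≅ (Dual.inD (Localization.Away g) (Localization.Away g))⟦m⟧) := by
  haveI : ∀ f : A, DRing.HasLBaseChange (algebraMap A (Localization.Away f)) := fun f =>
    LBC.hasLBaseChange (CommRingCat.ofHom (algebraMap A (Localization.Away f)))
  obtain ⟨g, hg, m, e⟩ := Groth.Agent.S1828.result R A hl n ψ hψ Rψ adj q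
  refine ⟨g, ?_, inferInstance, inferInstance, m, e⟩
  exact (PrimeSpectrum.localization_away_comap_range (Localization.Away g) g).ge hg

include hψ adj in
theorem isPerfect_shriekVia_self (hl : LCI.IsLCI R A) :
    DRing.IsPerfect A (Dual2.shriekVia n Rψ (Dual.inD R R)) := by
  haveI : PreservesFiniteLimits (tilde.functor (CommRingCat.of A)) := Groth.L18.TildeF.tilde_preservesFiniteLimits
  refine TildeAlg.perfect_of_tilde (R := CommRingCat.of A) (isPerfect_of_charts fun q => ?_)
  obtain ⟨g, hq, _, _, m, ⟨e⟩⟩ := exists_away n ψ hψ Rψ adj hl q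
  haveI : PreservesFiniteLimits (tilde.functor (CommRingCat.of (Localization.Away g))) :=
    Groth.L18.TildeF.tilde_preservesFiniteLimits
  let k := Spec.map (CommRingCat.ofHom (algebraMap A (Localization.Away g)))
  haveI := KFlat.hasLpull k
  haveI : DRing.HasLBaseChange (CommRingCat.ofHom (algebraMap A (Localization.Away g))).hom := ‹_›
  obtain ⟨t⟩ := LBC.nonempty_tildeDIso (CommRingCat.ofHom (algebraMap A (Localization.Away g)))
  refine ⟨_, k, inferInstance, inferInstance, hq, isPerfect_of_iso ((t.app _))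
    (TildeAlg.perfect_tilde (R := CommRingCat.of (Localization.Away g))
      (Groth.L10.DTen.perfect_of_iso' e.symm (Groth.L10.DTen.perfect_shift' Groth.L29.Perfect.self m)))⟩

include hψ adj in
theorem isPerfect_shriekVia (hl : LCI.IsLCI R A) (M : Dual.D R) (hM : DRing.IsPerfect R M) :
    DRing.IsPerfect A (Dual2.shriekVia n Rψ M) := by
  have h0 := isPerfect_shriekVia_self n ψ hψ Rψ adj hl
  obtain ⟨adjB⟩ := Groth.L10.Shriek.exists_adjLBC (algebraMap R (MvPolynomial (Fin n) R))
  letI := adjB.leftAdjointCommShift ℤ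
  haveI := Adjunction.commShift_of_rightAdjoint adjB ℤ
  haveI := adjB.isTriangulated_leftAdjoint
  letI := adj.rightAdjointCommShift ℤ
  haveI := adj.commShift_of_leftAdjoint ℤ
  haveI := adj.isTriangulated_rightAdjoint
  let F : Dual.D R ⥤ Dual.D A :=
    DRing.LBaseChange (algebraMap R (MvPolynomial (Fin n) R)) ⋙ Rψ ⋙ shiftFunctor _ (n : ℤ)
  let G : Dual.D R ⥤ Dual.D A := DRing.LBaseChange (algebraMap R (MvPolynomial (Fin n) R)) ⋙ Rψ
  let P : ObjectProperty (Dual.D R) := fun Z => DRing.IsPerfect A (G.obj Z)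
  haveI : P.IsClosedUnderIsomorphisms := ⟨fun e h => Groth.L10.DTen.perfect_of_iso' (G.mapIso e) h⟩
  have hu : DRing.IsPerfect A (G.obj (_root_.DTen.unit R)) := by
    refine Groth.L10.DTen.perfect_of_iso' ?_ (Groth.L10.DTen.perfect_shift' h0 (-(n : ℤ)))
    exact (shiftFunctorCompIsoId (Dual.D A) (n : ℤ) (-(n : ℤ)) (by simp)).app _ ≪≫
      G.mapIso ((DerivedCategory.singleFunctorIsoCompQ (ModuleCat.{u} R) 0).app (ModuleCat.of R R))
  refine Groth.L10.DTen.perfect_shift' (Groth.L10.DTen.perfect_induction P (fun T hT h₁ h₃ =>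
    Groth.L10.DTen.perfect_second _ (G.map_distinguished T hT) h₁ h₃)
    (fun r h => Groth.L10.DTen.perfect_retract (r.map G) h) (fun k => ?_) hM) (n : ℤ)
  exact Groth.L10.DTen.perfect_of_iso' ((G.commShiftIso k).app _).symm (Groth.L10.DTen.perfect_shift' hu k)

end Algebra

variable {Y : Scheme.{u}} {f : X ⟶ Y}

theorem exists_chart_lci (hf : Dual3.IsLCIMor f) (x : X) :
    ∃ C : Chart f, x ∈ Set.range C.jU ∧ LCI.IsLCI C.R C.A := by
  obtain ⟨U, V, hle, hx, hl⟩ := hf x
  letI : Algebra Γ(Y, V.1) Γ(X, U.1) := (f.appLE V.1 U.1 hle).hom.toAlgebra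
  exact ⟨{ R := Γ(Y, V.1), A := Γ(X, U.1), jV := V.2.fromSpec, jU := U.2.fromSpec,
           w := (IsAffineOpen.SpecMap_appLE_fromSpec f V.2 U.2 hle).symm },
    by rw [U.2.range_fromSpec]; exact hx, hl⟩

end Groth.L10.ShriekLoc
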