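import Groth.Agent.L10.ShriekLoc.OmegaAmp
import Groth.Agent.L10.ShriekLoc.Local
import Groth.Agent.L29.Dual.SchCharts
import Groth.Agent.S1801

/-!
The restriction of `f^! O` to a fibre is dualizing.
-/

set_option autoImplicit false
set_option linter.style.haveILetI false
set_option backward.defeqAttrib.useBackward true
set_option backward.isDefEq.respectTransparency false
set_option backward.isDefEq.respectTransparency.types false

universe u

open CategoryTheory CategoryTheory.Limits AlgebraicGeometry TensorProduct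

attribute [local instance] HasDerivedCategory.standard

noncomputable section

namespace Groth.L10.ShriekLoc

open Groth.L00 Groth.L29 Groth.L29.DC Groth.L29.BCAdj

theorem isPullback_comp_mono {C : Type*} [Category C] {P A B Z W : C} {a : P ⟶ A} {b : P ⟶ B} {g : A ⟶ Z}
    {h : B ⟶ Z} (sq : IsPullback a b g h) (i : Z ⟶ W) [Mono i] : IsPullback a b (g ≫ i) (h ≫ i) := by
  refine IsPullback.of_isLimit' ⟨by rw [sq.w_assoc]⟩ (PullbackCone.IsLimit.mk _
    (fun s => sq.lift s.fst s.snd ((cancel_mono i).1 (by rw [Category.assoc, Category.assoc]; exact s.condition)))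
    (fun s => sq.lift_fst _ _ _) (fun s => sq.lift_snd _ _ _)
    fun s m h1 h2 => sq.hom_ext (by rw [sq.lift_fst]; exact h1) (by rw [sq.lift_snd]; exact h2))

variable {X Y : Scheme.{u}} {f : X ⟶ Y} [IsNoetherian Y] [LocallyOfFiniteType f] (c : DEt.Compactification f)
    [DCoh.HasRpush c.fbar] {hc : DCoh.RpushPreservesQCoh c.fbar} {a : DCoh.DQCoh Y ⥤ DCoh.DQCoh c.Xbar}
    (adj : DCoh.RpushQ c.fbar hc ⊣ a)
    [∀ (U V : Scheme.{u}) (j : U ⟶ V) [IsOpenImmersion j], PreservesFiniteLimits (Scheme.Modules.restrictFunctor j)]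
    [∀ (R : CommRingCat.{u}), PreservesFiniteLimits (tilde.functor R)]
    (O : DCoh.DQCoh Y) (hO : Nonempty (O.obj ≅ DCoh.inD Y (Coh.structureModule Y)))

include adj hO in
set_option maxHeartbeats 1600000 in
theorem isDualizing_fibre [Flat f] (y : Y) [DCoh.HasLpull (f.fiberι y)] :
    Dual2.IsDualizingSch (f.fiber y) ((DCoh.Lpull (f.fiberι y)).obj ((Dual3.shriekC c a).obj O)) := by
  haveI := fun {A B : Scheme.{u}} (k : A ⟶ B) => KFlat.hasLpull k
  haveI : IsLocallyNoetherian X := LocallyOfFiniteType.isLocallyNoetherian f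
  haveI : LocallyOfFiniteType (f.fiberToSpecResidueField y) :=
    MorphismProperty.pullback_snd f (Y.fromSpecResidueField y) inferInstance
  haveI : IsLocallyNoetherian (f.fiber y) :=
    LocallyOfFiniteType.isLocallyNoetherian (f.fiberToSpecResidueField y)
  refine Groth.L29.SchCharts.isDualizingSch_of_cover fun x' => ?_
  obtain ⟨C, hx⟩ := exists_chart' f (f.fiberι y x')
  haveI := isNoetherian_R C
  haveI := isNoetherian_A C
  haveI := module_flat C
  obtain ⟨n, ψ, hψ, _, Rψ, adjψ, he⟩ := exists_omega c adj O hO C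
  obtain ⟨z, hz⟩ := hx
  let κ := Y.residueField y
  have hfy : f (f.fiberι y x') = y := by
    have : f.fiberι y x' ∈ Set.range (f.fiberι y) := ⟨x', rfl⟩
    rwa [f.range_fiberι y] at this
  have hjV : C.jV (Spec.map (CommRingCat.ofHom (algebraMap C.R C.A)) z) = y := by
    rw [← Scheme.Hom.comp_apply, ← C.w, Scheme.Hom.comp_apply, hz, hfy]
  let l : Spec κ ⟶ Spec (CommRingCat.of C.R) := IsOpenImmersion.lift C.jV (Y.fromSpecResidueField y) (by
    rw [Scheme.range_fromSpecResidueField]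
    rintro _ rfl
    exact ⟨_, hjV⟩)
  have hl : l ≫ C.jV = Y.fromSpecResidueField y := IsOpenImmersion.lift_fac _ _ _
  letI : Algebra C.R κ := (Spec.preimage l).hom.toAlgebra
  have hl' : Spec.map (CommRingCat.ofHom (algebraMap C.R κ)) = l := Spec.map_preimage l
  let ι : C.A →+* κ ⊗[C.R] C.A := (Algebra.TensorProduct.includeRight : C.A →ₐ[C.R] κ ⊗[C.R] C.A).toRingHom
  let inl : ↑κ →+* κ ⊗[C.R] C.A := (Algebra.TensorProduct.includeLeftRingHom : ↑κ →+* κ ⊗[C.R] C.A)
  have sq₀ : IsPullback (Spec.map (CommRingCat.ofHom inl)) (Spec.map (CommRingCat.ofHom ι))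
      (Spec.map (CommRingCat.ofHom (algebraMap C.R κ))) (Spec.map (CommRingCat.ofHom (algebraMap C.R C.A))) :=
    isPullback_SpecMap_of_isPushout _ _ _ _ (CommRingCat.isPushout_tensorProduct C.R κ C.A)
  have sq₁ : IsPullback (Spec.map (CommRingCat.ofHom ι)) (Spec.map (CommRingCat.ofHom inl))
      (C.jU ≫ f) (Y.fromSpecResidueField y) := by
    rw [C.w, ← hl, ← hl']
    exact isPullback_comp_mono sq₀.flip C.jV
  have hsq : IsPullback (f.fiberι y) (f.fiberToSpecResidueField y) f (Y.fromSpecResidueField y) :=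
    IsPullback.of_hasPullback f (Y.fromSpecResidueField y)
  let m : Spec (CommRingCat.of (κ ⊗[C.R] C.A)) ⟶ f.fiber y :=
    hsq.lift (Spec.map (CommRingCat.ofHom ι) ≫ C.jU) (Spec.map (CommRingCat.ofHom inl))
      (by rw [Category.assoc]; exact sq₁.w)
  have hm₁ : m ≫ f.fiberι y = Spec.map (CommRingCat.ofHom ι) ≫ C.jU := hsq.lift_fst _ _ _
  have hm₂ : m ≫ f.fiberToSpecResidueField y = Spec.map (CommRingCat.ofHom inl) := hsq.lift_snd _ _ _
  have sq₂ : IsPullback (Spec.map (CommRingCat.ofHom ι)) m C.jU (f.fiberι y) := by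
    refine IsPullback.of_bot ?_ hm₁.symm hsq
    rw [hm₂]
    exact sq₁
  haveI : IsOpenImmersion m := MorphismProperty.of_isPullback sq₂ inferInstance
  haveI : DRing.HasLBaseChange ι := LBC.hasLBaseChange (CommRingCat.ofHom ι)
  haveI : DRing.HasLBaseChange (Algebra.TensorProduct.includeRight : C.A →ₐ[C.R] κ ⊗[C.R] C.A).toRingHom := ‹_›
  have hdual := (Groth.Agent.S1801.result C.R C.A n ψ hψ Rψ adjψ).2.2.2.2 κ
  obtain ⟨t⟩ := nonempty_lbc_chart ι C.jU he
  obtain ⟨r⟩ := nonempty_Lpull_iso_restrictD m ((DCoh.Lpull (f.fiberι y)).obj ((Dual3.shriekC c a).obj O))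
  obtain ⟨l'⟩ := Groth.L10.FMBC.nonempty_lpull_comp' m (f.fiberι y) hm₁
  refine ⟨CommRingCat.of (κ ⊗[C.R] C.A), m, inferInstance, _, ?_, hdual, ⟨r.symm ≪≫ l'.app _ ≪≫ t⟩⟩
  obtain ⟨w, -, hw⟩ := Scheme.Pullback.exists_preimage_pullback (f := C.jU) (g := f.fiberι y) z x' hz
  refine ⟨sq₂.isoPullback.inv w, ?_⟩
  rw [← Scheme.Hom.comp_apply, sq₂.isoPullback_inv_snd]
  exact hw

end Groth.L10.ShriekLoc
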