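import Groth.Agent.L10.ShriekLoc.OmegaAmp
import Groth.Agent.L10.ShriekLoc.Local
import Groth.Agent.L10.Shriek.GorFibres
import Groth.Agent.L21.GorOpen.Main
import Groth.Agent.L29.Dual.SchCharts

/-!
Gorenstein points and invertibility of `f^! O`.
-/

set_option autoImplicit false
set_option linter.style.haveILetI false
set_option backward.defeqAttrib.useBackward true
set_option backward.isDefEq.respectTransparency false
set_option backward.isDefEq.respectTransparency.types false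

universe u

open CategoryTheory CategoryTheory.Limits AlgebraicGeometry TensorProduct

attribute [local instance] HasDerivedCategory.standard

noncomputable section

namespace Groth.L10.ShriekLoc

open Groth.L00 Groth.L29 Groth.L29.DC Groth.L29.BCAdj

section Alg

variable {R B : Type u} [CommRing R] [CommRing B] [Algebra R B]

theorem gorPrime_iff_fibre (p : Ideal R) [p.IsPrime] (q : PrimeSpectrum (p.Fiber B)) (w : PrimeSpectrum B)
    (hw : q.asIdeal.comap Algebra.TensorProduct.includeRight = w.asIdeal) (hp : w.asIdeal.under R = p) :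
    Groth.L21.GorOpen.GorPrime R B w ↔ LocCoh.IsGorensteinLocalRing (Localization.AtPrime q.asIdeal) := by
  let w' := q.asIdeal.comap (Algebra.TensorProduct.includeRight (R := R) (A := p.ResidueField) (B := B))
  haveI : w'.LiesOver p := ⟨by rw [show w' = w.asIdeal from hw, hp]⟩
  letI := Localization.AtPrime.algebraOfLiesOver p w'
  have e : Localization.AtPrime q.asIdeal ≃+*
      Localization.AtPrime w' ⧸ p.map (algebraMap R (Localization.AtPrime w')) :=
    (Ideal.Fiber.localizationAlgEquivQuotient p q.asIdeal).toRingEquiv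
  have hiff : Groth.L21.GorOpen.GorPrime R B w ↔
      LocCoh.IsGorensteinLocalRing (Localization.AtPrime w' ⧸ p.map (algebraMap R (Localization.AtPrime w'))) := by
    obtain rfl : w = ⟨w', inferInstance⟩ := PrimeSpectrum.ext hw.symm
    have hp' : w'.under R = p := hp
    unfold Groth.L21.GorOpen.GorPrime
    dsimp only
    rw [hp']
  rw [hiff]
  exact ⟨Groth.L21.GorensteinAscend.isGorensteinLocalRing_of_ringEquiv e.symm,
    Groth.L21.GorensteinAscend.isGorensteinLocalRing_of_ringEquiv e⟩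

theorem locGor_of_gorPrime (h : ∀ w, Groth.L21.GorOpen.GorPrime R B w) (p : PrimeSpectrum R) :
    Groth.L21.GorensteinFieldExt.LocGor (p.asIdeal.ResidueField ⊗[R] B) := by
  intro Q hQ
  let w : PrimeSpectrum B := ⟨Q.comap Algebra.TensorProduct.includeRight, inferInstance⟩
  have hp : w.asIdeal.under R = p.asIdeal := by
    have h1 := ((PrimeSpectrum.preimageEquivFiber R B p).symm ⟨Q, hQ⟩).2
    exact congrArg PrimeSpectrum.asIdeal h1
  exact (gorPrime_iff_fibre p.asIdeal ⟨Q, hQ⟩ w rfl hp).1 (h w)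

theorem gorPrime_of_locGor (w : PrimeSpectrum B)
    (h : Groth.L21.GorensteinFieldExt.LocGor ((w.asIdeal.under R).ResidueField ⊗[R] B)) :
    Groth.L21.GorOpen.GorPrime R B w := by
  obtain ⟨q, hq⟩ : ∃ q : PrimeSpectrum ((w.asIdeal.under R).Fiber B),
      q.asIdeal.comap Algebra.TensorProduct.includeRight = w.asIdeal := by
    refine ⟨PrimeSpectrum.preimageEquivFiber R B ⟨w.asIdeal.under R, inferInstance⟩ ⟨w, rfl⟩, ?_⟩
    have := (PrimeSpectrum.preimageEquivFiber R B ⟨w.asIdeal.under R, inferInstance⟩).symm_apply_apply ⟨w, rfl⟩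
    exact congrArg (fun z => z.1.asIdeal) this
  exact (gorPrime_iff_fibre _ q w hq rfl).2 (h q.asIdeal)

end Alg

variable {X Y : Scheme.{u}} {f : X ⟶ Y}

theorem nonempty_Lpull_restrict {T : Scheme.{u}} (U : X.Opens)
    [PreservesFiniteLimits (Scheme.Modules.restrictFunctor U.ι)] (j : T ⟶ (U : Scheme.{u})) [DCoh.HasLpull j]
    (j' : T ⟶ X) [DCoh.HasLpull j'] (w : j ≫ U.ι = j') (K : DCoh.D X) :
    Nonempty ((DCoh.Lpull j).obj ((DCoh.restrictD U.ι).obj K) ≅ (DCoh.Lpull j').obj K) := by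
  haveI := KFlat.hasLpull U.ι
  obtain ⟨r⟩ := nonempty_Lpull_iso_restrictD U.ι K
  obtain ⟨l⟩ := Groth.L10.FMBC.nonempty_lpull_comp' j U.ι w
  exact ⟨(DCoh.Lpull j).mapIso r.symm ≪≫ l.app K⟩

variable [IsNoetherian Y] [LocallyOfFiniteType f] (c : DEt.Compactification f) [DCoh.HasRpush c.fbar]
    {hc : DCoh.RpushPreservesQCoh c.fbar} {a : DCoh.DQCoh Y ⥤ DCoh.DQCoh c.Xbar}
    (adj : DCoh.RpushQ c.fbar hc ⊣ a)
    [∀ (U V : Scheme.{u}) (j : U ⟶ V) [IsOpenImmersion j], PreservesFiniteLimits (Scheme.Modules.restrictFunctor j)]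
    (O : DCoh.DQCoh Y) (hO : Nonempty (O.obj ≅ DCoh.inD Y (Coh.structureModule Y)))

include adj hO in
theorem exists_invertible [Flat f] (x : X) (hx : Dual3.IsGorensteinAt f x) :
    ∃ U : X.Opens, x ∈ U ∧ Dual3.IsInvertibleD ((DCoh.restrictD U.ι).obj ((Dual3.shriekC c a).obj O)) := by
  haveI := fun {A B : Scheme.{u}} (k : A ⟶ B) => KFlat.hasLpull k
  haveI := fun (R : CommRingCat.{u}) => Groth.L18.TildeF.tilde_preservesFiniteLimits (R := R)
  haveI : IsLocallyNoetherian X := LocallyOfFiniteType.isLocallyNoetherian f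
  haveI : LocallyOfFinitePresentation f := LocallyOfFinitePresentation.iff_locallyOfFiniteType.mpr inferInstance
  let G : X.Opens := ⟨{y | Dual3.IsGorensteinAt f y}, Groth.L21.GorOpen.isOpen_gorenstein f⟩
  obtain ⟨_, ⟨V, hV, rfl⟩, hxV, -⟩ :=
    Y.isBasis_affineOpens.exists_subset_of_mem_open (Set.mem_univ (f x)) isOpen_univ
  obtain ⟨_, ⟨W, hW, rfl⟩, hxW, hWle⟩ :=
    X.isBasis_affineOpens.exists_subset_of_mem_open (show x ∈ (G ⊓ f ⁻¹ᵁ V : X.Opens) from ⟨hx, hxV⟩)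
      (G ⊓ f ⁻¹ᵁ V).2
  have hle : W ≤ f ⁻¹ᵁ V := fun y hy => (hWle hy).2
  letI : Algebra Γ(Y, V) Γ(X, W) := (f.appLE V W hle).hom.toAlgebra
  let C : Chart f :=
    { R := Γ(Y, V), A := Γ(X, W), jV := hV.fromSpec, jU := hW.fromSpec,
      w := (IsAffineOpen.SpecMap_appLE_fromSpec f hV hW hle).symm }
  haveI := isNoetherian_R C
  haveI := isNoetherian_A C
  haveI := module_flat C
  obtain ⟨n, ψ, hψ, _, Rψ, adjψ, he⟩ := exists_omega c adj O hO C
  have hg : ∀ w, Groth.L21.GorOpen.GorPrime Γ(Y, V) Γ(X, W) w := fun w => by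
    have hy : hW.fromSpec w ∈ W := hW.range_fromSpec.le ⟨w, rfl⟩
    have h := (Groth.L21.GorOpen.isGorensteinAt_iff_gorPrime f hV hW hle _ hy).1 (hWle hy).1
    have hw : hW.primeIdealOf ⟨_, hy⟩ = w :=
      hW.fromSpec.isOpenEmbedding.injective (hW.fromSpec_primeIdealOf ⟨_, hy⟩)
    rwa [hw] at h
  refine ⟨C.jU.opensRange, hW.range_fromSpec.ge hxW, isInvertibleD_of_charts fun y => ?_⟩
  obtain ⟨z, hz⟩ := y.2
  obtain ⟨g, hgz, m, e⟩ := Groth.L10.Shriek.GorFibres.exists_invertible_of_gorenstein n ψ hψ adjψ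
    (locGor_of_gorPrime (R := C.R) (B := C.A) hg) z
  haveI : DRing.HasLBaseChange (algebraMap C.A (Localization.Away g)) :=
    LBC.hasLBaseChange (CommRingCat.ofHom (algebraMap C.A (Localization.Away g)))
  obtain ⟨e⟩ := @e _
  obtain ⟨t⟩ := nonempty_lbc_chart (algebraMap C.A (Localization.Away g)) C.jU he
  obtain ⟨s⟩ := nonempty_tilde_self_shift (Localization.Away g) m
  let k := Spec.map (CommRingCat.ofHom (algebraMap C.A (Localization.Away g)))
  have hk : (k ≫ C.jU.isoOpensRange.hom) ≫ C.jU.opensRange.ι = k ≫ C.jU := by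
    rw [Category.assoc, Scheme.Hom.isoOpensRange_hom_ι]
  obtain ⟨r⟩ := nonempty_Lpull_restrict C.jU.opensRange (k ≫ C.jU.isoOpensRange.hom) (k ≫ C.jU) hk
    ((Dual3.shriekC c a).obj O)
  refine ⟨_, k ≫ C.jU.isoOpensRange.hom, inferInstance, inferInstance, m, ?_,
    ⟨r ≪≫ t ≪≫ (DCoh.tildeD _).mapIso e ≪≫ s⟩⟩
  obtain ⟨z', hz'⟩ := (PrimeSpectrum.localization_away_comap_range (Localization.Away g) g).ge hgz
  refine ⟨z', C.jU.opensRange.ι.isOpenEmbedding.injective ?_⟩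
  rw [← Scheme.Hom.comp_apply, hk, Scheme.Hom.comp_apply]
  exact (congrArg C.jU hz').trans hz

include adj hO in
theorem isGorensteinAt_of_invertible [Flat f] (U : X.Opens)
    (hI : Dual3.IsInvertibleD ((DCoh.restrictD U.ι).obj ((Dual3.shriekC c a).obj O))) (x : X) (hx : x ∈ U) :
    Dual3.IsGorensteinAt f x := by
  haveI := fun {A B : Scheme.{u}} (k : A ⟶ B) => KFlat.hasLpull k
  haveI := fun (R : CommRingCat.{u}) => Groth.L18.TildeF.tilde_preservesFiniteLimits (R := R)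
  haveI : IsLocallyNoetherian X := LocallyOfFiniteType.isLocallyNoetherian f
  obtain ⟨_, ⟨V, hV, rfl⟩, hxV, -⟩ :=
    Y.isBasis_affineOpens.exists_subset_of_mem_open (Set.mem_univ (f x)) isOpen_univ
  obtain ⟨_, ⟨W, hW, rfl⟩, hxW, hWle⟩ :=
    X.isBasis_affineOpens.exists_subset_of_mem_open (show x ∈ (U ⊓ f ⁻¹ᵁ V : X.Opens) from ⟨hx, hxV⟩)
      (U ⊓ f ⁻¹ᵁ V).2
  have hle : W ≤ f ⁻¹ᵁ V := fun y hy => (hWle hy).2
  letI : Algebra Γ(Y, V) Γ(X, W) := (f.appLE V W hle).hom.toAlgebra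
  let C : Chart f :=
    { R := Γ(Y, V), A := Γ(X, W), jV := hV.fromSpec, jU := hW.fromSpec,
      w := (IsAffineOpen.SpecMap_appLE_fromSpec f hV hW hle).symm }
  haveI := isNoetherian_R C
  haveI := isNoetherian_A C
  haveI := module_flat C
  obtain ⟨n, ψ, hψ, _, Rψ, adjψ, he⟩ := exists_omega c adj O hO C
  have hinv : ∀ z : PrimeSpectrum C.A, ∃ (g : C.A) (_ : g ∉ z.asIdeal) (m : ℤ),
      ∀ [DRing.HasLBaseChange (algebraMap C.A (Localization.Away g))],
      Nonempty ((DRing.LBaseChange (algebraMap C.A (Localization.Away g))).obj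
        (Dual2.shriekVia n Rψ (Dual.inD C.R C.R)) ≅ (Dual.inD (Localization.Away g) (Localization.Away g))⟦m⟧) := by
    intro z
    have hzU : C.jU z ∈ U := (hWle (hW.range_fromSpec.le ⟨z, rfl⟩)).1
    obtain ⟨U', m, hU', ⟨i⟩⟩ := hI ⟨C.jU z, hzU⟩
    obtain ⟨_, ⟨g, rfl⟩, hgz, hgle⟩ := PrimeSpectrum.isTopologicalBasis_basic_opens.exists_subset_of_mem_open
      (show z ∈ (C.jU ⁻¹ᵁ (U.ι ''ᵁ U') : (Spec (CommRingCat.of C.A)).Opens) from ⟨_, hU', rfl⟩)
      (C.jU ⁻¹ᵁ (U.ι ''ᵁ U')).2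
    refine ⟨g, hgz, m, fun {_} => ?_⟩
    let k := Spec.map (CommRingCat.ofHom (algebraMap C.A (Localization.Away g)))
    haveI : IsOpenImmersion (U'.ι ≫ U.ι) := inferInstance
    let l : Spec (CommRingCat.of (Localization.Away g)) ⟶ (U' : Scheme.{u}) :=
      IsOpenImmersion.lift (U'.ι ≫ U.ι) (k ≫ C.jU) (by
        rintro _ ⟨w, rfl⟩
        obtain ⟨y, hy, hyw⟩ :=
          hgle ((PrimeSpectrum.localization_away_comap_range (Localization.Away g) g).le ⟨w, rfl⟩)
        exact ⟨⟨y, hy⟩, hyw⟩)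
    have hl : (l ≫ U'.ι) ≫ U.ι = k ≫ C.jU :=
      (Category.assoc _ _ _).trans (IsOpenImmersion.lift_fac _ _ _)
    obtain ⟨t⟩ := nonempty_lbc_chart (algebraMap C.A (Localization.Away g)) C.jU he
    obtain ⟨r⟩ := nonempty_Lpull_restrict U (l ≫ U'.ι) (k ≫ C.jU) hl ((Dual3.shriekC c a).obj O)
    obtain ⟨r'⟩ := nonempty_Lpull_restrict U' l (l ≫ U'.ι) rfl ((DCoh.restrictD U.ι).obj ((Dual3.shriekC c a).obj O))
    obtain ⟨o⟩ := nonempty_Lpull_OD_shift l m
    obtain ⟨s⟩ := nonempty_tilde_self_shift (Localization.Away g) m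
    exact Groth.L29.SchCharts.iso_of_tilde (R := CommRingCat.of (Localization.Away g))
      (t.symm ≪≫ r.symm ≪≫ r'.symm ≪≫ (DCoh.Lpull l).mapIso i ≪≫ o ≪≫ s.symm)
  rw [Groth.L21.GorOpen.isGorensteinAt_iff_gorPrime f hV hW hle x hxW]
  exact gorPrime_of_locGor _ (Groth.L10.Shriek.GorFibres.gorenstein_of_invertible n ψ hψ adjψ hinv
    ⟨(hW.primeIdealOf ⟨x, hxW⟩).asIdeal.under Γ(Y, V), inferInstance⟩)

end Groth.L10.ShriekLoc
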