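import Groth.Agent.L29.Dual.SchLocus
import Groth.Agent.L10.DerTrunc
import Groth.Agent.L10.DRing.Modules
import Groth.Agent.S0366
import Groth.Agent.S0368

/-!
A dualizing complex with a single cohomology module: that module is Cohen–Macaulay.
-/

set_option autoImplicit false
set_option linter.style.haveILetI false
set_option backward.defeqAttrib.useBackward true
set_option backward.isDefEq.respectTransparency false
set_option backward.isDefEq.respectTransparency.types false

universe u

open CategoryTheory CategoryTheory.Limits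

attribute [local instance] HasDerivedCategory.standard

noncomputable section

namespace Groth.L10.ShriekLoc

open Groth.L29 Groth.L29.HomD

/-- the only cohomology module of a dualizing complex is a nonzero Cohen–Macaulay module -/
theorem cm_module_of_single {B : Type u} [CommRing B] [IsLocalRing B] [IsNoetherianRing B] (ω : Dual.D B)
    (hω : Dual.IsDualizing B ω) (m : ℤ) (hz : ∀ i : ℤ, i ≠ m → Subsingleton (Dual.HD B ω i)) :
    Nontrivial (Dual.HD B ω m) ∧ LocCoh.IsCohenMacaulayModule B (Dual.HD B ω m) := by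
  haveI : ω.IsGE m := (DerivedCategory.isGE_iff ω m).2 fun i hi =>
    haveI := hz i (by omega); ModuleCat.isZero_of_subsingleton _
  haveI : ω.IsLE m := (DerivedCategory.isLE_iff ω m).2 fun i hi =>
    haveI := hz i (by omega); ModuleCat.isZero_of_subsingleton _
  obtain ⟨e₀⟩ := Groth.L10.exists_iso_single_H (A := ModuleCat.{u} B) ω m
  let H := Dual.HD B ω m
  let eH : ω ≅ (Dual.inD B H)⟦-m⟧ := e₀ ≪≫ (Groth.L10.DR.singleShift m _).symm
  haveI : Module.Finite B H := hω.finite_cohomology m
  haveI : Nontrivial (ω ⟶ ω) := by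
    haveI := IsLocalRing.toNontrivial (R := B)
    exact hω.toEnd_bijective.1.nontrivial
  have hnt : Nontrivial H := by
    rw [← not_subsingleton_iff_nontrivial]
    intro h
    have hzero : IsZero ω := (((shiftFunctor (Dual.D B) (-m)).map_isZero
      ((DerivedCategory.singleFunctor (ModuleCat.{u} B) 0).map_isZero (ModuleCat.isZero_of_subsingleton _))).of_iso eH)
    exact not_subsingleton_iff_nontrivial.2 inferInstance (⟨fun p q => hzero.eq_of_src p q⟩ : Subsingleton (ω ⟶ ω))
  refine ⟨hnt, ?_⟩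
  obtain ⟨s, hs, hsn⟩ := Unique.exists_normalized_shift hω
  obtain ⟨d, hd⟩ : ∃ d : ℕ, Module.supportDim B H = d := by
    have h1 := Module.supportDim_ne_bot_of_nontrivial B H
    have h2 : Module.supportDim B H < ⊤ :=
      lt_of_le_of_lt (Module.supportDim_le_ringKrullDim B H) ringKrullDim_lt_top
    obtain ⟨c, hc⟩ := WithBot.ne_bot_iff_exists.1 h1
    rw [← hc] at h2 ⊢
    obtain ⟨d, rfl⟩ := ENat.ne_top_iff_exists.1 (show c ≠ ⊤ from fun h => by rw [h] at h2; exact lt_irrefl _ h2)
    exact ⟨d, rfl⟩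
  -- maps out of `H` are shifted endomorphisms
  let φ : ∀ i : ℤ, (Dual.inD B H ⟶ (ω⟦s⟧)⟦i⟧) ≃ₗ[B] (ω ⟶ ω⟦s + i - m⟧) := fun i =>
    (homShiftEquiv (Dual.inD B H) ω s i (s + i) rfl).trans
      ((Linear.homCongr B (Iso.refl (Dual.inD B H))
          ((shiftFunctorAdd' (Dual.D B) (s + i - m) m (s + i) (by omega)).app ω)).trans
        ((LinearEquiv.ofBijective ((shiftFunctor (Dual.D B) (-m)).mapLinearMap B)
            ⟨(shiftFunctor (Dual.D B) (-m)).map_injective, (shiftFunctor (Dual.D B) (-m)).map_surjective⟩).trans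
          (Linear.homCongr B eH.symm ((shiftEquiv (Dual.D B) m).unitIso.app _).symm)))
  have hend : Nontrivial (Dual.inD B H ⟶ (ω⟦s⟧)⟦m - s⟧) := by
    refine (φ (m - s)).toEquiv.nontrivial_congr.2 ?_
    let z : ω⟦s + (m - s) - m⟧ ≅ ω := (shiftFunctorZero' (Dual.D B) _ (by omega)).app ω
    exact (Iso.homCongr (Iso.refl ω) z).nontrivial_congr.2 inferInstance
  obtain ⟨h1, h2⟩ := Groth.Agent.S0366.result B (ω⟦s⟧) hs hsn H d hd (m - s)
  obtain ⟨h3, h4⟩ := h1 hend
  have hdim : Module.supportDim B (Dual.inD B H ⟶ (ω⟦s⟧)⟦m - s⟧) = ringKrullDim B := by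
    let z : ω⟦s + (m - s) - m⟧ ≅ ω := (shiftFunctorZero' (Dual.D B) _ (by omega)).app ω
    let ψ := ((φ (m - s)).trans (Linear.homCongr B (Iso.refl ω) z)).trans
      (LinearEquiv.ofBijective (LinearMap.toSpanSingleton B (ω ⟶ ω) (𝟙 ω)) hω.toEnd_bijective).symm
    rw [Module.supportDim_eq_of_equiv ψ, Module.supportDim_self_eq_ringKrullDim]
  have hle : (d : WithBot ℕ∞) ≤ ((-(m - s)).toNat : WithBot ℕ∞) := by
    rw [← hd]
    exact (Module.supportDim_le_ringKrullDim B H).trans (hdim ▸ h2)
  have hle' : d ≤ (-(m - s)).toNat := by exact_mod_cast hle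
  refine (Groth.Agent.S0368.result B (ω⟦s⟧) hs hsn H d hd).2 fun i hi => (φ (-i)).toEquiv.subsingleton_congr.2 ?_
  exact hω.ext_self_subsingleton _ (by omega)

end Groth.L10.ShriekLoc
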