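import Groth.Agent.L02.FibDepth.Semi
import Groth.Agent.L00.KFlatPull
import Groth.Agent.L29.DCoh.TorTest
import Groth.Agent.L20.ModStalk
import Mathlib.RingTheory.Localization.BaseChange

/-!
Stalks of a module on a chart, semilinearly.
-/

set_option autoImplicit false
set_option linter.style.haveILetI false
set_option backward.defeqAttrib.useBackward true
set_option backward.isDefEq.respectTransparency false
set_option backward.isDefEq.respectTransparency.types false

universe u

open CategoryTheory CategoryTheory.Limits AlgebraicGeometry L02.FibDepth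

noncomputable section

namespace Groth.L10.ShriekLoc

open Groth.L00 Groth.L29.DC

variable {X U : Scheme.{u}} (j : U ⟶ X) [IsOpenImmersion j]

theorem stalkMap_germ_inv {V : U.Opens} (y : U) (hy : y ∈ V) (r : Γ(U, V)) :
    j.stalkMap y (X.presheaf.germ (j ''ᵁ V) (j y) ⟨y, hy, rfl⟩ ((j.appIso V).inv r)) =
      U.presheaf.germ V y hy r := by
  rw [Scheme.Hom.germ_stalkMap_apply]
  have h := congrArg (fun g => (ConcreteCategory.hom g) r) (Scheme.Hom.appIso_inv_app j V)
  simp only [CommRingCat.hom_comp, RingHom.coe_comp, Function.comp_apply] at h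
  erw [h]
  exact TopCat.Presheaf.germ_res_apply' U.presheaf _ _ _ _

/-- stalks of a restriction are the stalks, semilinearly -/
theorem nonempty_semi_restrict (M : X.Modules) (y : U) :
    Nonempty (Semi (U.presheaf.stalk y) ((M.restrict j).presheaf.stalk y) (X.presheaf.stalk (j y))
      (M.presheaf.stalk (j y))) := by
  let σ := (asIso (j.stalkMap y)).commRingCatIsoToRingEquiv
  let e : (M.restrict j).presheaf.stalk y ≃+ M.presheaf.stalk (j y) :=
    ((Scheme.Modules.restrictStalkNatIso j y).app M).addCommGroupIsoToAddEquiv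
  refine ⟨⟨σ.symm.toRingHom, σ.symm.surjective, e, fun r m => ?_⟩⟩
  obtain ⟨V₁, hy₁, r₁, rfl⟩ := U.presheaf.exists_germ_eq r
  obtain ⟨V₂, hy₂, m₂, rfl⟩ := TopCat.Presheaf.exists_germ_eq (M.restrict j).presheaf m
  let V := V₁ ⊓ V₂
  have hy : y ∈ V := ⟨hy₁, hy₂⟩
  let r' : Γ(U, V) := U.presheaf.map (homOfLE (inf_le_left : V ≤ V₁)).op r₁
  let m' : Γ(M.restrict j, V) := (M.restrict j).presheaf.map (homOfLE (inf_le_right : V ≤ V₂)).op m₂
  rw [← TopCat.Presheaf.germ_res_apply U.presheaf (homOfLE (inf_le_left : V ≤ V₁)) y hy r₁,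
    ← TopCat.Presheaf.germ_res_apply (M.restrict j).presheaf (homOfLE (inf_le_right : V ≤ V₂)) y hy m₂]
  change e (U.presheaf.germ V y hy r' • (M.restrict j).presheaf.germ V y hy m') =
    σ.symm (U.presheaf.germ V y hy r') • e ((M.restrict j).presheaf.germ V y hy m')
  rw [← Groth.L20.ModStalk.germ_smul (M.restrict j) hy r' m']
  have key : ∀ z : Γ(M.restrict j, V), e ((M.restrict j).presheaf.germ V y hy z) =
      M.presheaf.germ (j ''ᵁ V) (j y) ⟨y, hy, rfl⟩ (show Γ(M, j ''ᵁ V) from z) := fun z =>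
    congrArg (fun g => (ConcreteCategory.hom g) z) (Scheme.Modules.germ_restrictStalkNatIso_hom_app j y M hy)
  rw [key, key]
  have hσ : σ.symm (U.presheaf.germ V y hy r') =
      X.presheaf.germ (j ''ᵁ V) (j y) ⟨y, hy, rfl⟩ ((j.appIso V).inv r') := by
    rw [RingEquiv.symm_apply_eq]
    exact (stalkMap_germ_inv j y hy r').symm
  rw [hσ, ← Groth.L20.ModStalk.germ_smul M]
  rfl

/-- stalks of tilde are localizations, semilinearly -/
theorem nonempty_semi_tilde (R : CommRingCat.{u}) (q : Spec R) (N : ModuleCat.{u} R) :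
    Nonempty (Semi (Localization.AtPrime q.asIdeal) (LocalizedModule q.asIdeal.primeCompl N)
      ((Spec R).presheaf.stalk q) ((tilde N).presheaf.stalk q)) := by
  letI := (KFlat.toStalk R q).toAlgebra
  haveI := TorTest.isLocalization_toStalk q
  let S := (Spec R).presheaf.stalk q
  let σ := IsLocalization.algEquiv q.asIdeal.primeCompl (Localization.AtPrime q.asIdeal) S
  haveI : IsLocalizedModule q.asIdeal.primeCompl (TensorProduct.mk R S N 1) :=
    (isLocalizedModule_iff_isBaseChange q.asIdeal.primeCompl S _).2 (TensorProduct.isBaseChange R N S)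
  let g := IsLocalizedModule.iso q.asIdeal.primeCompl (TensorProduct.mk R S N 1)
  let t : (tilde N).presheaf.stalk q ≃ₗ[S] TensorProduct R S N := ((KFlat.tildeStalkIso R q).app N).toLinearEquiv
  refine ⟨⟨σ.toRingEquiv.toRingHom, σ.surjective, g.toAddEquiv.trans t.symm.toAddEquiv, fun a m => ?_⟩⟩
  change t.symm (g (a • m)) = σ a • t.symm (g m)
  rw [← t.symm.map_smul]
  refine congrArg _ ?_
  obtain ⟨r, s, rfl⟩ := IsLocalization.exists_mk'_eq q.asIdeal.primeCompl a
  have hu := (Module.End.isUnit_iff _).1 (IsLocalizedModule.map_units (TensorProduct.mk R S N 1) s)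
  refine hu.1 ?_
  change (s : R) • g (IsLocalization.mk' (Localization.AtPrime q.asIdeal) r s • m) = (s : R) • (σ (IsLocalization.mk' _ r s) • g m)
  rw [← g.map_smul, ← smul_assoc, Algebra.smul_def, IsLocalization.mk'_spec', algebraMap_smul, g.map_smul,
    ← smul_assoc, Algebra.smul_def, ← σ.commutes, ← map_mul, IsLocalization.mk'_spec', σ.commutes, algebraMap_smul]

/-- stalks of a module which is `tilde N` on a chart -/
theorem nonempty_semi_chart {R : CommRingCat.{u}} (k : Spec R ⟶ X) [IsOpenImmersion k] (M : X.Modules)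
    (N : ModuleCat.{u} R) (e : M.restrict k ≅ tilde N) (q : Spec R) :
    Nonempty (Semi (Localization.AtPrime q.asIdeal) (LocalizedModule q.asIdeal.primeCompl N)
      (X.presheaf.stalk (k q)) (M.presheaf.stalk (k q))) := by
  obtain ⟨E₁⟩ := nonempty_semi_tilde R q N
  obtain ⟨E₂⟩ := nonempty_semi_restrict k M q
  let t : (tilde N).presheaf.stalk q ≃ₗ[(Spec R).presheaf.stalk q] (M.restrict k).presheaf.stalk q :=
    ((Groth.L00.Stk.F (Spec R) q).mapIso e.symm).toLinearEquiv
  exact ⟨⟨E₂.φ.comp E₁.φ, E₂.surj.comp E₁.surj, E₁.e.trans (t.toAddEquiv.trans E₂.e), fun a m => by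
    change E₂.e (t (E₁.e (a • m))) = E₂.φ (E₁.φ a) • E₂.e (t (E₁.e m))
    rw [E₁.map_smul, t.map_smul, E₂.map_smul]⟩⟩

end Groth.L10.ShriekLoc
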