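import Groth.Agent.L29.DCoh.PushTilde
import Groth.Agent.L29.DCoh.TildeD
import Groth.Agent.L29.DCoh.QCohLocal
import Groth.Prelude.Def_DDual2

/-!
Right adjoints of derived direct images between affine schemes.
-/

set_option autoImplicit false
set_option linter.style.haveILetI false
set_option backward.defeqAttrib.useBackward true
set_option backward.isDefEq.respectTransparency false
set_option backward.isDefEq.respectTransparency.types false

universe u

open CategoryTheory CategoryTheory.Limits AlgebraicGeometry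

attribute [local instance] HasDerivedCategory.standard

noncomputable section

namespace Groth.L10.ShriekLoc

open Groth.L29.DC

theorem isQCohD_tilde {R : CommRingCat.{u}} [PreservesFiniteLimits (tilde.functor R)] (M : Dual.D R) :
    DCoh.IsQCohD ((DCoh.tildeD R).obj M) :=
  (TildeD.isQCohD_iff _).2 ⟨M, ⟨Iso.refl _⟩⟩

/-- `tilde` into quasi-coherent objects -/
abbrev tildeQ (R : CommRingCat.{u}) [PreservesFiniteLimits (tilde.functor R)] : Dual.D R ⥤ DCoh.DQCoh (Spec R) :=
  ObjectProperty.lift _ (DCoh.tildeD R) isQCohD_tilde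

theorem isEquivalence_tildeQ (R : CommRingCat.{u}) [PreservesFiniteLimits (tilde.functor R)] :
    (tildeQ R).IsEquivalence := by
  haveI := (TildeD.fullyFaithful (R := R)).1
  haveI := (TildeD.fullyFaithful (R := R)).2
  haveI : (tildeQ R).Full := ⟨fun {A B} u =>
    ⟨(DCoh.tildeD R).preimage u.hom, ObjectProperty.hom_ext _ (Functor.map_preimage _ _)⟩⟩
  haveI : (tildeQ R).Faithful := ⟨fun {A B} u v h => (DCoh.tildeD R).map_injective (congrArg (·.hom) h)⟩
  haveI : (tildeQ R).EssSurj := ⟨fun E => by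
    obtain ⟨M, ⟨e⟩⟩ := (TildeD.isQCohD_iff E.obj).1 E.property
    exact ⟨M, ⟨ObjectProperty.isoMk _ e⟩⟩⟩
  exact { }

variable {R S : Type u} [CommRing R] [CommRing S]

/-- the right adjoint between affine schemes -/
theorem nonempty_affine (φ : R →+* S)
    [PreservesFiniteLimits (tilde.functor (CommRingCat.of R))]
    [PreservesFiniteLimits (tilde.functor (CommRingCat.of S))]
    [DCoh.HasRpush (Spec.map (CommRingCat.ofHom φ))]
    {hf : DCoh.RpushPreservesQCoh (Spec.map (CommRingCat.ofHom φ))}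
    {a : DCoh.DQCoh (Spec (CommRingCat.of R)) ⥤ DCoh.DQCoh (Spec (CommRingCat.of S))}
    (adj : DCoh.RpushQ (Spec.map (CommRingCat.ofHom φ)) hf ⊣ a)
    {Rφ : Dual.D R ⥤ Dual.D S} (adjφ : DRing.restrictD φ ⊣ Rφ) (M : Dual.D R) :
    Nonempty ((a.obj ((tildeQ (CommRingCat.of R)).obj M)).obj ≅
      (DCoh.tildeD (CommRingCat.of S)).obj (Rφ.obj M)) := by
  haveI := isEquivalence_tildeQ (CommRingCat.of R)
  haveI := isEquivalence_tildeQ (CommRingCat.of S)
  let eR := (tildeQ (CommRingCat.of R)).asEquivalence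
  let eS := (tildeQ (CommRingCat.of S)).asEquivalence
  obtain ⟨t⟩ := PushTilde.nonempty_tildeD_Rpush (CommRingCat.ofHom φ)
  let i : tildeQ (CommRingCat.of S) ⋙ DCoh.RpushQ (Spec.map (CommRingCat.ofHom φ)) hf ≅
      DRing.restrictD φ ⋙ tildeQ (CommRingCat.of R) :=
    NatIso.ofComponents (fun N => ObjectProperty.isoMk _ (t.app N))
      (fun g => ObjectProperty.hom_ext _ (t.hom.naturality g))
  let u := ((eS.toAdjunction.comp adj).ofNatIsoLeft i).rightAdjointUniq (adjφ.comp eR.toAdjunction)
  let v : (tildeQ (CommRingCat.of S)).obj (eS.inverse.obj (a.obj ((tildeQ (CommRingCat.of R)).obj M))) ≅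
      (tildeQ (CommRingCat.of S)).obj (Rφ.obj M) :=
    (tildeQ (CommRingCat.of S)).mapIso (u.app _ ≪≫ Rφ.mapIso (eR.unitIso.app M).symm)
  exact ⟨(DCoh.IsQCohD (X := Spec (CommRingCat.of S))).ι.mapIso ((eS.counitIso.app _).symm ≪≫ v)⟩

end Groth.L10.ShriekLoc
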