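import Groth.Agent.L10.ShriekLoc.OpenBC
import Groth.Agent.L10.ShriekLoc.Affine
import Groth.Agent.L10.Shriek.Poly
import Groth.Agent.L10.Shriek.Adjoint
import Groth.Agent.L29.DCoh.LBC
import Groth.Agent.L18.TildeFunctor
import Groth.Agent.S1766
import Groth.Agent.S1767
import Groth.Agent.S3604
import Groth.Prelude.Def_DualSh

/-!
For a proper morphism to an affine Noetherian scheme, the right adjoint of the derived direct image is, on affine
opens of the source, the upper shriek of algebra (on bounded below objects).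
-/

set_option autoImplicit false
set_option linter.style.haveILetI false
set_option backward.defeqAttrib.useBackward true
set_option backward.isDefEq.respectTransparency false
set_option backward.isDefEq.respectTransparency.types false

universe u

open CategoryTheory CategoryTheory.Limits AlgebraicGeometry

attribute [local instance] HasDerivedCategory.standard

noncomputable section

namespace Groth.L10.ShriekLoc

open Groth.L00 Groth.L29 Groth.L29.DC Groth.L29.BCAdj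

theorem exists_adjoint {X Y : Scheme.{u}} [CompactSpace X] [QuasiSeparatedSpace X] [CompactSpace Y]
    [QuasiSeparatedSpace Y] (f : X ⟶ Y) [QuasiCompact f] [QuasiSeparated f] [DCoh.HasRpush f] :
    ∃ a : DCoh.DQCoh Y ⥤ DCoh.DQCoh X, Nonempty (DCoh.RpushQ f (isQCohD_push f) ⊣ a) := by
  haveI : (DCoh.RpushQ f (isQCohD_push f)).IsLeftAdjoint :=
    Groth.Agent.S1766.result X Y f (isQCohD_push f)
  exact ⟨_, ⟨Adjunction.ofIsLeftAdjoint _⟩⟩

theorem exists_isGE {X Y : Scheme.{u}} [CompactSpace X] [QuasiSeparatedSpace X] [CompactSpace Y]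
    [QuasiSeparatedSpace Y] {f : X ⟶ Y} [DCoh.HasRpush f] {hf : DCoh.RpushPreservesQCoh f}
    {a : DCoh.DQCoh Y ⥤ DCoh.DQCoh X} (adj : DCoh.RpushQ f hf ⊣ a) (K : DCoh.DQCoh Y) (c : ℤ)
    (hK : K.obj.IsGE c) : ∃ c', (a.obj K).obj.IsGE c' := by
  obtain ⟨N, hN⟩ := Groth.Agent.S1767.result X Y f hf a adj
  exact ⟨c - 1 - N + 1, (DerivedCategory.isGE_iff _ _).2 fun i hi =>
    hN K (c - 1) (fun j hj => (DerivedCategory.isGE_iff _ _).1 hK j (by omega)) i (by omega)⟩

/-- the composite adjunction -/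
theorem nonempty_comp_adjoint {X Y Z : Scheme.{u}} {g : X ⟶ Y} {f : Y ⟶ Z} {h : X ⟶ Z} (w : g ≫ f = h)
    [DCoh.HasRpush g] [DCoh.HasRpush f] [DCoh.HasRpush h]
    {hg : DCoh.RpushPreservesQCoh g} {hf : DCoh.RpushPreservesQCoh f} (hh : DCoh.RpushPreservesQCoh h)
    {ag : DCoh.DQCoh Y ⥤ DCoh.DQCoh X} (adjg : DCoh.RpushQ g hg ⊣ ag)
    {af : DCoh.DQCoh Z ⥤ DCoh.DQCoh Y} (adjf : DCoh.RpushQ f hf ⊣ af) :
    Nonempty (DCoh.RpushQ h hh ⊣ af ⋙ ag) :=
  ⟨(adjg.comp adjf).ofNatIsoLeft (cQ hg hf hh w)⟩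

variable {R A : Type u} [CommRing R] [CommRing A] [Algebra R A] [IsNoetherianRing R]
  [PreservesFiniteLimits (tilde.functor (CommRingCat.of R))] [PreservesFiniteLimits (tilde.functor (CommRingCat.of A))]

attribute [local instance] MvPolynomial.algebraMvPolynomial

set_option maxHeartbeats 3200000 in
/-- the right adjoint restricted to an affine open is the algebraic upper shriek -/
theorem nonempty_core {X : Scheme.{u}} (f : X ⟶ Spec (CommRingCat.of R)) [IsProper f]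
    (jU : Spec (CommRingCat.of A) ⟶ X) [IsOpenImmersion jU]
    (hjU : jU ≫ f = Spec.map (CommRingCat.ofHom (algebraMap R A))) [DCoh.HasLpull jU]
    [DCoh.HasRpush f] {hf : DCoh.RpushPreservesQCoh f}
    {a : DCoh.DQCoh (Spec (CommRingCat.of R)) ⥤ DCoh.DQCoh X} (adj : DCoh.RpushQ f hf ⊣ a)
    (n : ℕ) (ψ : MvPolynomial (Fin n) R →ₐ[R] A) (hψ : Function.Surjective ψ)
    [DRing.HasLBaseChange (algebraMap R (MvPolynomial (Fin n) R))]
    (Rψ : Dual.D (MvPolynomial (Fin n) R) ⥤ Dual.D A) (adjψ : DRing.restrictD ψ.toRingHom ⊣ Rψ)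
    (K : DCoh.DQCoh (Spec (CommRingCat.of R))) (c : ℤ) (hK : K.obj.IsGE c) (M : Dual.D R)
    (e : Nonempty ((DCoh.tildeD (CommRingCat.of R)).obj M ≅ K.obj)) :
    Nonempty ((DCoh.Lpull jU).obj (a.obj K).obj ≅
      (DCoh.tildeD (CommRingCat.of A)).obj (Dual2.shriekVia n Rψ M)) := by
  haveI := fun {A B : Scheme.{u}} (k : A ⟶ B) => RpushQC.hasRpush k
  haveI := fun {A B : Scheme.{u}} (k : A ⟶ B) => KFlat.hasLpull k
  let P := MvPolynomial (Fin n) R
  let C := MvPolynomial (Fin n) A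
  let ι : A →+* C := MvPolynomial.C
  let m : P →+* C := algebraMap P C
  let σ : C →+* A := MvPolynomial.eval fun i => ψ (MvPolynomial.X i)
  have hσm : σ.comp m = ψ.toRingHom := by
    refine MvPolynomial.ringHom_ext (fun r => ?_) (fun i => ?_)
    · change MvPolynomial.eval _ (MvPolynomial.map (algebraMap R A) (MvPolynomial.C r)) = ψ (MvPolynomial.C r)
      rw [MvPolynomial.map_C, MvPolynomial.eval_C]
      exact (ψ.commutes r).symm
    · change MvPolynomial.eval _ (MvPolynomial.map (algebraMap R A) (MvPolynomial.X i)) = ψ (MvPolynomial.X i)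
      rw [MvPolynomial.map_X, MvPolynomial.eval_X]
  haveI : PreservesFiniteLimits (tilde.functor (CommRingCat.of C)) := Groth.L18.TildeF.tilde_preservesFiniteLimits
  haveI : PreservesFiniteLimits (tilde.functor (CommRingCat.of P)) := Groth.L18.TildeF.tilde_preservesFiniteLimits
  let g := Spec.map (CommRingCat.ofHom (algebraMap R P))
  let X' := pullback f g
  let g' : X' ⟶ X := pullback.fst f g
  let f' : X' ⟶ Spec (CommRingCat.of P) := pullback.snd f g
  have hsq : IsPullback g' f' f g := IsPullback.of_hasPullback f g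
  haveI : Flat g := HasRingHomProperty.Spec_iff.2 (RingHom.flat_algebraMap_iff.2 inferInstance)
  -- `Spec A[x]`
  have hout : IsPullback (Spec.map (CommRingCat.ofHom m)) (Spec.map (CommRingCat.ofHom ι)) g
      (jU ≫ f) := by
    rw [hjU]
    exact (isPullback_SpecMap_of_isPushout _ _ _ _
      (CommRingCat.isPushout_of_isPushout R A P C)).flip
  let j : Spec (CommRingCat.of C) ⟶ X' := hsq.lift (Spec.map (CommRingCat.ofHom ι) ≫ jU)
    (Spec.map (CommRingCat.ofHom m)) (by rw [Category.assoc]; exact hout.w.symm)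
  have hj₁ : j ≫ g' = Spec.map (CommRingCat.ofHom ι) ≫ jU := hsq.lift_fst _ _ _
  have hj₂ : j ≫ f' = Spec.map (CommRingCat.ofHom m) := hsq.lift_snd _ _ _
  have hin : IsPullback j (Spec.map (CommRingCat.ofHom ι)) g' jU :=
    IsPullback.of_right (h₁₂ := f') (h₂₂ := f) (by rw [hj₂]; exact hout) hj₁ hsq.flip
  haveI : IsOpenImmersion j := MorphismProperty.of_isPullback hin.flip inferInstance
  let γ₀ := Spec.map (CommRingCat.ofHom σ)
  let γ := γ₀ ≫ j
  have hγ : γ ≫ f' = Spec.map (CommRingCat.ofHom ψ.toRingHom) := by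
    rw [Category.assoc, hj₂, ← Spec.map_comp, ← CommRingCat.ofHom_comp, hσm]
  haveI : IsClosedImmersion (γ ≫ f') := by
    rw [hγ]; exact IsClosedImmersion.spec_of_surjective _ hψ
  haveI : IsClosedImmersion γ := IsClosedImmersion.of_comp γ f'
  have hsq0 : IsPullback (𝟙 _) γ₀ γ j := by
    have top : IsPullback (𝟙 _) γ₀ γ₀ (𝟙 _) := IsPullback.of_horiz_isIso ⟨by simp⟩
    simpa [γ] using top.paste_vert (IsKernelPair.id_of_mono j)
  -- adjoints
  haveI : IsNoetherian (Spec (CommRingCat.of R)) := inferInstance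
  haveI : CompactSpace X := QuasiCompact.compactSpace_of_compactSpace f
  haveI : QuasiSeparatedSpace X := quasiSeparatedSpace_of_quasiSeparated f
  haveI : IsNoetherian (Spec (CommRingCat.of P)) := inferInstance
  haveI : IsLocallyNoetherian X' := LocallyOfFiniteType.isLocallyNoetherian f'
  haveI : CompactSpace X' := QuasiCompact.compactSpace_of_compactSpace f'
  haveI : IsNoetherian X' := {}
  obtain ⟨a', ⟨adj'⟩⟩ := exists_adjoint f'
  obtain ⟨aγ, ⟨adjγ⟩⟩ := exists_adjoint γ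
  obtain ⟨a₀, ⟨adj₀⟩⟩ := exists_adjoint γ₀
  obtain ⟨adjc⟩ := nonempty_comp_adjoint hγ (isQCohD_push _) adjγ adj'
  -- base change to `P`
  let hg := isQCohD_push g
  let hg' := isQCohD_push g'
  let hLg := isQCohD_pull g
  let hLg' := isQCohD_pull g'
  obtain ⟨e₀, hξ, hbc⟩ := Groth.Agent.S3604.result X _ X' _ f g f' g' hsq hf (isQCohD_push f') hg hg' a a' adj adj'
    hLg hLg' (adjQ g hg hLg) (adjQ g' hg' hLg')
  haveI := hbc K c fun i hi => (DerivedCategory.isGE_iff _ _).1 hK i hi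
  let K' : DCoh.DQCoh (Spec (CommRingCat.of P)) := (Dual3.LpullQ g hLg).obj K
  haveI hK' : K'.obj.IsGE c := isGE_Lpull_flat g K.obj c hK
  obtain ⟨c', hc'⟩ := exists_isGE adj' K' c hK'
  obtain ⟨t⟩ := nonempty_openBC hsq0 adjγ adj₀ (a'.obj K') c' hc'
  obtain ⟨l₀⟩ := Groth.L10.FMDiag.nonempty_Lpull_id (X := Spec (CommRingCat.of A))
  -- tilde
  obtain ⟨N, ⟨eN⟩⟩ := (TildeD.isQCohD_iff _).1 (isQCohD_Lpull jU (a.obj K).property)
  haveI : DRing.HasLBaseChange ι := LBC.hasLBaseChange (CommRingCat.ofHom ι)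
  obtain ⟨pι⟩ := LBC.nonempty_tildeDIso (CommRingCat.ofHom ι)
  obtain ⟨pg⟩ := LBC.nonempty_tildeDIso (CommRingCat.ofHom (algebraMap R P))
  obtain ⟨eM⟩ := e
  let LM := (DRing.LBaseChange (algebraMap R P)).obj M
  let LN := (DRing.LBaseChange ι).obj N
  -- `a_ψ` of the base change
  let eK' : (tildeQ (CommRingCat.of P)).obj LM ≅ K' :=
    ObjectProperty.isoMk _ (pg.app M ≪≫ (DCoh.Lpull g).mapIso eM)
  obtain ⟨u₁⟩ := nonempty_affine ψ.toRingHom adjc adjψ LM
  -- `a_σ` of the restriction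
  obtain ⟨c₁⟩ := Groth.L10.FMBC.nonempty_lpull_comp' j g' hj₁
  obtain ⟨c₂⟩ := Groth.L10.FMBC.nonempty_lpull_comp' (Spec.map (CommRingCat.ofHom ι)) jU rfl
  let w : (DCoh.Lpull j).obj (a'.obj K').obj ≅ (DCoh.tildeD (CommRingCat.of C)).obj LN :=
    (DCoh.Lpull j).mapIso ((DCoh.IsQCohD (X := X')).ι.mapIso
      (asIso (Dual3.bcMap adj adj' e₀ (adjQ g hg hLg) (adjQ g' hg' hLg') K (hξ _)))).symm ≪≫
      c₁.app _ ≪≫ (c₂.app _).symm ≪≫ (DCoh.Lpull (Spec.map (CommRingCat.ofHom ι))).mapIso eN.symm ≪≫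
        (pι.app N).symm
  let eZ : (⟨(DCoh.Lpull j).obj (a'.obj K').obj, isQCohD_Lpull j (a'.obj K').property⟩ :
      DCoh.DQCoh (Spec (CommRingCat.of C))) ≅ (tildeQ (CommRingCat.of C)).obj LN := ObjectProperty.isoMk _ w
  obtain ⟨Rσ, ⟨adjσ⟩⟩ := Groth.L10.Shriek.exists_rightAdjoint σ
  obtain ⟨u₂⟩ := nonempty_affine σ adj₀ adjσ LN
  obtain ⟨s⟩ := Groth.L10.Shriek.secShift_eval A n (fun i => ψ (MvPolynomial.X i)) Rσ adjσ N
  obtain ⟨s'⟩ := Groth.L10.Shriek.nonempty_shift adjσ LN (n : ℤ)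
  let q := (DCoh.IsQCohD (X := Spec (CommRingCat.of A))).ι
  let key : (DCoh.tildeD (CommRingCat.of A)).obj (Rψ.obj LM) ≅ (DCoh.tildeD (CommRingCat.of A)).obj (Rσ.obj LN) :=
    u₁.symm ≪≫ q.mapIso ((a' ⋙ aγ).mapIso eK') ≪≫ (l₀.app _).symm ≪≫ t ≪≫ q.mapIso (a₀.mapIso eZ) ≪≫ u₂
  haveI := (TildeD.fullyFaithful (R := CommRingCat.of A)).1
  haveI := (TildeD.fullyFaithful (R := CommRingCat.of A)).2
  exact ⟨eN.symm ≪≫ (DCoh.tildeD (CommRingCat.of A)).mapIso (s.symm ≪≫ s' ≪≫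
    (shiftFunctor _ (n : ℤ)).mapIso ((DCoh.tildeD (CommRingCat.of A)).preimageIso key).symm)⟩

end Groth.L10.ShriekLoc
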