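import Groth.Agent.L10.ShriekLoc.Finite
import Groth.Agent.L29.Dual.SchCharts
import Groth.Agent.S1782

/-!
The right adjoint of a proper morphism preserves dualizing complexes.
-/

set_option autoImplicit false
set_option linter.style.haveILetI false
set_option backward.defeqAttrib.useBackward true
set_option backward.isDefEq.respectTransparency false
set_option backward.isDefEq.respectTransparency.types false

universe u

open CategoryTheory CategoryTheory.Limits AlgebraicGeometry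

attribute [local instance] HasDerivedCategory.standard

noncomputable section

namespace Groth.L10.ShriekLoc

open Groth.L00 Groth.L29 Groth.L29.DC Groth.L29.BCAdj

variable {X Y : Scheme.{u}}
  [∀ (U : Scheme.{u}) (j : U ⟶ Y) [IsOpenImmersion j], PreservesFiniteLimits (Scheme.Modules.restrictFunctor j)]
  [∀ (R : CommRingCat.{u}), PreservesFiniteLimits (tilde.functor R)]

open Groth.L29.HomD in
theorem exists_isGE_chart {A : Type u} [CommRing A] (ω : Dual.D A) (hω : Dual.IsDualizing A ω) :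
    ∃ c : ℤ, ∀ i < c, IsZero ((Groth.L02.PC.HH i).obj ω) := by
  obtain ⟨a, b, h⟩ := hω.finite_injective_dimension
  refine ⟨a, fun i hi => ?_⟩
  haveI := h A i (Or.inl hi)
  haveI : Subsingleton (Dual.HD A ω i) := (evalShiftEquiv ω i).symm.toEquiv.subsingleton
  exact ModuleCat.isZero_of_subsingleton _

/-- dualizing complexes on Noetherian schemes are bounded below -/
theorem exists_isGE_dualizing [IsNoetherian Y] (K : DCoh.D Y) (hK : Dual2.IsDualizingSch Y K) :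
    ∃ c : ℤ, K.IsGE c := by
  let 𝒰 := Y.affineCover.finiteSubcover
  have h : ∀ p : 𝒰.I₀, ∃ c : ℤ, ∀ i < c, IsZero ((DCoh.HD K i).restrict (𝒰.f p)) := fun p => by
    haveI : IsAffine (𝒰.X p) := by dsimp [𝒰]; infer_instance
    let j := (𝒰.X p).isoSpec.inv ≫ 𝒰.f p
    obtain ⟨ω, hω, ⟨e⟩⟩ := hK Γ(𝒰.X p, ⊤) j
    obtain ⟨c, hc⟩ := exists_isGE_chart ω hω
    refine ⟨c, fun i hi => ?_⟩
    have hz : IsZero ((DCoh.HD K i).restrict j) :=
      (((tilde.functor _).map_isZero (hc i hi)).of_iso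
        (TildeAlg.hdIso (R := CommRingCat.of Γ(𝒰.X p, ⊤)) ω i)).of_iso
        ((HDResIso j K i).symm ≪≫ (DerivedCategory.homologyFunctor _ i).mapIso e)
    exact ((Scheme.Modules.restrictFunctor (𝒰.X p).isoSpec.hom).map_isZero hz).of_iso
      (((Scheme.Modules.restrictFunctorCongr ((𝒰.X p).isoSpec.hom_inv_id_assoc (𝒰.f p)).symm).trans
        (Scheme.Modules.restrictFunctorComp (𝒰.X p).isoSpec.hom j)).app (DCoh.HD K i))
  choose c hc using h
  obtain ⟨c₀, hc₀⟩ := Finite.exists_le (fun p => -(c p))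
  refine ⟨-c₀, (DerivedCategory.isGE_iff _ _).2 fun i hi => ?_⟩
  refine Groth.L21.Mod.isZero_of_restrict (fun p => 𝒰.f p) (fun y => ?_) _ fun p => hc p i (by
    have := hc₀ p; omega)
  exact ⟨_, 𝒰.covers y⟩

/-- dualizing complexes are coherent -/
theorem isCoh_dualizing (K : DCoh.D Y) (hK : Dual2.IsDualizingSch Y K) (i : ℤ) : Coh.IsCoh (DCoh.HD K i) := by
  refine Groth.L16.CohKernel.isCoh_of_tilde_charts _ fun x => ?_
  let 𝒰 := Y.affineCover
  obtain ⟨p, hx⟩ : ∃ p, x ∈ Set.range (𝒰.f p) := ⟨_, 𝒰.covers x⟩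
  haveI : IsAffine (𝒰.X p) := by dsimp [𝒰]; infer_instance
  let j := (𝒰.X p).isoSpec.inv ≫ 𝒰.f p
  obtain ⟨ω, hω, ⟨e⟩⟩ := hK Γ(𝒰.X p, ⊤) j
  refine ⟨CommRingCat.of Γ(𝒰.X p, ⊤), j, inferInstance, _, ?_, hω.finite_cohomology i,
    ⟨(HDResIso j K i).symm ≪≫ (DerivedCategory.homologyFunctor _ i).mapIso e ≪≫
      TildeAlg.hdIso (R := CommRingCat.of Γ(𝒰.X p, ⊤)) ω i⟩⟩
  obtain ⟨z, rfl⟩ := hx
  exact ⟨(𝒰.X p).isoSpec.hom z, (Scheme.Hom.comp_apply _ _ _).symm.trans
    (by rw [Iso.hom_inv_id_assoc])⟩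

/-- the right adjoint preserves dualizing complexes -/
theorem isDualizingSch_shriek [IsNoetherian Y]
    [∀ (U : Scheme.{u}) (j : U ⟶ X) [IsOpenImmersion j], PreservesFiniteLimits (Scheme.Modules.restrictFunctor j)]
    {f : X ⟶ Y} [IsProper f] [DCoh.HasRpush f] {hf : DCoh.RpushPreservesQCoh f}
    {a : DCoh.DQCoh Y ⥤ DCoh.DQCoh X} (adj : DCoh.RpushQ f hf ⊣ a) (K : DCoh.DQCoh Y)
    (hK : Dual2.IsDualizingSch Y K.obj) : Dual2.IsDualizingSch X (a.obj K).obj := by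
  haveI := fun {A B : Scheme.{u}} (k : A ⟶ B) => KFlat.hasLpull k
  haveI : IsLocallyNoetherian X := LocallyOfFiniteType.isLocallyNoetherian f
  obtain ⟨c, hc⟩ := exists_isGE_dualizing K.obj hK
  refine Groth.L29.SchCharts.isDualizingSch_of_cover fun x => ?_
  obtain ⟨C, hx⟩ := exists_chart' f x
  haveI := isNoetherian_R C
  haveI := isNoetherian_A C
  obtain ⟨ω, hω, ⟨e⟩⟩ := hK C.R C.jV
  obtain ⟨r⟩ := nonempty_Lpull_iso_restrictD C.jV K.obj
  obtain ⟨n, ψ, hψ⟩ := exists_presentation C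
  haveI : DRing.HasLBaseChange (algebraMap C.R (MvPolynomial (Fin n) C.R)) :=
    LBC.hasLBaseChange (CommRingCat.ofHom (algebraMap C.R (MvPolynomial (Fin n) C.R)))
  obtain ⟨Rψ, ⟨adjψ⟩⟩ := Groth.L10.Shriek.exists_rightAdjoint ψ.toRingHom
  obtain ⟨t⟩ := nonempty_chart C adj n ψ hψ Rψ adjψ K c hc ω ⟨e.symm ≪≫ r.symm⟩
  obtain ⟨r'⟩ := nonempty_Lpull_iso_restrictD C.jU (a.obj K).obj
  exact ⟨CommRingCat.of C.A, C.jU, inferInstance, _, hx,
    Groth.Agent.S1782.result C.R C.A n ψ hψ Rψ adjψ ω hω, ⟨r'.symm ≪≫ t⟩⟩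

end Groth.L10.ShriekLoc
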