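import Groth.Agent.L10.ShriekLoc.Omega
import Groth.Agent.Lead.RelTorStalk
import Groth.Agent.Lead.TildeAmp
import Groth.Agent.Lead.FibreBounded
import Groth.Agent.L10.RelPC.Basic

/-!
Relative tor amplitude of `f^! O`, read on charts.
-/

set_option autoImplicit false
set_option linter.style.haveILetI false
set_option backward.defeqAttrib.useBackward true
set_option backward.isDefEq.respectTransparency false
set_option backward.isDefEq.respectTransparency.types false

universe u

open CategoryTheory CategoryTheory.Limits AlgebraicGeometry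

attribute [local instance] HasDerivedCategory.standard

noncomputable section

namespace Groth.L10.ShriekLoc

open Groth.L00 Groth.L29 Groth.L29.DC Groth.L29.BCAdj

variable {X Y : Scheme.{u}} {f : X ⟶ Y}

theorem amp_shrink_above {R : Type u} [CommRing R] {a b b' : ℤ} {K : Dual.D R}
    (h : DRing.HasTorAmplitudeIn R a b K)
    (hz : ∀ i, b' < i → IsZero ((Groth.L02.PC.HH i).obj K)) : DRing.HasTorAmplitudeIn R a b' K := by
  obtain ⟨Q, hQb, hQf, -, ⟨eQ⟩, ht⟩ := Groth.L10.DR.exists_test h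
  exact (Groth.L10.DR.amp_iff eQ hQb (Groth.L10.DR.flat_of_free hQf) a b').2 ⟨ht, hz⟩

theorem amp_shrink_of_subsingleton {R A : Type u} [CommRing R] [CommRing A] [Algebra R A] {a b b' : ℤ}
    {N : Dual.D A} (h : DRing.HasTorAmplitudeIn R a b ((DRing.restrictD (algebraMap R A)).obj N))
    (hz : ∀ i, b' < i → Subsingleton (Dual.HD A N i)) :
    DRing.HasTorAmplitudeIn R a b' ((DRing.restrictD (algebraMap R A)).obj N) := by
  refine amp_shrink_above h fun i hi => ?_
  exact (Functor.map_isZero (ModuleCat.restrictScalars.{u} (algebraMap R A))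
    (show IsZero ((Groth.L02.PC.HH i).obj N) from @ModuleCat.isZero_of_subsingleton _ _ _ (hz i hi))).of_iso
      (Groth.L10.RelPC.HHResIso (algebraMap R A) N i)

/-- amplitude at a point of a chart -/
theorem ampAt_chart (C : Chart f) [DCoh.HasLpull C.jU]
    [PreservesFiniteLimits (tilde.functor (CommRingCat.of C.A))] {L : DCoh.D X} {N : Dual.D C.A}
    (e : Nonempty ((DCoh.Lpull C.jU).obj L ≅ (DCoh.tildeD (CommRingCat.of C.A)).obj N))
    (G : CochainComplex X.Modules ℤ) (eG : DCoh.toD X G ≅ L) (a b : ℤ)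
    (h : DRing.HasTorAmplitudeIn C.R a b ((DRing.restrictD (algebraMap C.R C.A)).obj N))
    (z : Spec (CommRingCat.of C.A)) : DerSch.HasTorAmplitudeAt f a b G (C.jU z) := by
  obtain ⟨r⟩ := nonempty_Lpull_iso_restrictD C.jU L
  obtain ⟨e⟩ := e
  let K : DRing.Cx C.A := DerivedCategory.Q.objPreimage N
  let eK : DRing.toD K ≅ N := DerivedCategory.Q.objObjPreimageIso N
  let G' := ((Scheme.Modules.restrictFunctor C.jU).mapHomologicalComplex (ComplexShape.up ℤ)).obj G
  let eG' : DCoh.toD (Spec (CommRingCat.of C.A)) G' ≅ (DCoh.tildeD (CommRingCat.of C.A)).obj (DRing.toD K) :=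
    ((Scheme.Modules.restrictFunctor C.jU).mapDerivedCategoryFactors.app G).symm ≪≫
      (DCoh.restrictD C.jU).mapIso eG ≪≫ r.symm ≪≫ e ≪≫ (DCoh.tildeD (CommRingCat.of C.A)).mapIso eK.symm
  have h1 := (Groth.Lead.TildeAmp.hasTorAmplitude_iff (algebraMap C.R C.A) K G' eG' a b).2
    (Groth.L10.DR.amp_of_iso ((DRing.restrictD _).mapIso eK.symm) h)
  have h2 := Groth.Lead.FibreBounded.ampAt_base (Groth.Lead.TildeAmp.π (algebraMap C.R C.A)) C.jV G' z a b (h1 z)
  refine (Groth.Lead.SmoothStalk.amp_restrict_iff f C.jU z G a b).1 ?_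
  have key : ∀ g : Spec (CommRingCat.of C.A) ⟶ Y,
      Spec.map (CommRingCat.ofHom (algebraMap C.R C.A)) ≫ C.jV = g → DerSch.HasTorAmplitudeAt g a b G' z := by
    rintro g rfl
    exact h2
  exact key _ C.w.symm

/-- amplitude in one degree: the cohomology sheaf is flat over the base -/
theorem isFlatOver_of_ampAt [Flat f] {L : DCoh.D X} (G : CochainComplex X.Modules ℤ) (eG : DCoh.toD X G ≅ L)
    (m : ℤ) (h : ∀ x : X, DerSch.HasTorAmplitudeAt f m m G x) :
    (∀ i : ℤ, i ≠ m → IsZero (DCoh.HD L i)) ∧ FlatMod.IsFlatOver f (DCoh.HD L m) := by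
  refine ⟨fun i hi => (Groth.Lead.RelTorStalk.isZero_HD_of_ampAt f G h i (by omega)).of_iso
    ((DerivedCategory.homologyFunctor _ i).mapIso eG.symm), ?_⟩
  obtain ⟨E, hv, hf, ⟨eE⟩⟩ := Groth.Lead.RelTorStalk.relFlatAmp_of_ampAt f G h
  haveI : E.IsStrictlyGE m := (CochainComplex.isStrictlyGE_iff E m).2 fun i hi => hv i (Or.inl hi)
  haveI : E.IsStrictlyLE m := (CochainComplex.isStrictlyLE_iff E m).2 fun i hi => hv i (Or.inr hi)
  obtain ⟨M, ⟨eM⟩⟩ := CochainComplex.exists_iso_single E m
  refine Groth.L29.DC.RelBC.isFlatOver_of_iso f ?_ (hf m)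
  exact ((HomologicalComplex.eval _ _ m).mapIso eM ≪≫ HomologicalComplex.singleObjXSelf (ComplexShape.up ℤ) m M) ≪≫
    (HomologicalComplex.singleObjHomologySelfIso (ComplexShape.up ℤ) m M).symm ≪≫
    ((HomologicalComplex.homologyFunctor X.Modules (ComplexShape.up ℤ) m).mapIso eM).symm ≪≫
    ((DerivedCategory.homologyFunctorFactors X.Modules m).app E).symm ≪≫
    (DerivedCategory.homologyFunctor X.Modules m).mapIso (eE ≪≫ eG)

end Groth.L10.ShriekLoc
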