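import Groth.Agent.L29.Dual.SchLocus
import Groth.Agent.L29.Dual.DimFun
import Groth.Agent.L04.SupportLoc
import Groth.Agent.L04.CMBasic
import Groth.Agent.S1719
import Groth.Agent.S0365
import Groth.Prelude.Def_CAlg

/-!
A dualizing complex whose top degree is the same at every prime: the ring is Cohen–Macaulay.
-/

set_option autoImplicit false
set_option linter.style.haveILetI false
set_option backward.defeqAttrib.useBackward true
set_option backward.isDefEq.respectTransparency false
set_option backward.isDefEq.respectTransparency.types false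

universe u

open CategoryTheory CategoryTheory.Limits

attribute [local instance] HasDerivedCategory.standard

noncomputable section

namespace Groth.L10.ShriekLoc

open Groth.L29 Groth.L29.HomD

theorem ringKrullDim_le_of_minimal {B : Type u} [CommRing B] (r : ℕ)
    (hdim : ∀ P ∈ minimalPrimes B, ringKrullDim (B ⧸ P) ≤ r) : ringKrullDim B ≤ r := by
  refine iSup_le fun l => ?_
  haveI := l.head.2
  obtain ⟨P₀, hP₀, hle⟩ := Ideal.exists_minimalPrimes_le (J := l.head.asIdeal) (bot_le : (⊥ : Ideal B) ≤ _)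
  have hge : ∀ i, P₀ ≤ (l i).asIdeal := fun i => hle.trans (l.monotone (Fin.zero_le i))
  have hpr : ∀ i, ((l i).asIdeal.map (Ideal.Quotient.mk P₀)).IsPrime := fun i =>
    Ideal.map_isPrime_of_surjective Ideal.Quotient.mk_surjective (by rw [Ideal.mk_ker]; exact hge i)
  let l' : LTSeries (PrimeSpectrum (B ⧸ P₀)) := LTSeries.mk l.length (fun i => ⟨_, hpr i⟩) fun i j hij => by
    refine lt_of_le_of_ne (Ideal.map_mono (l.monotone hij.le)) fun h => (l.strictMono hij).ne (PrimeSpectrum.ext ?_)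
    have h' := congrArg (fun z : PrimeSpectrum (B ⧸ P₀) => z.asIdeal.comap (Ideal.Quotient.mk P₀)) h
    simp only [Ideal.comap_map_of_surjective _ Ideal.Quotient.mk_surjective, ← RingHom.ker_eq_comap_bot,
      Ideal.mk_ker, sup_eq_left.mpr (hge i), sup_eq_left.mpr (hge j)] at h'
    exact h'
  exact le_trans (le_iSup (fun l : LTSeries (PrimeSpectrum (B ⧸ P₀)) => (l.length : WithBot ℕ∞)) l') (hdim P₀ hP₀)

/-- local form -/
theorem cm_of_top {B : Type u} [CommRing B] [IsLocalRing B] [IsNoetherianRing B] (ω : Dual.D B)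
    (hω : Dual.IsDualizing B ω) (n : ℤ) (htop : ∀ i, n < i → Subsingleton (Dual.HD B ω i))
    (hmin : ∀ p : PrimeSpectrum B, p.asIdeal ∈ minimalPrimes B → p ∈ Module.support B (Dual.HD B ω n)) :
    LocCoh.IsCohenMacaulayLocalRing B := by
  obtain ⟨s, hs, hsn⟩ := Unique.exists_normalized_shift hω
  have eH : ∀ i, Nonempty (Dual.HD B (ω⟦s⟧) i ≃ₗ[B] Dual.HD B ω (i + s)) := fun i =>
    ⟨(((DerivedCategory.homologyFunctor (ModuleCat.{u} B) 0).shiftIso s i (i + s) (add_comm _ _)).app ω).toLinearEquiv⟩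
  obtain ⟨e, he, hes⟩ : ∃ e : ℕ, ringKrullDim B ≤ e ∧ n - s = -(e : ℤ) := by
    have key : ∀ P (hP : P ∈ minimalPrimes B), ∃ e : ℕ, ringKrullDim (B ⧸ P) = e ∧ n - s = -(e : ℤ) := fun P hP => by
      haveI : P.IsPrime := hP.1.1
      obtain ⟨e, he⟩ : ∃ e : ℕ, ringKrullDim (B ⧸ P) = e := by
        obtain ⟨e, he⟩ := ENat.ne_top_iff_exists.1
          (Ideal.height_ne_top (IsLocalRing.maximalIdeal.isMaximal (B ⧸ P)).ne_top)
        exact ⟨e, by rw [← IsLocalRing.maximalIdeal_height_eq_ringKrullDim, ← he]; rfl⟩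
      refine ⟨e, he, (Groth.Agent.S1719.result B (ω⟦s⟧) hs hsn P hP e he (n - s)).1 ?_⟩
      have h : (⟨P, hP.1.1⟩ : PrimeSpectrum B) ∈ Module.support B (Dual.HD B (ω⟦s⟧) (n - s)) := by
        obtain ⟨E⟩ := eH (n - s)
        rw [E.support_eq, sub_add_cancel]
        exact hmin ⟨P, hP.1.1⟩ hP
      exact (Module.mem_support_iff (p := (⟨P, hP.1.1⟩ : PrimeSpectrum B))).1 h
    obtain ⟨P, hP, -⟩ := Ideal.exists_minimalPrimes_le (J := IsLocalRing.maximalIdeal B) (bot_le : (⊥ : Ideal B) ≤ _)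
    obtain ⟨e, -, hes⟩ := key P hP
    refine ⟨e, ringKrullDim_le_of_minimal e fun Q hQ => ?_, hes⟩
    obtain ⟨e', he', hes'⟩ := key Q hQ
    obtain rfl : e' = e := by omega
    exact he'.le
  obtain ⟨δ, hδ⟩ : ∃ δ : ℕ, LocCoh.depth B B = δ := ⟨_, (depth_spec hs hsn B).choose_spec.1⟩
  obtain ⟨-, hnt⟩ := (Groth.Agent.S0365.result B (ω⟦s⟧) hs hsn δ).1 hδ
  have hle : e ≤ δ := by
    by_contra hlt
    obtain ⟨E⟩ := eH (-(δ : ℤ))
    haveI := htop (-(δ : ℤ) + s) (by omega)
    exact not_subsingleton_iff_nontrivial.2 hnt E.toEquiv.subsingleton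
  refine { supportDim_eq_depth := ?_ }
  refine le_antisymm ?_ Groth.L04.depth_le_supportDim
  rw [Module.supportDim_self_eq_ringKrullDim, hδ]
  exact he.trans (by exact_mod_cast hle)

/-- at a prime: top degree constant on generisations -/
theorem cm_at_of_top {A : Type u} [CommRing A] [IsNoetherianRing A] (ω : Dual.D A) (hω : Dual.IsDualizing A ω)
    (n : ℤ) (q : PrimeSpectrum A)
    (htop : ∀ i, n < i → q ∉ Module.support A (Dual.HD A ω i))
    (hgen : ∀ p : PrimeSpectrum A, p ≤ q → p ∈ Module.support A (Dual.HD A ω n)) :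
    LocCoh.IsCohenMacaulayLocalRing (Localization.AtPrime q.asIdeal) := by
  haveI : Module.Flat A (Localization.AtPrime q.asIdeal) := IsLocalization.flat _ q.asIdeal.primeCompl
  let B := Localization.AtPrime q.asIdeal
  have hB := FlatBC.isDualizing_L_localization (B := B) q.asIdeal.primeCompl hω
  haveI := hB.isNoetherianRing
  have eH : ∀ i, Nonempty (Dual.HD B ((FlatBC.L A B).obj ω) i ≃ₗ[B]
      LocalizedModule q.asIdeal.primeCompl (Dual.HD A ω i)) := fun i =>
    ⟨(FlatBC.hEquiv A B _ i).trans (LocalizedModule.equivTensorProduct q.asIdeal.primeCompl _).symm⟩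
  refine cm_of_top _ hB n (fun i hi => ?_) fun P _ => ?_
  · obtain ⟨E⟩ := eH i
    have h := htop i hi
    rw [Module.notMem_support_iff] at h
    haveI := h
    exact E.toEquiv.subsingleton
  · obtain ⟨E⟩ := eH n
    rw [E.support_eq, Groth.L04.support_localization]
    refine hgen _ ?_
    exact (PrimeSpectrum.comap_asIdeal (algebraMap A B) P).le.trans
      ((Ideal.comap_mono (IsLocalRing.le_maximalIdeal P.2.ne_top)).trans
        (le_of_eq (IsLocalization.AtPrime.comap_maximalIdeal B q.asIdeal)))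

end Groth.L10.ShriekLoc
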