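import Groth.Agent.L10.ShriekLoc.EndIso
import Groth.Agent.L10.ShriekLoc.Local
import Groth.Agent.L10.ShriekLoc.Omega
import Groth.Agent.Lead.ClShriek.QCoh
import Groth.Agent.L29.DCoh.PCQCoh
import Groth.Agent.L10.RelDual.Diag
import Groth.Agent.S7278
import Groth.Agent.L29.Dual.SchCharts
import Groth.Agent.L10.Shriek.BaseChange
import Groth.Agent.L10.RelPC.Basic
import Groth.Agent.L10.RelDual.BaseChangeMain

/-!
Relative dualizing complexes of schemes on affine charts.
-/

set_option autoImplicit false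
set_option linter.style.haveILetI false
set_option backward.defeqAttrib.useBackward true
set_option backward.isDefEq.respectTransparency false
set_option backward.isDefEq.respectTransparency.types false

universe u

open CategoryTheory CategoryTheory.Limits AlgebraicGeometry
open scoped TensorProduct

attribute [local instance] HasDerivedCategory.standard

noncomputable section

namespace Groth.L10.ShriekLoc

open Groth.L00 Groth.L29 Groth.L29.DC

variable {X S : Scheme.{u}}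

/-- the diagonal of a chart -/
abbrev diagMap {f : X ⟶ S} (C : Chart f) :
    Spec (CommRingCat.of (C.A ⊗[C.R] C.A)) ⟶ pullback f f :=
  pullback.lift (Spec.map (CommRingCat.ofHom (Groth.L10.RelDual.j₁ C.R C.A)) ≫ C.jU)
    (Spec.map (CommRingCat.ofHom (Groth.L10.RelDual.j₂ C.R C.A)) ≫ C.jU) (by
      rw [Category.assoc, Category.assoc, C.w, ← Category.assoc, ← Category.assoc, ← Spec.map_comp,
        ← Spec.map_comp]
      congr 2
      ext r
      exact Algebra.TensorProduct.tmul_one_eq_one_tmul (R := C.R) (A := C.A) (B := C.A) r)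

theorem diagMap_fst {f : X ⟶ S} (C : Chart f) :
    diagMap C ≫ pullback.fst f f = Spec.map (CommRingCat.ofHom (Groth.L10.RelDual.j₁ C.R C.A)) ≫ C.jU :=
  pullback.lift_fst _ _ _

theorem isOpenImmersion_diagMap {f : X ⟶ S} (C : Chart f) : IsOpenImmersion (diagMap C) := by
  let sA := Spec.map (CommRingCat.ofHom (algebraMap C.R C.A))
  have h : diagMap C = (pullbackSpecIso C.R C.A C.A).inv ≫
      pullback.map sA sA f f C.jU C.jU C.jV C.w.symm C.w.symm := by
    apply pullback.hom_ext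
    · rw [Category.assoc, pullback.lift_fst, pullback.lift_fst, ← Category.assoc, pullbackSpecIso_inv_fst]
    · rw [Category.assoc, pullback.lift_snd, pullback.lift_snd, ← Category.assoc, pullbackSpecIso_inv_snd]
      rfl
  rw [h]
  infer_instance

theorem jU_diagonal {f : X ⟶ S} (C : Chart f) :
    Spec.map (CommRingCat.ofHom (Groth.L10.RelDual.μ C.R C.A)) ≫ diagMap C = C.jU ≫ pullback.diagonal f := by
  apply pullback.hom_ext
  · rw [Category.assoc, Category.assoc, pullback.lift_fst, pullback.diagonal_fst, Category.comp_id,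
      ← Category.assoc, ← Spec.map_comp]
    convert Category.id_comp C.jU
    rw [← Spec.map_id]
    congr 1
    ext a
    exact mul_one a
  · rw [Category.assoc, Category.assoc, pullback.lift_snd, pullback.diagonal_snd, Category.comp_id,
      ← Category.assoc, ← Spec.map_comp]
    convert Category.id_comp C.jU
    rw [← Spec.map_id]
    congr 1
    ext a
    exact one_mul a

theorem diagonal_preimage_le {f : X ⟶ S} (C : Chart f) [IsOpenImmersion (diagMap C)] :
    pullback.diagonal f ⁻¹ᵁ (diagMap C).opensRange ≤ C.jU.opensRange := by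
  rintro x ⟨t, ht⟩
  refine ⟨Spec.map (CommRingCat.ofHom (Groth.L10.RelDual.j₁ C.R C.A)) t, ?_⟩
  rw [← Scheme.Hom.comp_apply, ← diagMap_fst, Scheme.Hom.comp_apply, ht, ← Scheme.Hom.comp_apply,
    pullback.diagonal_fst]
  rfl

variable [∀ R : CommRingCat.{u}, PreservesFiniteLimits (tilde.functor R)]

/-- relatively perfect complexes on charts -/
theorem exists_chart_relPerfect (f : X ⟶ S) [Flat f] [LocallyOfFinitePresentation f] (K : DCoh.D X)
    (hpc : ∀ m : ℤ, DCoh.IsPseudoCoherentD m K) (htor : DCoh.LocHasFiniteRelTorDim f K) (x : X) :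
    ∃ (C : Chart f) (_ : Algebra.FinitePresentation C.R C.A) (W : Dual.D C.A),
      x ∈ Set.range C.jU ∧
      (∀ [DCoh.HasLpull C.jU], Nonempty ((DCoh.Lpull C.jU).obj K ≅ (DCoh.tildeD (CommRingCat.of C.A)).obj W)) ∧
      Dual2.IsRelPerfect C.R C.A W := by
  haveI := fun {Z Z' : Scheme.{u}} (k : Z ⟶ Z') => KFlat.hasLpull k
  have hq := PCQCoh.isQCohD_of_pc hpc
  obtain ⟨_, ⟨V, hV, rfl⟩, hxV, -⟩ :=
    S.isBasis_affineOpens.exists_subset_of_mem_open (Set.mem_univ (f x)) isOpen_univ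
  obtain ⟨_, ⟨U, hU, rfl⟩, hxU, hle⟩ :=
    X.isBasis_affineOpens.exists_subset_of_mem_open (show x ∈ (f ⁻¹ᵁ V : X.Opens) from hxV) (f ⁻¹ᵁ V).2
  letI : Algebra Γ(S, V) Γ(X, U) := (f.appLE V U hle).hom.toAlgebra
  let C : Chart f := { R := Γ(S, V), A := Γ(X, U), jV := hV.fromSpec, jU := hU.fromSpec,
                       w := (IsAffineOpen.SpecMap_appLE_fromSpec f hV hU hle).symm }
  have hfp : Algebra.FinitePresentation C.R C.A := f.finitePresentation_appLE hV hU hle
  obtain ⟨r⟩ := nonempty_Lpull_iso_restrictD (Scheme.Opens.ι U) K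
  obtain ⟨r'⟩ := nonempty_Lpull_iso_restrictD hU.isoSpec.inv ((DCoh.restrictD (Scheme.Opens.ι U)).obj K)
  obtain ⟨l⟩ := Groth.L10.FMBC.nonempty_lpull_comp' hU.isoSpec.inv (Scheme.Opens.ι U) hU.isoSpec_inv_ι
  let e : (DCoh.Lpull hU.fromSpec).obj K ≅ (DCoh.restrictD hU.isoSpec.inv).obj ((DCoh.restrictD (Scheme.Opens.ι U)).obj K) :=
    (l.app K).symm ≪≫ (DCoh.Lpull _).mapIso r ≪≫ r'
  obtain ⟨W, ⟨eW⟩⟩ := (TildeD.isQCohD_iff (R := Γ(X, U)) _).1 (isQCohD_Lpull hU.fromSpec hq)
  refine ⟨C, hfp, W, by rw [show C.jU = hU.fromSpec from rfl, hU.range_fromSpec]; exact hxU,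
    ⟨eW.symm⟩, ?_⟩
  exact ((Groth.Agent.S7278.result f K hq).1.1 ⟨hpc, htor⟩) U hU V hV hle W ⟨e.symm ≪≫ eW.symm⟩

omit [∀ R : CommRingCat.{u}, PreservesFiniteLimits (tilde.functor R)] in
/-- an object with restriction `A` along a surjection is `A` -/
theorem nonempty_iso_inD_of_res {T A : Type u} [CommRing T] [CommRing A] (φ : T →+* A)
    (hφ : Function.Surjective φ) (N : Dual.D A)
    (e : Nonempty ((DRing.restrictD φ).obj N ≅ Dual.inD T ((ModuleCat.restrictScalars.{u} φ).obj (ModuleCat.of A A)))) :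
    Nonempty (N ≅ Dual.inD A A) := by
  obtain ⟨e⟩ := e
  let H := fun i : ℤ => (Groth.L02.PC.HH i).obj N
  have hres : ∀ i : ℤ, (ModuleCat.restrictScalars.{u} φ).obj (H i) ≅
      (Groth.L02.PC.HH i).obj (Dual.inD T ((ModuleCat.restrictScalars.{u} φ).obj (ModuleCat.of A A))) := fun i =>
    (Groth.L10.RelPC.HHResIso φ N i).symm ≪≫ (Groth.L02.PC.HH i).mapIso e
  have hz : ∀ i : ℤ, i ≠ 0 → IsZero (H i) := fun i hi => by
    haveI := ModuleCat.subsingleton_of_isZero ((Groth.L10.DR.isZero_HH_single 0 i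
      ((ModuleCat.restrictScalars.{u} φ).obj (ModuleCat.of A A)) hi).of_iso (hres i))
    haveI : Subsingleton (H i) := ‹_›
    exact ModuleCat.isZero_of_subsingleton _
  haveI : N.IsGE 0 := (DerivedCategory.isGE_iff _ _).2 fun i hi => hz i hi.ne
  haveI : N.IsLE 0 := (DerivedCategory.isLE_iff _ _).2 fun i hi => hz i hi.ne'
  obtain ⟨M, ⟨eM⟩⟩ := DerivedCategory.exists_iso_singleFunctor_obj_of_isGE_of_isLE N 0
  let g : (ModuleCat.restrictScalars.{u} φ).obj M ≅ (ModuleCat.restrictScalars.{u} φ).obj (ModuleCat.of A A) :=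
    (ModuleCat.restrictScalars.{u} φ).mapIso
      (((DerivedCategory.singleFunctorCompHomologyFunctorIso (ModuleCat.{u} A) 0).app M).symm ≪≫
        (Groth.L02.PC.HH 0).mapIso eM.symm) ≪≫ hres 0 ≪≫
      (DerivedCategory.singleFunctorCompHomologyFunctorIso (ModuleCat.{u} T) 0).app _
  let l : M ≅ ModuleCat.of A A := LinearEquiv.toModuleIso
    { g.toLinearEquiv.toAddEquiv with
      map_smul' := fun a m => by
        obtain ⟨t, rfl⟩ := hφ a
        exact g.toLinearEquiv.map_smul t m }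
  exact ⟨eM ≪≫ (DerivedCategory.singleFunctor (ModuleCat.{u} A) 0).mapIso l⟩

omit [∀ R : CommRingCat.{u}, PreservesFiniteLimits (tilde.functor R)] in
/-- relatively perfect complexes are bounded below -/
theorem exists_isGE_of_relPerfect {R A : Type u} [CommRing R] [CommRing A] [Algebra R A] (W : Dual.D A)
    (hW : Dual2.IsRelPerfect R A W) : ∃ c : ℤ, W.IsGE c := by
  obtain ⟨c₀, b₀, F₀, hF₀, -, ⟨eF₀⟩⟩ := hW.2
  refine ⟨c₀, (DerivedCategory.isGE_iff _ _).2 fun j hj => ?_⟩
  have h0 : IsZero ((Groth.L02.PC.HH j).obj ((DRing.restrictD (algebraMap R A)).obj W)) :=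
    (Groth.L10.DR.HH_iso_zero eF₀ j).2 ((F₀.exactAt_iff_isZero_homology j).1
      (HomologicalComplex.ExactAt.of_isZero (hF₀ j (Or.inl hj))))
  haveI := ModuleCat.subsingleton_of_isZero
    (h0.of_iso (Groth.L10.RelPC.HHResIso (algebraMap R A) W j).symm)
  haveI : Subsingleton ((Groth.L02.PC.HH j).obj W) := ‹_›
  exact ModuleCat.isZero_of_subsingleton _

/-- relative dualizing complexes restrict to relative dualizing complexes of charts -/
theorem isRelDualizing_chart {f : X ⟶ S} [IsSeparated f] [DCoh.HasLpull (pullback.fst f f)]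
    [PreservesFiniteLimits (Scheme.Modules.pushforward (pullback.diagonal f))]
    [PreservesFiniteColimits (Scheme.Modules.pushforward (pullback.diagonal f))] {K : DCoh.D X}
    (hK : Dual3.IsRelDualizing f K) (C : Chart f) [Module.Flat C.R C.A] [Algebra.FinitePresentation C.R C.A]
    [DCoh.HasLpull C.jU] (W : Dual.D C.A)
    (eW : Nonempty ((DCoh.Lpull C.jU).obj K ≅ (DCoh.tildeD (CommRingCat.of C.A)).obj W))
    (hW : Dual2.IsRelPerfect C.R C.A W)
    [DRing.HasLBaseChange (Algebra.TensorProduct.includeLeftRingHom : C.A →+* C.A ⊗[C.R] C.A)]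
    (Rμ : Dual.D (C.A ⊗[C.R] C.A) ⥤ Dual.D C.A)
    (adjμ : DRing.restrictD (Algebra.TensorProduct.lmul' C.R (S := C.A)).toRingHom ⊣ Rμ) :
    Dual2.IsRelDualizing C.R C.A Rμ W := by
  obtain ⟨ξ, -, -, hbij⟩ := hK
  haveI := fun {Z Z' : Scheme.{u}} (k : Z ⟶ Z') => KFlat.hasLpull k
  haveI := fun {Z Z' : Scheme.{u}} (k : Z ⟶ Z') => RpushQC.hasRpush k
  let Δ := pullback.diagonal f
  haveI : IsClosedImmersion Δ := inferInstance
  haveI := Groth.Lead.ClShriek.hasHomO Δ
  let ω := (DCoh.Lpull (pullback.fst f f)).obj K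
  let O := DCoh.inD X (Coh.structureModule X)
  -- the rigidifying map is an isomorphism
  let v : O ⟶ (Groth.Lead.ClShriek.Rsh Δ).obj ω := (Groth.Lead.ClShriek.adjSh Δ).homEquiv O ω ξ
  haveI hv : IsIso v := by
    refine isIso_of_yoneda_map_bijective v fun M => ?_
    let z₁ := (shiftFunctorZero (DCoh.D X) ℤ).app O
    let z₂ := (shiftFunctorZero (DCoh.D (pullback f f)) ℤ).app ω
    have h0 : Function.Bijective fun φ : M ⟶ O => (Dual3.pushD Δ).map φ ≫ ξ := by
      have hb := z₂.homToEquiv.bijective.comp ((hbij M 0).comp z₁.symm.homToEquiv.bijective)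
      convert hb using 1
      funext φ
      simp only [Function.comp_apply, Iso.homToEquiv_apply]
      erw [Functor.commShiftIso_zero, Functor.CommShift.isoZero_hom_app]
      simp [z₁, z₂]
      erw [(shiftFunctorZero (DCoh.D (pullback f f)) ℤ).hom.naturality ξ, Iso.inv_hom_id_app_assoc]
      rfl
    have : (fun φ : M ⟶ O => φ ≫ v) =
        (Groth.Lead.ClShriek.adjSh Δ).homEquiv M ω ∘ fun φ => (Dual3.pushD Δ).map φ ≫ ξ :=
      funext fun φ => (Adjunction.homEquiv_naturality_left _ φ ξ).symm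
    rw [this]
    exact (Equiv.bijective _).comp h0
  let E := Groth.Lead.ClShriek.EZ Δ
  haveI : DCoh.HasLTensorCx E := KFlat.hasLTensorCx E
  haveI : DCoh.HasRSheafHom E := RHom.hasRSheafHom E
  obtain ⟨t⟩ := Groth.Lead.ClShriek.nonempty_RSheafHom_iso Δ E
    ⟨((DerivedCategory.singleFunctorIsoCompQ _ 0).app (Groth.Lead.ClShriek.OZ Δ)).symm⟩
  let b : (DCoh.RSheafHom E).obj ω ≅ DCoh.inD _ (Groth.Lead.ClShriek.OZ Δ) :=
    t.app ω ≪≫ (Dual3.pushD Δ).mapIso (asIso v).symm ≪≫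
      ((Scheme.Modules.pushforward Δ).mapDerivedCategorySingleFunctor 0).app _
  -- restrict to the square of the chart
  let J := diagMap C
  haveI : IsOpenImmersion J := isOpenImmersion_diagMap C
  let μ := Groth.L10.RelDual.μ C.R C.A
  have hμ : Function.Surjective μ := fun a => ⟨a ⊗ₜ 1, mul_one a⟩
  let i := Spec.map (CommRingCat.ofHom μ)
  haveI : IsClosedImmersion i := IsClosedImmersion.spec_of_surjective _ hμ
  haveI := Groth.Lead.ClShriek.hasHomO i
  haveI := ClosedPC.exactLeft i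
  haveI := ClosedPC.exactRight i
  let a : (Scheme.Modules.restrictFunctor J).obj (Groth.Lead.ClShriek.OZ Δ) ≅ Groth.Lead.ClShriek.OZ i :=
    (Groth.L17.PushQCoh.pushRestrictIso Δ J C.jU i (diagonal_preimage_le C) (jU_diagonal C)).app
        (Coh.structureModule X) ≪≫
      (Scheme.Modules.pushforward i).mapIso (Scheme.Modules.restrictUnitIso C.jU)
  let E' := Groth.Lead.ClShriek.EZ i
  let Er := (ExtZero.rCx J).obj E
  haveI : DCoh.HasLTensorCx E' := KFlat.hasLTensorCx E'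
  haveI : DCoh.HasRSheafHom E' := RHom.hasRSheafHom E'
  haveI : DCoh.HasLTensorCx Er := KFlat.hasLTensorCx Er
  haveI : DCoh.HasRSheafHom Er := RHom.hasRSheafHom Er
  let eEr : DCoh.toD _ Er ≅ DCoh.toD _ E' := DerivedCategory.Q.mapIso
    ((HomologicalComplex.singleMapHomologicalComplex (ExtZero.res J) (ComplexShape.up ℤ) 0).app _ ≪≫
      (HomologicalComplex.single _ (ComplexShape.up ℤ) 0).mapIso a)
  obtain ⟨c⟩ := BC.ProjQC.nonempty_LTensorCx_congr eEr
  let cR : DCoh.RSheafHom Er ≅ DCoh.RSheafHom E' :=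
    ((DCoh.RSheafHomAdj Er).ofNatIsoLeft c).rightAdjointUniq (DCoh.RSheafHomAdj E')
  obtain ⟨ρ⟩ := ExtZero.nonempty_res_RSheafHom J E
  haveI : DRing.HasLBaseChange (Groth.L10.RelDual.j₁ C.R C.A) := ‹_›
  let W₁ := (DRing.LBaseChange (Groth.L10.RelDual.j₁ C.R C.A)).obj W
  obtain ⟨rJ⟩ := nonempty_Lpull_iso_restrictD J ω
  obtain ⟨l⟩ := Groth.L10.FMBC.nonempty_lpull_comp' J (pullback.fst f f) (diagMap_fst C)
  obtain ⟨tW⟩ := nonempty_lbc_chart (Groth.L10.RelDual.j₁ C.R C.A) C.jU eW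
  let T := C.A ⊗[C.R] C.A
  haveI : PreservesFiniteColimits (tilde.functor (CommRingCat.of T)) :=
    haveI : PreservesColimitsOfSize.{0, 0} (tilde.functor (CommRingCat.of T)) :=
      tilde.adjunction.leftAdjoint_preservesColimits
    inferInstance
  let P := (DCoh.tildeD (CommRingCat.of T)).obj W₁
  let d : (DCoh.RSheafHom E').obj P ≅ DCoh.inD _ (Groth.Lead.ClShriek.OZ i) :=
    (DCoh.RSheafHom E').mapIso (tW.symm ≪≫ (l.app K).symm ≪≫ rJ) ≪≫ (cR.app _).symm ≪≫ (ρ.app ω).symm ≪≫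
      (DCoh.restrictD J).mapIso b ≪≫
      ((Scheme.Modules.restrictFunctor J).mapDerivedCategorySingleFunctor 0).app _ ≪≫
      (DerivedCategory.singleFunctor _ 0).mapIso a
  obtain ⟨t'⟩ := Groth.Lead.ClShriek.nonempty_RSheafHom_iso i E'
    ⟨((DerivedCategory.singleFunctorIsoCompQ _ 0).app (Groth.Lead.ClShriek.OZ i)).symm⟩
  -- the structure sheaf of the diagonal
  let M : ModuleCat.{u} T := (ModuleCat.restrictScalars.{u} μ).obj (ModuleCat.of C.A C.A)
  let o : Groth.Lead.ClShriek.OZ i ≅ (tilde.functor (CommRingCat.of T)).obj M :=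
    (Scheme.Modules.pushforward i).mapIso (tildeSelf (R := CommRingCat.of C.A)).symm ≪≫
      (PushTilde.pushTildeIso (CommRingCat.ofHom μ)).app (ModuleCat.of C.A C.A)
  let oD : (DCoh.tildeD (CommRingCat.of T)).obj (Dual.inD T M) ≅ DCoh.inD _ (Groth.Lead.ClShriek.OZ i) :=
    ((tilde.functor (CommRingCat.of T)).mapDerivedCategorySingleFunctor 0).app M ≪≫
      (DerivedCategory.singleFunctor _ 0).mapIso o.symm
  have hpc : ∀ m : ℤ, DCoh.IsPseudoCoherentD m (DCoh.inD _ (Groth.Lead.ClShriek.OZ i)) := fun m => by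
    obtain ⟨F, n, hFb, hFf, q, hq⟩ := Groth.L10.RelDual.exists_resolution C.R C.A
    haveI := hq
    refine isPseudoCoherentD_of_iso oD (TildeAlg.pc_tilde (R := CommRingCat.of T) ?_)
    have hF : DRing.IsPseudoCoherent' T (Dual.inD T M) := ⟨F, n, hFb, hFf,
      ⟨asIso (DerivedCategory.Q.map q) ≪≫
        ((DerivedCategory.singleFunctorIsoCompQ (ModuleCat.{u} T) 0).app M).symm⟩⟩
    exact Groth.L02.PC.pc_of_pc' hF m
  -- bounded below
  obtain ⟨c₀, hc₀⟩ := exists_isGE_of_relPerfect W hW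
  haveI := hc₀
  haveI : W₁.IsGE c₀ :=
    Groth.L10.Shriek.isGE_lbc _ (Groth.L10.RelDual.flat_j₁ C.R C.A) W c₀
  have hP : P.IsGE c₀ := Groth.L10.DerivedAdj.isGE_map (w := tilde.functor (CommRingCat.of T)) W₁ c₀
  -- identify the right adjoint
  obtain ⟨r, ⟨adjr⟩⟩ := exists_adjoint i
  obtain ⟨θ⟩ := Groth.Lead.ClShriek.nonempty_adjoint_iso i hpc _ r adjr
  obtain ⟨s⟩ := nonempty_affine μ adjr adjμ W₁
  let s' : (Groth.Lead.ClShriek.Rsh i).obj P ≅ (DCoh.tildeD (CommRingCat.of C.A)).obj (Rμ.obj W₁) :=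
    (θ.app ⟨(tildeQ (CommRingCat.of T)).obj W₁, c₀, hP⟩).symm ≪≫ s
  obtain ⟨p⟩ := Groth.Lead.ClShriek.nonempty_pushD_iso i
  obtain ⟨π⟩ := PushTilde.nonempty_tildeD_Rpush (CommRingCat.ofHom μ)
  let fin : (DCoh.tildeD (CommRingCat.of T)).obj ((DRing.restrictD μ).obj (Rμ.obj W₁)) ≅
      (DCoh.tildeD (CommRingCat.of T)).obj (Dual.inD T M) :=
    (π.app _).symm ≪≫ p.app _ ≪≫ (Dual3.pushD i).mapIso s'.symm ≪≫ (t'.app P).symm ≪≫ d ≪≫ oD.symm
  exact ⟨hW, nonempty_iso_inD_of_res μ hμ _ (SchCharts.iso_of_tilde fin)⟩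

end Groth.L10.ShriekLoc
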