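import Groth.Agent.L10.ShriekLoc.EndAffine
import Groth.Agent.L10.FMBC.Basic
import Groth.Agent.L29.DCoh.ExtZeroD
import Groth.Agent.L29.BC.Global
import Groth.Agent.L29.DCoh.RHomExists
import Groth.Agent.L10.FMBC.Comp

/-!
`O → RHom(E, E)` is an isomorphism when it is so on charts.
-/

set_option autoImplicit false
set_option linter.style.haveILetI false
set_option backward.defeqAttrib.useBackward true
set_option backward.isDefEq.respectTransparency false
set_option backward.isDefEq.respectTransparency.types false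

universe u

open CategoryTheory CategoryTheory.Limits AlgebraicGeometry

attribute [local instance] HasDerivedCategory.standard

noncomputable section

namespace Groth.L10.ShriekLoc

open Groth.L29 Groth.L29.DC Groth.L29.BCAdj

variable {X : Scheme.{u}}

/-- transpose and restriction: an adjoint of an isomorphism restricts to an adjoint of an isomorphism -/
theorem exists_restricted {C C' : Type*} [Category C] [Category C'] {T R : C ⥤ C} (adj : T ⊣ R)
    {T' : C' ⥤ C'} (F : C ⥤ C') (t : T ⋙ F ≅ F ⋙ T') {O V : C} (υ : T.obj O ≅ V)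
    {O' V' G' : C'} (o : F.obj O ≅ O') (v : F.obj V ≅ V') (r : F.obj (R.obj V) ≅ G') :
    ∃ (θ : T'.obj O' ≅ V') (e' : T'.obj G' ⟶ V'),
      θ.hom = T'.map (o.inv ≫ F.map (adj.homEquiv O V υ.hom) ≫ r.hom) ≫ e' := by
  refine ⟨T'.mapIso o.symm ≪≫ (t.app O).symm ≪≫ F.mapIso υ ≪≫ v,
    T'.map r.inv ≫ t.inv.app (R.obj V) ≫ F.map (adj.counit.app V) ≫ v.hom, ?_⟩
  have h1 : T.map (adj.homEquiv O V υ.hom) ≫ adj.counit.app V = υ.hom := by
    have h0 := (adj.homEquiv O V).symm_apply_apply υ.hom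
    rw [Adjunction.homEquiv_counit] at h0
    exact h0
  have h2 := t.inv.naturality (adj.homEquiv O V υ.hom)
  simp only [Functor.comp_map] at h2
  simp only [Iso.trans_hom, Functor.mapIso_hom, Iso.symm_hom, Iso.app_inv]
  rw [T'.map_comp, T'.map_comp, Category.assoc, Category.assoc, ← T'.map_comp_assoc r.hom r.inv, r.hom_inv_id,
    T'.map_id, Category.id_comp, reassoc_of% h2, ← F.map_comp_assoc, h1]

set_option maxHeartbeats 1600000 in
/-- the map `O → RHom(E, E)` adjoint to an isomorphism `O ⊗ E ≅ E` is an isomorphism, if `End(E) = A` on charts -/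
theorem isIso_homEquiv_of_charts (E : CochainComplex X.Modules ℤ) [DCoh.HasLTensorCx E] [DCoh.HasRSheafHom E]
    (hqc : DCoh.IsQCohD ((DCoh.RSheafHom E).obj (DCoh.toD X E)))
    (υ : (DCoh.LTensorCx E).obj (OD X) ≅ DCoh.toD X E)
    (hloc : ∀ x : X, ∃ (A : Type u) (_ : CommRing A) (_ : PreservesFiniteLimits (tilde.functor (CommRingCat.of A)))
      (j : Spec (CommRingCat.of A) ⟶ X) (_ : IsOpenImmersion j) (_ : DCoh.HasLpull j) (W : Dual.D A),
      x ∈ Set.range j ∧ Nonempty ((DCoh.Lpull j).obj (DCoh.toD X E) ≅ (DCoh.tildeD (CommRingCat.of A)).obj W) ∧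
      Function.Bijective (fun c : A => c • 𝟙 W) ∧ ∀ i : ℤ, i ≠ 0 → Subsingleton (W ⟶ W⟦i⟧)) :
    IsIso ((DCoh.RSheafHomAdj E).homEquiv (OD X) (DCoh.toD X E) υ.hom) := by
  haveI := fun {Z Z' : Scheme.{u}} (k : Z ⟶ Z') => Groth.L00.KFlat.hasLpull k
  refine BC.isIso_of_Lpull_cover _ fun x => ?_
  obtain ⟨A, _, _, j, _, _, W, hx, ⟨eW⟩, hbij, hvan⟩ := hloc x
  refine ⟨j.opensRange, inferInstance, hx, ?_⟩
  let η := (DCoh.RSheafHomAdj E).homEquiv (OD X) (DCoh.toD X E) υ.hom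
  suffices hj : IsIso ((DCoh.Lpull j).map η) by
    obtain ⟨l⟩ := Groth.L10.FMBC.nonempty_lpull_comp' j.isoOpensRange.inv j
      (show j.isoOpensRange.inv ≫ j = j.opensRange.ι by rw [Iso.inv_comp_eq, Scheme.Hom.isoOpensRange_hom_ι])
    exact (NatIso.isIso_map_iff l η).1 (inferInstanceAs (IsIso ((DCoh.Lpull _).map ((DCoh.Lpull j).map η))))
  -- restrict to the chart
  obtain ⟨P, q, hP, -, hq, -⟩ := Groth.L00.KFlat.exists_resolution E
  haveI := (DerivedCategory.isIso_Q_map_iff_quasiIso _ q).2 hq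
  haveI : DCoh.HasLTensorCx P := Groth.L00.KFlat.hasLTensorCx P
  let eP : DerivedCategory.Q.obj P ≅ DerivedCategory.Q.obj E := asIso (DerivedCategory.Q.map q)
  let E' := (Proj.pullCx j).obj P
  haveI : DCoh.HasLTensorCx E' := Groth.L00.KFlat.hasLTensorCx _
  haveI : DCoh.HasRSheafHom E' := RHom.hasRSheafHom E'
  obtain ⟨k⟩ := BC.ProjQC.nonempty_LTensorCx_congr eP.symm
  obtain ⟨t₀⟩ := Groth.L10.FMBC.nonempty_pullTensorD j P hP
  let t : DCoh.LTensorCx E ⋙ DCoh.Lpull j ≅ DCoh.Lpull j ⋙ DCoh.LTensorCx E' :=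
    Functor.isoWhiskerRight k _ ≪≫ t₀
  let v : (DCoh.Lpull j).obj (DCoh.toD X E) ≅ DCoh.toD _ E' :=
    (DCoh.Lpull j).mapIso eP.symm ≪≫
      Groth.L00.DerivedApi.objIso (Groth.L00.DerivedApi.acyclicKFlat_pullback j) P hP
  obtain ⟨o⟩ := nonempty_Lpull_OD j
  -- restriction of the internal Hom
  let Er := (ExtZero.rCx j).obj E
  haveI : DCoh.HasLTensorCx Er := Groth.L00.KFlat.hasLTensorCx _
  haveI : DCoh.HasRSheafHom Er := RHom.hasRSheafHom Er
  obtain ⟨rE⟩ := nonempty_Lpull_iso_restrictD j (DCoh.toD X E)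
  obtain ⟨rL⟩ := nonempty_Lpull_iso_restrictD j ((DCoh.RSheafHom E).obj (DCoh.toD X E))
  obtain ⟨ρ⟩ := ExtZero.nonempty_res_RSheafHom j E
  let eEr : DCoh.toD _ Er ≅ DCoh.toD _ E' :=
    ((ExtZero.res j).mapDerivedCategoryFactors.app E).symm ≪≫ rE.symm ≪≫ v
  obtain ⟨c⟩ := BC.ProjQC.nonempty_LTensorCx_congr eEr
  let cR : DCoh.RSheafHom Er ≅ DCoh.RSheafHom E' :=
    ((DCoh.RSheafHomAdj Er).ofNatIsoLeft c).rightAdjointUniq (DCoh.RSheafHomAdj E')
  let r : (DCoh.Lpull j).obj ((DCoh.RSheafHom E).obj (DCoh.toD X E)) ≅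
      (DCoh.RSheafHom E').obj (DCoh.toD _ E') :=
    rL ≪≫ ρ.app _ ≪≫ cR.app _ ≪≫ (DCoh.RSheafHom E').mapIso (rE.symm ≪≫ v)
  obtain ⟨θ, e', h⟩ := exists_restricted (DCoh.RSheafHomAdj E) (DCoh.Lpull j) t υ o v r
  haveI := isIso_affine E' (isQCohD_of_iso r (isQCohD_Lpull j hqc)) W ⟨eW.symm ≪≫ v⟩ hbij hvan _ θ e' h
  exact (isIso_comp_right_iff _ r.hom).1 ((isIso_comp_left_iff o.inv _).1 inferInstance)

end Groth.L10.ShriekLoc
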