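import Groth.Agent.L10.ShriekLoc.Field
import Groth.Agent.L10.ShriekLoc.StalkSemi
import Groth.Agent.L10.ShriekLoc.LocalCM
import Groth.Agent.L06.SkTensor
import Groth.Agent.S0369
import Mathlib.AlgebraicGeometry.Morphisms.FiniteType

/-!
The dualizing object of a scheme proper over a field, at a point in a chart.
-/

set_option autoImplicit false
set_option linter.style.haveILetI false
set_option backward.defeqAttrib.useBackward true
set_option backward.isDefEq.respectTransparency false
set_option backward.isDefEq.respectTransparency.types false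

universe u

open CategoryTheory CategoryTheory.Limits AlgebraicGeometry L02.FibDepth

attribute [local instance] HasDerivedCategory.standard

noncomputable section

namespace Groth.L10.ShriekLoc

open Groth.L29 Groth.L29.DC Groth.L29.HomD

variable {X : Scheme.{u}}

/-- charts over a field with the dualizing complex -/
theorem exists_chart_field (k : Type u) [Field k] {f : X ⟶ Spec (CommRingCat.of k)} [IsProper f]
    [DCoh.HasRpush f] {hf : DCoh.RpushPreservesQCoh f}
    {a : DCoh.DQCoh (Spec (CommRingCat.of k)) ⥤ DCoh.DQCoh X} (adj : DCoh.RpushQ f hf ⊣ a)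
    (O : DCoh.DQCoh (Spec (CommRingCat.of k)))
    (hO : Nonempty (O.obj ≅ DCoh.inD (Spec (CommRingCat.of k)) (Coh.structureModule (Spec (CommRingCat.of k)))))
    [∀ R : CommRingCat.{u}, PreservesFiniteLimits (tilde.functor R)] (x : X) :
    ∃ (A : Type u) (_ : CommRing A) (_ : Algebra k A) (_ : IsNoetherianRing A)
      (jU : Spec (CommRingCat.of A) ⟶ X) (_ : IsOpenImmersion jU) (ω : Dual.D A),
      x ∈ Set.range jU ∧ Dual.IsDualizing A ω ∧
      (∀ (m : Ideal A) (_ : m.IsMaximal),
        Dual.IsNormalized (Localization.AtPrime m) ((FlatBC.L A (Localization.AtPrime m)).obj ω)) ∧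
      Nonempty ((DCoh.restrictD jU).obj (a.obj O).obj ≅ (DCoh.tildeD (CommRingCat.of A)).obj ω) := by
  haveI := fun {A B : Scheme.{u}} (g : A ⟶ B) => Groth.L00.KFlat.hasLpull g
  haveI : IsLocallyNoetherian X := LocallyOfFiniteType.isLocallyNoetherian f
  obtain ⟨_, ⟨U, hU, rfl⟩, hxU, -⟩ :=
    X.isBasis_affineOpens.exists_subset_of_mem_open (Set.mem_univ x) isOpen_univ
  obtain ⟨φ, hφ⟩ := Spec.map_surjective (hU.fromSpec ≫ f)
  letI : Algebra k Γ(X, U) := φ.hom.toAlgebra
  let C : Chart f :=
    { R := k, A := Γ(X, U), jV := 𝟙 _, jU := hU.fromSpec,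
      w := by rw [Category.comp_id]; exact hφ.symm }
  haveI : IsNoetherianRing Γ(X, U) := IsLocallyNoetherian.component_noetherian ⟨U, hU⟩
  obtain ⟨n, ψ, hψ⟩ := exists_presentation C
  haveI : DRing.HasLBaseChange (algebraMap k (MvPolynomial (Fin n) k)) :=
    LBC.hasLBaseChange (CommRingCat.ofHom (algebraMap k (MvPolynomial (Fin n) k)))
  obtain ⟨Rψ, ⟨adjψ⟩⟩ := Groth.L10.Shriek.exists_rightAdjoint ψ.toRingHom
  obtain ⟨o⟩ := hO
  obtain ⟨l⟩ := Groth.L10.FMDiag.nonempty_Lpull_id (X := Spec (CommRingCat.of k))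
  haveI : (tilde.functor (CommRingCat.of k)).IsLeftAdjoint := tilde.adjunction.isLeftAdjoint
  obtain ⟨t⟩ : Nonempty ((DCoh.tildeD (CommRingCat.of k)).obj (Dual.inD k k) ≅
      DCoh.inD (Spec (CommRingCat.of k)) (Coh.structureModule (Spec (CommRingCat.of k)))) :=
    ⟨((tilde.functor (CommRingCat.of k)).mapDerivedCategorySingleFunctor 0).app (ModuleCat.of k k) ≪≫
      (DerivedCategory.singleFunctor (Spec (CommRingCat.of k)).Modules 0).mapIso tildeSelf⟩
  have hge : O.obj.IsGE 0 := (DerivedCategory.isGE_iff _ _).2 fun i hi =>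
    (DerivedCategory.isZero_of_isGE _ 0 i hi).of_iso ((DerivedCategory.homologyFunctor _ i).mapIso o)
  obtain ⟨e⟩ := nonempty_chart C adj n ψ hψ Rψ adjψ O 0 hge (Dual.inD k k)
    ⟨t ≪≫ o.symm ≪≫ (l.app _).symm⟩
  obtain ⟨r⟩ := nonempty_Lpull_iso_restrictD hU.fromSpec (a.obj O).obj
  refine ⟨Γ(X, U), inferInstance, inferInstance, inferInstance, hU.fromSpec, inferInstance,
    Dual2.shriekVia n Rψ (Dual.inD k k), (IsAffineOpen.range_fromSpec hU).ge hxU,
    Groth.Agent.S1782.result k Γ(X, U) n ψ hψ Rψ adjψ _ (isDualizing_field k).1, fun m _ => ?_, ⟨r.symm ≪≫ e⟩⟩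
  haveI : Module.Flat Γ(X, U) (Localization.AtPrime m) := IsLocalization.flat _ m.primeCompl
  haveI : DRing.HasLBaseChange (algebraMap Γ(X, U) (Localization.AtPrime m)) :=
    LBC.hasLBaseChange (CommRingCat.ofHom (algebraMap Γ(X, U) (Localization.AtPrime m)))
  have hm : m.comap (algebraMap k Γ(X, U)) = IsLocalRing.maximalIdeal k := by
    haveI : (m.comap (algebraMap k Γ(X, U))).IsPrime := Ideal.IsPrime.comap _
    rw [IsLocalRing.maximalIdeal_eq_bot]
    exact Ideal.eq_bot_of_prime _
  have h := (Groth.Agent.S1789.result k Γ(X, U) n ψ hψ Rψ adjψ m hm _ (isDualizing_field k).1 (isDualizing_field k).2).2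
  intro i hi
  haveI := h i hi
  exact (Iso.homCongr (Iso.refl _) ((shiftFunctor _ i).mapIso
    ((FlatBC.lbcIso (A := Γ(X, U)) (B := Localization.AtPrime m)).app _))).subsingleton_congr.1 inferInstance

section Point

variable {A : Type u} [CommRing A]
  (jU : Spec (CommRingCat.of A) ⟶ X) [IsOpenImmersion jU] {L : DCoh.D X} {ω : Dual.D A}

/-- the stalk of the cohomology is the cohomology of the localised complex -/
theorem nonempty_semi_HD [∀ R : CommRingCat.{u}, PreservesFiniteLimits (tilde.functor R)] (e : (DCoh.restrictD jU).obj L ≅ (DCoh.tildeD (CommRingCat.of A)).obj ω)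
    (q : Spec (CommRingCat.of A)) (i : ℤ) :
    haveI : Module.Flat A (Localization.AtPrime q.asIdeal) := IsLocalization.flat _ q.asIdeal.primeCompl
    Nonempty (Semi (Localization.AtPrime q.asIdeal)
      (Dual.HD (Localization.AtPrime q.asIdeal) ((FlatBC.L A (Localization.AtPrime q.asIdeal)).obj ω) i)
      (X.presheaf.stalk (jU q)) ((DCoh.HD L i).presheaf.stalk (jU q))) := by
  haveI : Module.Flat A (Localization.AtPrime q.asIdeal) := IsLocalization.flat _ q.asIdeal.primeCompl
  obtain ⟨E⟩ := nonempty_semi_chart jU (DCoh.HD L i)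
    (show ModuleCat.{u} (CommRingCat.of A) from (Groth.L02.PC.HH i).obj ω)
    ((HDResIso jU L i).symm ≪≫ (DerivedCategory.homologyFunctor _ i).mapIso e ≪≫
      TildeAlg.hdIso (R := CommRingCat.of A) ω i) q
  let t : Dual.HD (Localization.AtPrime q.asIdeal) ((FlatBC.L A (Localization.AtPrime q.asIdeal)).obj ω) i ≃ₗ[
      Localization.AtPrime q.asIdeal] LocalizedModule q.asIdeal.primeCompl (Dual.HD A ω i) :=
    (FlatBC.hEquiv A (Localization.AtPrime q.asIdeal) _ i).trans
      (LocalizedModule.equivTensorProduct q.asIdeal.primeCompl _).symm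
  exact ⟨⟨E.φ, E.surj, t.toAddEquiv.trans E.e, fun r m => by
    change E.e (t (r • m)) = E.φ r • E.e (t m)
    rw [t.map_smul]
    exact E.map_smul r (t m)⟩⟩

/-- the local ring, semilinearly -/
theorem nonempty_semi_self (q : Spec (CommRingCat.of A)) :
    Nonempty (Semi (Localization.AtPrime q.asIdeal) (Localization.AtPrime q.asIdeal)
      (X.presheaf.stalk (jU q)) (X.presheaf.stalk (jU q))) := by
  obtain ⟨e⟩ := Groth.L29.SchLocus.nonempty_stalkEquiv (A := CommRingCat.of A) jU q
  exact ⟨⟨e.symm.toRingHom, e.symm.surjective, e.symm.toAddEquiv, fun r m => e.symm.map_mul r m⟩⟩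

end Point

end Groth.L10.ShriekLoc
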