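import Groth.Agent.L10.ShriekLoc.Global
import Groth.Agent.L29.DCoh.TildeAlg
import Groth.Agent.L16.CohKernel
import Groth.Agent.S1783

/-!
Coherence of the right adjoint on charts.
-/

set_option autoImplicit false
set_option linter.style.haveILetI false
set_option backward.defeqAttrib.useBackward true
set_option backward.isDefEq.respectTransparency false
set_option backward.isDefEq.respectTransparency.types false

universe u

open CategoryTheory CategoryTheory.Limits AlgebraicGeometry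

attribute [local instance] HasDerivedCategory.standard

noncomputable section

namespace Groth.L10.ShriekLoc

open Groth.L00 Groth.L29 Groth.L29.DC Groth.L29.BCAdj

variable {X Y : Scheme.{u}} {f : X ⟶ Y} (C : Chart f)

/-- algebraic model of a bounded below coherent object on a chart -/
theorem exists_model [IsLocallyNoetherian Y] [PreservesFiniteLimits (tilde.functor (CommRingCat.of C.R))]
    [DCoh.HasLpull C.jV] (K : DCoh.DQCoh Y) (c : ℤ) (hK : K.obj.IsGE c)
    (hcoh : ∀ i, Coh.IsCoh (DCoh.HD K.obj i)) :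
    ∃ M : Dual.D C.R, (∀ i : ℤ, i < c → Subsingleton (Dual.HD C.R M i)) ∧
      (∀ i : ℤ, Module.Finite C.R (Dual.HD C.R M i)) ∧
      Nonempty ((DCoh.tildeD (CommRingCat.of C.R)).obj M ≅ (DCoh.Lpull C.jV).obj K.obj) := by
  haveI := isNoetherian_R C
  obtain ⟨r⟩ := nonempty_Lpull_iso_restrictD C.jV K.obj
  obtain ⟨M, ⟨e⟩⟩ := (TildeD.isQCohD_iff _).1 (isQCohD_Lpull C.jV K.property)
  have h : ∀ i, Nonempty ((DCoh.HD K.obj i).restrict C.jV ≅
      tilde (show ModuleCat.{u} (CommRingCat.of C.R) from (Groth.L02.PC.HH i).obj M)) := fun i =>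
    ⟨(HDResIso C.jV K.obj i).symm ≪≫ (DerivedCategory.homologyFunctor _ i).mapIso (r.symm ≪≫ e.symm) ≪≫
      TildeAlg.hdIso (R := CommRingCat.of C.R) M i⟩
  refine ⟨M, fun i hi => ?_, fun i => ?_, ⟨e⟩⟩
  · have hz : IsZero ((DCoh.HD K.obj i).restrict C.jV) :=
      (Scheme.Modules.restrictFunctor C.jV).map_isZero ((DerivedCategory.isGE_iff _ _).1 hK i hi)
    exact ModuleCat.subsingleton_of_isZero (TildeAlg.isZero_of_isZero_tilde (hz.of_iso (h i).some.symm))
  · haveI := (hcoh i).1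
    exact Groth.L16.CohKernel.finite_of_tilde_iso _ (hcoh i).2 C.jV _ (h i).some

/-- cohomology of tilde on a chart -/
theorem nonempty_hd_restrict [DCoh.HasLpull C.jU] [PreservesFiniteLimits (tilde.functor (CommRingCat.of C.A))]
    {L : DCoh.D X} {N : Dual.D C.A}
    (e : Nonempty ((DCoh.Lpull C.jU).obj L ≅ (DCoh.tildeD (CommRingCat.of C.A)).obj N)) (i : ℤ) :
    Nonempty ((DCoh.HD L i).restrict C.jU ≅
      tilde (show ModuleCat.{u} (CommRingCat.of C.A) from (Groth.L02.PC.HH i).obj N)) := by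
  obtain ⟨r⟩ := nonempty_Lpull_iso_restrictD C.jU L
  obtain ⟨e⟩ := e
  exact ⟨(HDResIso C.jU L i).symm ≪≫ (DerivedCategory.homologyFunctor _ i).mapIso (r.symm ≪≫ e) ≪≫
    TildeAlg.hdIso (R := CommRingCat.of C.A) N i⟩

/-- the right adjoint of a proper morphism preserves bounded below coherent objects -/
theorem isCoh_HD [IsNoetherian Y] [IsProper f] [DCoh.HasRpush f] {hf : DCoh.RpushPreservesQCoh f}
    {a : DCoh.DQCoh Y ⥤ DCoh.DQCoh X} (adj : DCoh.RpushQ f hf ⊣ a) (K : DCoh.DQCoh Y) (c : ℤ)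
    (hK : K.obj.IsGE c) (hcoh : ∀ i, Coh.IsCoh (DCoh.HD K.obj i)) (i : ℤ) :
    Coh.IsCoh (DCoh.HD (a.obj K).obj i) := by
  haveI := fun {A B : Scheme.{u}} (k : A ⟶ B) => KFlat.hasLpull k
  haveI : IsLocallyNoetherian X := LocallyOfFiniteType.isLocallyNoetherian f
  refine Groth.L16.CohKernel.isCoh_of_tilde_charts _ fun x => ?_
  obtain ⟨C, hx⟩ := exists_chart' f x
  haveI := isNoetherian_R C
  haveI := isNoetherian_A C
  haveI : PreservesFiniteLimits (tilde.functor (CommRingCat.of C.R)) := Groth.L18.TildeF.tilde_preservesFiniteLimits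
  haveI : PreservesFiniteLimits (tilde.functor (CommRingCat.of C.A)) := Groth.L18.TildeF.tilde_preservesFiniteLimits
  obtain ⟨M, hM₁, hM₂, hM⟩ := exists_model C K c hK hcoh
  obtain ⟨n, ψ, hψ⟩ := exists_presentation C
  haveI : DRing.HasLBaseChange (algebraMap C.R (MvPolynomial (Fin n) C.R)) :=
    LBC.hasLBaseChange (CommRingCat.ofHom (algebraMap C.R (MvPolynomial (Fin n) C.R)))
  obtain ⟨Rψ, ⟨adjψ⟩⟩ := Groth.L10.Shriek.exists_rightAdjoint ψ.toRingHom
  obtain ⟨e⟩ := nonempty_chart C adj n ψ hψ Rψ adjψ K c hK M hM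
  have hfin := (Groth.Agent.S1783.result C.R C.A n ψ hψ Rψ adjψ M c hM₁).2 hM₂ i
  exact ⟨CommRingCat.of C.A, C.jU, inferInstance, _, hx, hfin, nonempty_hd_restrict C ⟨e⟩ i⟩

end Groth.L10.ShriekLoc
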