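import Groth.Agent.L10.ShriekLoc.Core

/-!
The right adjoint of the derived direct image of a proper morphism to a Noetherian scheme on affine charts.
-/

set_option autoImplicit false
set_option linter.style.haveILetI false
set_option backward.defeqAttrib.useBackward true
set_option backward.isDefEq.respectTransparency false
set_option backward.isDefEq.respectTransparency.types false

universe u

open CategoryTheory CategoryTheory.Limits AlgebraicGeometry

attribute [local instance] HasDerivedCategory.standard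

noncomputable section

namespace Groth.L10.ShriekLoc

open Groth.L00 Groth.L29 Groth.L29.DC Groth.L29.BCAdj

variable {X Y : Scheme.{u}}

/-- an affine chart of a morphism -/
structure Chart (f : X ⟶ Y) where
  (R A : Type u)
  [instR : CommRing R]
  [instA : CommRing A]
  [alg : Algebra R A]
  jV : Spec (CommRingCat.of R) ⟶ Y
  [openV : IsOpenImmersion jV]
  jU : Spec (CommRingCat.of A) ⟶ X
  [openU : IsOpenImmersion jU]
  w : jU ≫ f = Spec.map (CommRingCat.ofHom (algebraMap R A)) ≫ jV

attribute [instance] Chart.instR Chart.instA Chart.alg Chart.openV Chart.openU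

/-- two affine opens, one over the other -/
theorem exists_chart' (f : X ⟶ Y) (x : X) :
    ∃ C : Chart f, x ∈ Set.range C.jU := by
  obtain ⟨_, ⟨V, hV, rfl⟩, hxV, -⟩ :=
    Y.isBasis_affineOpens.exists_subset_of_mem_open (Set.mem_univ (f x)) isOpen_univ
  obtain ⟨_, ⟨U, hU, rfl⟩, hxU, hle⟩ :=
    X.isBasis_affineOpens.exists_subset_of_mem_open (show x ∈ (f ⁻¹ᵁ V : X.Opens) from hxV) (f ⁻¹ᵁ V).2
  letI : Algebra Γ(Y, V) Γ(X, U) := (f.appLE V U hle).hom.toAlgebra
  exact ⟨{ R := Γ(Y, V), A := Γ(X, U), jV := hV.fromSpec, jU := hU.fromSpec,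
           w := (IsAffineOpen.SpecMap_appLE_fromSpec f hV hU hle).symm }, by rw [hU.range_fromSpec]; exact hxU⟩

variable {f : X ⟶ Y} (C : Chart f)

theorem isNoetherian_R [IsLocallyNoetherian Y] : IsNoetherianRing C.R :=
  haveI := isLocallyNoetherian_of_isOpenImmersion C.jV
  isLocallyNoetherian_Spec.1 this

theorem isNoetherian_A [IsLocallyNoetherian X] : IsNoetherianRing C.A :=
  haveI := isLocallyNoetherian_of_isOpenImmersion C.jU
  isLocallyNoetherian_Spec.1 this

theorem exists_presentation [LocallyOfFiniteType f] :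
    ∃ (n : ℕ) (ψ : MvPolynomial (Fin n) C.R →ₐ[C.R] C.A), Function.Surjective ψ := by
  haveI : LocallyOfFiniteType (Spec.map (CommRingCat.ofHom (algebraMap C.R C.A)) ≫ C.jV) := by
    rw [← C.w]; infer_instance
  have h : LocallyOfFiniteType (Spec.map (CommRingCat.ofHom (algebraMap C.R C.A))) :=
    locallyOfFiniteType_of_comp _ C.jV
  haveI : Algebra.FiniteType C.R C.A :=
    RingHom.finiteType_algebraMap.1 ((HasRingHomProperty.Spec_iff (P := @LocallyOfFiniteType)).1 h)
  exact Algebra.FiniteType.iff_quotient_mvPolynomial''.1 inferInstance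

set_option maxHeartbeats 1600000 in
/-- on a chart, the right adjoint is the algebraic upper shriek -/
theorem nonempty_chart [IsNoetherian Y] [IsProper f]
    [PreservesFiniteLimits (tilde.functor (CommRingCat.of C.R))]
    [PreservesFiniteLimits (tilde.functor (CommRingCat.of C.A))]
    [DCoh.HasRpush f] {hf : DCoh.RpushPreservesQCoh f}
    {a : DCoh.DQCoh Y ⥤ DCoh.DQCoh X} (adj : DCoh.RpushQ f hf ⊣ a)
    [DCoh.HasLpull C.jV] [DCoh.HasLpull C.jU]
    (n : ℕ) (ψ : MvPolynomial (Fin n) C.R →ₐ[C.R] C.A) (hψ : Function.Surjective ψ)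
    [DRing.HasLBaseChange (algebraMap C.R (MvPolynomial (Fin n) C.R))]
    (Rψ : Dual.D (MvPolynomial (Fin n) C.R) ⥤ Dual.D C.A) (adjψ : DRing.restrictD ψ.toRingHom ⊣ Rψ)
    (K : DCoh.DQCoh Y) (c : ℤ) (hK : K.obj.IsGE c) (M : Dual.D C.R)
    (e : Nonempty ((DCoh.tildeD (CommRingCat.of C.R)).obj M ≅ (DCoh.Lpull C.jV).obj K.obj)) :
    Nonempty ((DCoh.Lpull C.jU).obj (a.obj K).obj ≅
      (DCoh.tildeD (CommRingCat.of C.A)).obj (Dual2.shriekVia n Rψ M)) := by
  haveI := fun {A B : Scheme.{u}} (k : A ⟶ B) => RpushQC.hasRpush k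
  haveI := fun {A B : Scheme.{u}} (k : A ⟶ B) => KFlat.hasLpull k
  haveI := isNoetherian_R C
  let f' := pullback.snd f C.jV
  let j' := pullback.fst f C.jV
  have hsq : IsPullback j' f' f C.jV := IsPullback.of_hasPullback f C.jV
  haveI : IsNoetherian (Spec (CommRingCat.of C.R)) := inferInstance
  haveI : CompactSpace ↥(pullback f C.jV) := QuasiCompact.compactSpace_of_compactSpace f'
  haveI : QuasiSeparatedSpace ↥(pullback f C.jV) := quasiSeparatedSpace_of_quasiSeparated f'
  obtain ⟨a', ⟨adj'⟩⟩ := exists_adjoint f'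
  obtain ⟨t⟩ := nonempty_openBC hsq adj adj' K c hK
  let k : Spec (CommRingCat.of C.A) ⟶ pullback f C.jV := hsq.lift C.jU _ C.w
  have hk₁ : k ≫ j' = C.jU := hsq.lift_fst _ _ _
  have hk₂ : k ≫ f' = Spec.map (CommRingCat.ofHom (algebraMap C.R C.A)) := hsq.lift_snd _ _ _
  haveI : IsOpenImmersion j' := inferInstance
  haveI : IsOpenImmersion (k ≫ j') := by rw [hk₁]; infer_instance
  haveI : IsOpenImmersion k := IsOpenImmersion.of_comp k j'
  obtain ⟨u⟩ := nonempty_core f' k hk₂ adj' n ψ hψ Rψ adjψ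
    ⟨(DCoh.Lpull C.jV).obj K.obj, isQCohD_Lpull C.jV K.property⟩ c
    (BCAdj.isGE_Lpull_flat C.jV K.obj c hK) M e
  obtain ⟨l⟩ := Groth.L10.FMBC.nonempty_lpull_comp' k j' hk₁
  exact ⟨(l.app _).symm ≪≫ (DCoh.Lpull k).mapIso t ≪≫ u⟩

end Groth.L10.ShriekLoc
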