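import Groth.Agent.L10.ShriekLoc.Amp
import Groth.Agent.L07.FibreDimSemi
import Groth.Agent.L16.CohSupport

/-!
Global consequences: amplitude, coherence, fibre dimensions.
-/

set_option autoImplicit false
set_option linter.style.haveILetI false
set_option backward.defeqAttrib.useBackward true
set_option backward.isDefEq.respectTransparency false
set_option backward.isDefEq.respectTransparency.types false

universe u

open CategoryTheory CategoryTheory.Limits AlgebraicGeometry

attribute [local instance] HasDerivedCategory.standard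

noncomputable section

namespace Groth.L10.ShriekLoc

open Groth.L00 Groth.L29 Groth.L29.DC Groth.L29.BCAdj

variable {X Y : Scheme.{u}} {f : X ⟶ Y}

theorem localFibreDim_eq (x : X) : Dual3.localFibreDim f x = FlatMor.fibreDimAt f x := by
  unfold Dual3.localFibreDim FlatMor.fibreDimAt FlatMor.localDim
  exact iInf_subtype'

theorem localFibreDim_le {d : ℕ} (hd : Dual3.FibreDimLE f d) (x : X) :
    Dual3.localFibreDim f x ≤ (d : WithBot ℕ∞) :=
  (localFibreDim_eq x).le.trans ((Groth.L07.FibreDim.fiber_dim_le_iff f (f x) _).1 (hd (f x)) x rfl)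

variable [IsNoetherian Y] [LocallyOfFiniteType f] (c : DEt.Compactification f) [DCoh.HasRpush c.fbar]
    {hc : DCoh.RpushPreservesQCoh c.fbar} {a : DCoh.DQCoh Y ⥤ DCoh.DQCoh c.Xbar}
    (adj : DCoh.RpushQ c.fbar hc ⊣ a) [PreservesFiniteLimits (Scheme.Modules.restrictFunctor c.j)]
    (O : DCoh.DQCoh Y) (hO : Nonempty (O.obj ≅ DCoh.inD Y (Coh.structureModule Y)))

include adj hO in
theorem ampAt_omega [Flat f] (d : ℕ) (hd : ∀ x, Dual3.localFibreDim f x ≤ (d : WithBot ℕ∞))
    (G : CochainComplex X.Modules ℤ) (eG : DCoh.toD X G ≅ (Dual3.shriekC c a).obj O) (x : X) :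
    DerSch.HasTorAmplitudeAt f (-(d : ℤ)) 0 G x := by
  haveI := fun {A B : Scheme.{u}} (k : A ⟶ B) => KFlat.hasLpull k
  haveI := fun (R : CommRingCat.{u}) => Groth.L18.TildeF.tilde_preservesFiniteLimits (R := R)
  haveI : IsLocallyNoetherian X := LocallyOfFiniteType.isLocallyNoetherian f
  obtain ⟨C, hx⟩ := exists_chart' f x
  haveI := isNoetherian_R C
  haveI := isNoetherian_A C
  haveI := module_flat C
  obtain ⟨n, ψ, hψ, _, Rψ, adjψ, he⟩ := exists_omega c adj O hO C
  obtain ⟨z, rfl⟩ := hx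
  refine ampAt_chart C he G eG _ _ (Groth.L10.Shriek.FlatRange.amp n ψ hψ adjψ d fun q => ?_) z
  rw [← fibreDimAt_chart]
  exact hd _

include adj hO in
theorem hasRelFlatAmplitude [Flat f] (d : ℕ) (hd : ∀ x, Dual3.localFibreDim f x ≤ (d : WithBot ℕ∞)) :
    DCoh.HasRelFlatAmplitudeIn f (-(d : ℤ)) 0 ((Dual3.shriekC c a).obj O) := by
  let G : CochainComplex X.Modules ℤ := DerivedCategory.Q.objPreimage ((Dual3.shriekC c a).obj O)
  let eG : DCoh.toD X G ≅ (Dual3.shriekC c a).obj O := DerivedCategory.Q.objObjPreimageIso _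
  obtain ⟨E, hv, hf, ⟨e⟩⟩ :=
    Groth.Lead.RelTorStalk.relFlatAmp_of_ampAt f G (ampAt_omega c adj O hO d hd G eG)
  exact ⟨E, hv, hf, ⟨e ≪≫ eG⟩⟩

include adj hO in
theorem isCoh_omega (i : ℤ) : Coh.IsCoh (DCoh.HD ((Dual3.shriekC c a).obj O) i) := by
  haveI := fun {A B : Scheme.{u}} (k : A ⟶ B) => KFlat.hasLpull k
  haveI := fun (R : CommRingCat.{u}) => Groth.L18.TildeF.tilde_preservesFiniteLimits (R := R)
  haveI : IsLocallyNoetherian X := LocallyOfFiniteType.isLocallyNoetherian f
  refine Groth.L16.CohKernel.isCoh_of_tilde_charts _ fun x => ?_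
  obtain ⟨C, hx⟩ := exists_chart' f x
  haveI := isNoetherian_R C
  haveI := isNoetherian_A C
  obtain ⟨n, ψ, hψ, _, Rψ, adjψ, he⟩ := exists_omega c adj O hO C
  have hfin := (Groth.Agent.S1783.result C.R C.A n ψ hψ Rψ adjψ (Dual.inD C.R C.R) 0
    (fun j hj => subsingleton_O C.R j hj)).2 (fun j => Groth.L29.HomD.finite_HD_single C.R j) i
  exact ⟨CommRingCat.of C.A, C.jU, inferInstance, _, hx, hfin, nonempty_hd_restrict C he i⟩

end Groth.L10.ShriekLoc
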