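import Groth.Agent.L10.ShriekLoc.Compact
import Groth.Agent.L10.Shriek.PerfectEnd
import Groth.Agent.L10.Shriek.PerfectDual
import Groth.Agent.S7066
import Groth.Agent.L10.DRing.Perfect
import Groth.Prelude.Def_MoreMor

/-!
Charts of a perfect morphism: perfect presentations, upper bounds and endomorphisms of the upper shriek.
-/

set_option autoImplicit false
set_option linter.style.haveILetI false
set_option backward.defeqAttrib.useBackward true
set_option backward.isDefEq.respectTransparency false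
set_option backward.isDefEq.respectTransparency.types false

universe u

open CategoryTheory CategoryTheory.Limits AlgebraicGeometry

attribute [local instance] HasDerivedCategory.standard

noncomputable section

namespace Groth.L10.ShriekLoc

open Groth.L29.HomD Groth.L29.RestrictAdj

variable {X Y : Scheme.{u}} {f : X ⟶ Y}

/-- a perfect morphism has charts with perfect presentations -/
theorem exists_chart_perfect (hf : MoreMor.IsPerfectMor f) (x : X) :
    ∃ (C : Chart f) (n : ℕ) (ψ : MvPolynomial (Fin n) C.R →ₐ[C.R] C.A),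
      x ∈ Set.range C.jU ∧ Function.Surjective ψ ∧
      DRing.IsPerfect (MvPolynomial (Fin n) C.R) (Dual.inD (MvPolynomial (Fin n) C.R) (ringRes ψ.toRingHom)) := by
  obtain ⟨_, ⟨V, hV, rfl⟩, hxV, -⟩ :=
    Y.isBasis_affineOpens.exists_subset_of_mem_open (Set.mem_univ (f x)) isOpen_univ
  obtain ⟨_, ⟨U, hU, rfl⟩, hxU, hle⟩ :=
    X.isBasis_affineOpens.exists_subset_of_mem_open (show x ∈ (f ⁻¹ᵁ V : X.Opens) from hxV) (f ⁻¹ᵁ V).2
  letI : Algebra Γ(Y, V) Γ(X, U) := (f.appLE V U hle).hom.toAlgebra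
  obtain ⟨n, ψ, hψ, hp⟩ := (Groth.Agent.S7066.result Γ(Y, V) Γ(X, U)).1 (hf U V hU hV hle)
  exact ⟨{ R := Γ(Y, V), A := Γ(X, U), jV := hV.fromSpec, jU := hU.fromSpec,
           w := (IsAffineOpen.SpecMap_appLE_fromSpec f hV hU hle).symm }, n, ψ,
    by rw [hU.range_fromSpec]; exact hxU, hψ, hp⟩

/-- perfect objects have no maps into sufficiently shifted bounded above objects -/
theorem exists_bound_hom {P : Type u} [CommRing P] {K : Dual.D P} (hK : DRing.IsPerfect P K) :
    ∃ a : ℤ, ∀ (N : Dual.D P) (hi : ℤ), N.IsLE hi → ∀ i : ℤ, hi < a + i → Subsingleton (K ⟶ N⟦i⟧) := by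
  obtain ⟨E, a, b, hv, hp, ⟨e⟩⟩ := hK
  refine ⟨a, fun N hi hN i hlt => subsingleton_of_forall_eq 0 fun φ => ?_⟩
  haveI := hN
  haveI : (N⟦i⟧).IsLE (hi - i) := DerivedCategory.TStructure.t.isLE_shift N hi i (hi - i) (by lia)
  obtain ⟨L, hL, ⟨e'⟩⟩ := DerivedCategory.exists_iso_Q_obj_of_isLE (N⟦i⟧) (hi - i)
  haveI := hL
  haveI : E.IsStrictlyLE b := (CochainComplex.isStrictlyLE_iff E b).2 fun j hj => hv j (Or.inr hj)
  haveI : ∀ j, Projective (E.X j) := fun j =>
    haveI := (hp j).2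
    (IsProjective.iff_projective _).1 inferInstance
  haveI : E.IsKProjective := CochainComplex.isKProjective_of_projective E b
  obtain ⟨g, hg⟩ := Groth.L02.PC.exists_chainMap (P := E) (K := L) (e.hom ≫ φ ≫ e'.hom)
  have h0 : g = 0 := by
    ext j : 1
    by_cases hj : j < a
    · exact (hv j (Or.inl hj)).eq_of_src _ _
    · exact (CochainComplex.isZero_of_isStrictlyLE L (hi - i) j (by omega)).eq_of_tgt _ _
  rw [h0, Functor.map_zero] at hg
  rw [← cancel_epi e.hom, ← cancel_mono e'.hom, Category.assoc, comp_zero, zero_comp]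
  exact hg.symm

variable {R A : Type u} [CommRing R] [CommRing A] [Algebra R A] (n : ℕ)
  (ψ : MvPolynomial (Fin n) R →ₐ[R] A)
  [DRing.HasLBaseChange (algebraMap R (MvPolynomial (Fin n) R))]
  {Rψ : Dual.D (MvPolynomial (Fin n) R) ⥤ Dual.D A} (adjψ : DRing.restrictD ψ.toRingHom ⊣ Rψ)

include adjψ in
/-- the upper shriek along a perfect presentation preserves upper bounds up to a shift -/
theorem exists_le_shriekVia
    (hp : DRing.IsPerfect (MvPolynomial (Fin n) R) (Dual.inD (MvPolynomial (Fin n) R) (ringRes ψ.toRingHom)))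
    (M : Dual.D R) (hi : ℤ) (hM : ∀ i : ℤ, hi < i → Subsingleton (Dual.HD R M i)) :
    ∃ b : ℤ, ∀ i : ℤ, b < i → Subsingleton (Dual.HD A (Dual2.shriekVia n Rψ M) i) := by
  let P := MvPolynomial (Fin n) R
  haveI : Module.Flat R P := Module.Flat.of_free
  obtain ⟨a, ha⟩ := exists_bound_hom hp
  let LK := (DRing.LBaseChange (algebraMap R P)).obj M
  have hLK : LK.IsLE hi := (DerivedCategory.isLE_iff LK hi).2 fun j hj => by
    haveI := hM j hj
    haveI : Subsingleton (Dual.HD P ((Groth.L29.FlatBC.L R P).obj M) j) :=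
      (Groth.L29.FlatBC.hEquiv R P M j).toEquiv.subsingleton
    exact (ModuleCat.isZero_of_subsingleton _).of_iso
      ((DerivedCategory.homologyFunctor _ j).mapIso ((Groth.L29.FlatBC.lbcIso (A := R) (B := P)).app M))
  refine ⟨hi - a - (n : ℤ), fun i hlt => ?_⟩
  haveI := (subsingleton_hom_iff _ adjψ (ModuleCat.of A A) LK ((n : ℤ) + i)).2 (ha LK hi hLK _ (by omega))
  haveI : Subsingleton (Dual.inD A A ⟶ (Dual2.shriekVia n Rψ M)⟦i⟧) :=
    (homShiftEquiv (Dual.inD A A) (Rψ.obj LK) n i ((n : ℤ) + i) rfl).toEquiv.subsingleton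
  exact (evalShiftEquiv (Dual2.shriekVia n Rψ M) i).symm.toEquiv.subsingleton

include adjψ in
/-- endomorphisms of the relative dualizing object of a perfect presentation -/
theorem end_shriekVia [IsNoetherianRing R] (hψ : Function.Surjective ψ)
    (hp : DRing.IsPerfect (MvPolynomial (Fin n) R) (Dual.inD (MvPolynomial (Fin n) R) (ringRes ψ.toRingHom))) :
    ∃ W : Dual.D A, Nonempty (W ≅ Dual2.shriekVia n Rψ (Dual.inD R R)) ∧
      Function.Bijective (fun c : A => c • 𝟙 W) ∧ ∀ i : ℤ, i ≠ 0 → Subsingleton (W ⟶ W⟦i⟧) := by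
  let P := MvPolynomial (Fin n) R
  obtain ⟨e⟩ := Groth.L10.Shriek.nonempty_lbc_inD (A := P) (algebraMap R P)
  let eP : (DRing.LBaseChange (algebraMap R P)).obj (Dual.inD R R) ≅ Dual.inD P P :=
    e ≪≫ ((DerivedCategory.singleFunctorIsoCompQ (ModuleCat.{u} P) 0).app _).symm
  obtain ⟨a, b, hab⟩ := Groth.L10.DR.amp_of_perfect hp
  have hamp : DRing.HasTorAmplitudeIn P (-(((-a).toNat : ℕ) : ℤ)) 0 (Dual.inD P (ringRes ψ.toRingHom)) :=
    Groth.L10.Shriek.amp_shrink (Groth.L10.DR.amp_mono hab (by omega) le_rfl)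
  obtain ⟨hbij, hvan, -⟩ := Groth.L10.Shriek.end_rightAdjoint ψ.toRingHom adjψ
    (finite_ringRes ψ.toRingHom hψ) _ hamp
  let W₀ := Rψ.obj (Dual.inD P P)
  let F := shiftFunctor (Dual.D A) (n : ℤ)
  refine ⟨W₀⟦(n : ℤ)⟧, ⟨F.mapIso (Rψ.mapIso eP.symm)⟩, ?_, fun i hi => ?_⟩
  · have h2 := (show Function.Bijective (fun v : W₀ ⟶ W₀ => F.map v) from
      ⟨F.map_injective, F.map_surjective⟩).comp hbij
    convert h2 using 2 with c
    simp [F, W₀, P]
  · haveI := hvan i hi
    haveI : Subsingleton (F.obj W₀ ⟶ F.obj (W₀⟦i⟧)) :=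
      (Equiv.ofBijective (fun v : W₀ ⟶ W₀⟦i⟧ => F.map v) ⟨F.map_injective, F.map_surjective⟩).symm.subsingleton
    exact (Iso.homCongr (Iso.refl (F.obj W₀)) (shiftComm W₀ i (n : ℤ))).symm.subsingleton

end Groth.L10.ShriekLoc
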